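import Cfsg.Agent.Lib.OstromWagner.Frame
import Mathlib.Algebra.Ring.Subring.Basic
import Mathlib.Algebra.Field.Basic
import Mathlib.Algebra.Field.TransferInstance
import Mathlib.GroupTheory.OrderOfElement
import Mathlib.Logic.Small.Basic
import Mathlib.Algebra.Field.IsField
import Mathlib.Algebra.Ring.Equiv
import Mathlib.Algebra.Group.Equiv.TypeTags

/-!
# The spread set of an affine frame and its coordinates
-/

set_option autoImplicit false
set_option linter.unusedSectionVars false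
set_option linter.style.haveILetI false

namespace CfsgLib.OW.Coords

open Configuration

universe u v w

/-- what the algebraic piece supplies: a spread set closed as in `hinv` is a commutative ring -/
def SpreadAlgebra : Prop :=
  ∀ {W : Type w} [AddCommGroup W] [Finite W] [Nontrivial W] (S : AddSubgroup (AddMonoid.End W)),
    (1 : AddMonoid.End W) ∈ S → Nat.card S = Nat.card W →
    (∀ a ∈ S, a ≠ 0 → Function.Bijective a) →
    (∀ a ∈ S, ∀ b ∈ S, ∀ a' b' : AddMonoid.End W, a * a' = 1 → a' * a = 1 → b * b' = 1 → b' * b = 1 →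
      a' + b' = 0 ∨ ∃ c ∈ S, c * (a' + b') = 1 ∧ (a' + b') * c = 1) →
    (∀ a ∈ S, ∀ b ∈ S, a * b = b * a) ∧ (∀ a ∈ S, ∀ b ∈ S, a * b ∈ S)

/-- A finite field in any universe has a copy in `Type`. -/
theorem exists_small_field {R : Type w} [Ring R] [Finite R] (h : IsField R) :
    ∃ (K : Type) (_ : Field K) (_ : Finite K), Nonempty (K ≃+* R) := by
  obtain ⟨n, ⟨eR⟩⟩ := Finite.exists_equiv_fin R
  let K := {_i : Fin n // True}
  let eK : K ≃ R := (Equiv.subtypeUnivEquiv fun _ => trivial).trans eR.symm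
  letI : Ring K := eK.ring
  let e : K ≃+* R := eK.ringEquiv
  have hK : IsField K := MulEquiv.isField h e.toMulEquiv
  exact ⟨K, hK.toField, inferInstance, ⟨e⟩⟩

variable {P : Type u} {L : Type v} [Membership P L] [ProjectivePlane P L] [Finite P] [Finite L]
variable {a : L} {V : Type w} [AddCommGroup V] [Finite V]

namespace Frame

variable {F : Frame (P := P) a V}

theorem slope_bijective {X Y U : P} (hX : X ∈ a) (hY : Y ∈ a) (hU : U ∈ a) 
    (hUX : U ≠ X) (hUY : U ≠ Y) {f : F.D X →+ F.D Y} (hf : F.IsSlope X Y U f) :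
    Function.Bijective f := by
  refine ⟨(injective_iff_map_eq_zero f).mpr fun x hx => ?_, fun y => ?_⟩
  · have h := hf x
    rw [hx, AddSubgroup.coe_zero, add_zero] at h
    exact Subtype.ext (F.eq_zero_of_mem hU hX hUX h x.2)
  · obtain ⟨x, hx, hyx⟩ := F.split hX hU hUX.symm (y : V)
    refine ⟨-⟨x, hx⟩, slope_eq hY hU hUY hf _ ?_⟩
    simpa [sub_eq_neg_add] using hyx

/-- A frame with three directions has coordinates in a finite field. -/
theorem exists_coords (hel : ElTrans P L) (halg : SpreadAlgebra.{w}) (F : Frame (P := P) a V)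
    {X Y E : P} (hX : X ∈ a) (hY : Y ∈ a) (hE : E ∈ a) (hXY : X ≠ Y) (hEX : E ≠ X) (hEY : E ≠ Y) :
    ∃ (K : Type) (_ : Field K) (_ : Fintype K) (ψ : K × K ≃+ V),
      (∀ c d, ψ (c, d) ∈ F.D Y ↔ c = 0) ∧
      (∀ U : P, U ∈ a → U ≠ Y → ∃ s : K, ∀ c d, ψ (c, d) ∈ F.D U ↔ d = s * c) ∧
      (∀ s : K, ∃ U : P, U ∈ a ∧ U ≠ Y ∧ ∀ c d, ψ (c, d) ∈ F.D U ↔ d = s * c) := by
  classical
  obtain ⟨fE, hfE⟩ := exists_slope (F := F) (X := X) hY hE hEY
  let j : F.D X ≃+ F.D Y := AddEquiv.ofBijective fE (slope_bijective hX hY hE hEX hEY hfE)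
  have hj : ∀ x, j x = fE x := fun _ => rfl
  obtain ⟨x₀, hx₀, hx₀0⟩ := F.exists_ne_zero hX
  haveI : Nontrivial (F.D X) :=
    ⟨⟨⟨x₀, hx₀⟩, 0, fun h => hx₀0 (congrArg Subtype.val h)⟩⟩
  haveI : Finite (AddMonoid.End (F.D X)) :=
    Finite.of_injective (fun f => (f : F.D X → F.D X)) DFunLike.coe_injective
  let mem : AddMonoid.End (F.D X) → Prop := fun s =>
    ∃ U : P, U ∈ a ∧ U ≠ Y ∧ ∀ x : F.D X, (x : V) + (j (s x) : V) ∈ F.D U
  let S₀ : AddSubmonoid (AddMonoid.End (F.D X)) :=
    { carrier := {s | mem s}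
      zero_mem' := ⟨X, hX, hXY, fun x => by simp⟩
      add_mem' := by
        rintro s t ⟨U, hU, hUY, hs⟩ ⟨U', hU', hU'Y, ht⟩
        obtain ⟨U'', hU'', hne, h⟩ := slope_add (F := F) hel hX hY hU hU' hXY hUY hU'Y
          (f := j.toAddMonoidHom.comp s) (f' := j.toAddMonoidHom.comp t) hs ht
        refine ⟨U'', hU'', hne, fun x => ?_⟩
        show (x : V) + (j (s x + t x) : V) ∈ F.D U''
        rw [map_add]
        exact h x }
  let S : AddSubgroup (AddMonoid.End (F.D X)) :=
    { S₀ with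
      neg_mem' := fun {s} hs => by
        have h : (addOrderOf s - 1) • s = -s := by
          refine eq_neg_of_add_eq_zero_left ?_
          rw [← succ_nsmul, Nat.sub_add_cancel (addOrderOf_pos s), addOrderOf_nsmul_eq_zero]
        show -s ∈ S₀
        exact h ▸ AddSubmonoid.nsmul_mem S₀ hs _ }
  have memS : ∀ s, s ∈ S ↔ mem s := fun _ => Iff.rfl
  have h1 : (1 : AddMonoid.End (F.D X)) ∈ S := ⟨E, hE, hEY, fun x => hfE x⟩
  -- a direction other than `Y` gives a member of `S`
  have ofDir : ∀ U : P, U ∈ a → U ≠ Y → ∃ s ∈ S, ∀ x : F.D X, (x : V) + (j (s x) : V) ∈ F.D U := by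
    intro U hU hUY
    obtain ⟨f, hf⟩ := exists_slope (F := F) (X := X) hY hU hUY
    refine ⟨j.symm.toAddMonoidHom.comp f, ⟨U, hU, hUY, fun x => ?_⟩, fun x => ?_⟩ <;>
      (show (x : V) + (j (j.symm (f x)) : V) ∈ F.D U; rw [j.apply_symm_apply]; exact hf x)
  -- evaluation at a nonzero vector
  have notY : ∀ (x : F.D X), x ≠ 0 → ∀ y : F.D Y, (x : V) + y ∉ F.D Y := fun x hx y h =>
    hx (Subtype.ext (F.eq_zero_of_mem hX hY hXY x.2 (by simpa using (F.D Y).sub_mem h y.2)))
  let w₀ : F.D X := ⟨x₀, hx₀⟩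
  have hw₀ : w₀ ≠ 0 := fun h => hx₀0 (congrArg Subtype.val h)
  have evinj : ∀ (x : F.D X), x ≠ 0 → ∀ s ∈ S, ∀ t ∈ S, s x = t x → s = t := by
    rintro x hx s ⟨U, hU, hUY, hs⟩ t ⟨U', hU', hU'Y, ht⟩ h
    have hne : (x : V) + (j (s x) : V) ≠ 0 := fun e =>
      notY x hx (j (s x)) (e.symm ▸ (F.D Y).zero_mem)
    obtain rfl : U = U' := F.dir_unique hne hU hU' (hs x) (h ▸ ht x)
    refine AddMonoidHom.ext fun z => j.injective (Subtype.ext ?_)
    exact slope_unique hY hU hUY (j (s z)).2 (j (t z)).2 (hs z) (ht z)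
  have evsurj : ∀ z : F.D X, ∃ s ∈ S, s w₀ = z := by
    intro z
    obtain ⟨U, hU, hz⟩ := F.exists_dir ((w₀ : V) + (j z : V))
    have hUY : U ≠ Y := fun e => notY w₀ hw₀ (j z) (e ▸ hz)
    obtain ⟨s, hs, hsU⟩ := ofDir U hU hUY
    refine ⟨s, hs, j.injective (Subtype.ext ?_)⟩
    exact slope_unique hY hU hUY (j (s w₀)).2 (j z).2 (hsU w₀) hz
  let ev : S → F.D X := fun s => (s : AddMonoid.End (F.D X)) w₀
  have hev : Function.Bijective ev :=
    ⟨fun s t h => Subtype.ext (evinj w₀ hw₀ s s.2 t t.2 h), fun z =>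
      (evsurj z).elim fun s hs => ⟨⟨s, hs.1⟩, hs.2⟩⟩
  have hbij : ∀ s ∈ S, s ≠ 0 → Function.Bijective s := by
    intro s hs hs0
    refine Finite.injective_iff_bijective.mp ((injective_iff_map_eq_zero s).mpr fun x hx => ?_)
    by_contra hxne
    exact hs0 (evinj x hxne s hs 0 S.zero_mem (by rw [hx]; rfl))
  have hinv : ∀ s ∈ S, ∀ t ∈ S, ∀ s' t' : AddMonoid.End (F.D X), s * s' = 1 → s' * s = 1 →
      t * t' = 1 → t' * t = 1 → s' + t' = 0 ∨ ∃ c ∈ S, c * (s' + t') = 1 ∧ (s' + t') * c = 1 := by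
    -- an inverse of a member of `S` is a slope with the axes interchanged
    have key : ∀ s ∈ S, ∀ s' : AddMonoid.End (F.D X), s * s' = 1 → ∃ U : P, U ∈ a ∧ U ≠ X ∧
        F.IsSlope Y X U ((s'.comp j.symm.toAddMonoidHom : F.D Y →+ F.D X)) := by
      rintro s ⟨U, hU, hUY, hs⟩ s' h
      have hss : ∀ x, s (s' x) = x := fun x => DFunLike.congr_fun h x
      refine ⟨U, hU, ?_, fun y => ?_⟩
      · rintro rfl
        have h2 : ((j (s (s' w₀))) : V) ∈ F.D U := by
          simpa using (F.D U).sub_mem (hs (s' w₀)) (s' w₀).2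
        rw [hss] at h2
        have h3 : j w₀ = 0 := Subtype.ext (F.eq_zero_of_mem hU hY hXY h2 (j w₀).2)
        exact hw₀ (j.map_eq_zero_iff.mp h3)
      · show (y : V) + (s' (j.symm y) : V) ∈ F.D U
        have := hs (s' (j.symm y))
        rw [hss, j.apply_symm_apply] at this
        rwa [add_comm] at this
    intro s hs t ht s' t' h1s _ h1t _
    obtain ⟨U, hU, hUX, hg⟩ := key s hs s' h1s
    obtain ⟨U', hU', hU'X, hg'⟩ := key t ht t' h1t
    obtain ⟨U'', hU'', hne, hsum⟩ :=
      slope_add (F := F) hel hY hX hU hU' hXY.symm hUX hU'X hg hg'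
    by_cases hY'' : U'' = Y
    · subst hY''
      refine Or.inl (AddMonoidHom.ext fun x => ?_)
      have := slope_eq hX hU'' hne hsum (j x) (y := 0) (by simp)
      show s' x + t' x = 0
      replace this : s' (j.symm (j x)) + t' (j.symm (j x)) = 0 := this
      rwa [j.symm_apply_apply] at this
    · obtain ⟨c, hcS, hc⟩ := ofDir U'' hU'' hY''
      refine Or.inr ⟨c, hcS, AddMonoidHom.ext fun x => ?_, AddMonoidHom.ext fun x => ?_⟩
      · show c ((s' + t') x) = x
        refine j.injective (Subtype.ext ?_)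
        refine slope_unique hY hU'' hY'' (j _).2 (j x).2 (hc _) ?_
        have := hsum (j x)
        replace this : (j x : V) + ((s' (j.symm (j x)) + t' (j.symm (j x)) : F.D X) : V) ∈ F.D U'' :=
          this
        rw [j.symm_apply_apply, add_comm] at this
        exact this
      · show (s' + t') (c x) = x
        have := slope_eq hX hU'' hne hsum (j (c x)) (y := x) (by rw [add_comm]; exact hc x)
        replace this : s' (j.symm (j (c x))) + t' (j.symm (j (c x))) = x := this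
        rw [j.symm_apply_apply] at this
        exact this
  obtain ⟨hcomm, hmul⟩ := halg S h1 (Nat.card_eq_of_bijective ev hev) hbij hinv
  -- the field
  let R : Subring (AddMonoid.End (F.D X)) :=
    { S with
      mul_mem' := fun hs ht => hmul _ hs _ ht
      one_mem' := h1 }
  haveI : Finite R := Subtype.finite
  have hfld : IsField R := by
    refine ⟨⟨0, 1, fun h => ?_⟩, fun s t => Subtype.ext (hcomm _ s.2 _ t.2), fun {s} hs => ?_⟩
    · exact hw₀ (DFunLike.congr_fun (congrArg Subtype.val h) w₀).symm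
    · have hb := hbij s.1 s.2 fun e => hs (Subtype.ext e)
      have hinjm : Function.Injective fun t : R => s * t := fun t t' h => by
        refine Subtype.ext (AddMonoidHom.ext fun x => hb.1 ?_)
        exact DFunLike.congr_fun (congrArg Subtype.val h) x
      exact (Finite.injective_iff_surjective.mp hinjm) 1
  obtain ⟨K, instK, finK, ⟨e⟩⟩ := exists_small_field (R := R) hfld
  let κ : K ≃+ F.D X :=
    AddEquiv.ofBijective
      (AddMonoidHom.mk' (fun c => (e c : AddMonoid.End (F.D X)) w₀) fun c d => by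
        rw [e.map_add]; rfl)
      (hev.comp e.bijective)
  have hκ : ∀ c d, κ (c * d) = (e c : AddMonoid.End (F.D X)) (κ d) := fun c d => by
    show ((e (c * d)) : AddMonoid.End (F.D X)) w₀ = _
    rw [e.map_mul]
    rfl
  let ψ₀ : K × K →+ V :=
    AddMonoidHom.mk' (fun x => (κ x.1 : V) + (j (κ x.2) : V)) fun x y => by
      simp only [Prod.fst_add, Prod.snd_add, map_add, AddSubgroup.coe_add]
      abel
  have hψ : Function.Bijective ψ₀ := by
    refine ⟨(injective_iff_map_eq_zero ψ₀).mpr fun x hx => ?_, fun v => ?_⟩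
    · have h1 : κ x.1 = 0 := by
        by_contra h1
        exact notY _ h1 (j (κ x.2)) ((show (κ x.1 : V) + (j (κ x.2) : V) = 0 from hx).symm ▸
          (F.D Y).zero_mem)
      have h2 : j (κ x.2) = 0 := Subtype.ext <| by
        have := (show (κ x.1 : V) + (j (κ x.2) : V) = 0 from hx)
        rw [h1] at this
        simpa using this
      exact Prod.ext (κ.map_eq_zero_iff.mp h1) (κ.map_eq_zero_iff.mp (j.map_eq_zero_iff.mp h2))
    · obtain ⟨x, hx, hvx⟩ := F.split hX hY hXY v
      refine ⟨(κ.symm ⟨x, hx⟩, κ.symm (j.symm ⟨v - x, hvx⟩)), ?_⟩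
      show (κ (κ.symm ⟨x, hx⟩) : V) + (j (κ (κ.symm (j.symm ⟨v - x, hvx⟩))) : V) = v
      rw [κ.apply_symm_apply, κ.apply_symm_apply, j.apply_symm_apply]
      exact add_sub_cancel x v
  have slope : ∀ (U : P), U ∈ a → U ≠ Y → ∀ s : K,
      (∀ x : F.D X, (x : V) + (j ((e s : AddMonoid.End (F.D X)) x) : V) ∈ F.D U) →
      ∀ c d, ψ₀ (c, d) ∈ F.D U ↔ d = s * c := by
    intro U hU hUY s hs c d
    constructor
    · intro h
      refine κ.injective (j.injective (Subtype.ext ?_))
      refine slope_unique hY hU hUY (j _).2 (j _).2 h ?_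
      rw [hκ]
      exact hs (κ c)
    · rintro rfl
      show (κ c : V) + (j (κ (s * c)) : V) ∈ F.D U
      rw [hκ]
      exact hs (κ c)
  refine ⟨K, instK, Fintype.ofFinite _, AddEquiv.ofBijective ψ₀ hψ, ?_, ?_, ?_⟩
  · intro c d
    show (κ c : V) + (j (κ d) : V) ∈ F.D Y ↔ c = 0
    constructor
    · intro h
      by_contra hc
      exact notY _ (fun e => hc (κ.map_eq_zero_iff.mp e)) _ h
    · rintro rfl
      rw [map_zero, AddSubgroup.coe_zero, zero_add]
      exact (j (κ d)).2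
  · intro U hU hUY
    obtain ⟨s, hs, hsU⟩ := ofDir U hU hUY
    refine ⟨e.symm ⟨s, hs⟩, slope U hU hUY _ ?_⟩
    intro x
    rw [e.apply_symm_apply]
    exact hsU x
  · intro s
    obtain ⟨U, hU, hUY, hs⟩ := (e s).2
    exact ⟨U, hU, hUY, slope U hU hUY s hs⟩

end Frame

end CfsgLib.OW.Coords
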