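import Mathlib.Combinatorics.Configuration
import Mathlib.GroupTheory.GroupAction.Basic
import Mathlib.GroupTheory.Sylow
import Mathlib.Data.Nat.Cast.Order.Ring

/-!
# Collineations of finite projective planes: definitions and first facts

Used for the theorem of Ostrom and Wagner (a finite projective plane with a doubly transitive
group is Desarguesian). A plane is a pair of types `P`, `L` with Mathlib's
`Configuration.ProjectivePlane P L`. A collineation is a pair of permutations preserving incidence.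
-/

set_option autoImplicit false

namespace CfsgLib.OW

open Configuration

variable (P L : Type*) [Membership P L]

/-- pairs of permutations of points and lines that preserve incidence -/
def collineations : Subgroup (Equiv.Perm P × Equiv.Perm L) where
  carrier := {x | ∀ p l, x.1 p ∈ x.2 l ↔ p ∈ l}
  one_mem' := fun _ _ => Iff.rfl
  mul_mem' := fun {x y} hx hy p l => (hx (y.1 p) (y.2 l)).trans (hy p l)
  inv_mem' := fun {x} hx p l => by
    have h := hx (x.1⁻¹ p) (x.2⁻¹ l)
    simp only [Equiv.Perm.coe_inv, Equiv.apply_symm_apply] at h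
    simpa using h.symm

/-- the group of collineations -/
abbrev Coll : Type _ := ↥(collineations P L)

variable {P L}

instance : MulAction (Coll P L) P where
  smul σ p := σ.1.1 p
  one_smul _ := rfl
  mul_smul _ _ _ := rfl

/-- the action on lines -/
instance (priority := 900) : MulAction (Coll P L) L where
  smul σ l := σ.1.2 l
  one_smul _ := rfl
  mul_smul _ _ _ := rfl

theorem smul_point_def (σ : Coll P L) (p : P) : σ • p = σ.1.1 p := rfl

theorem smul_line_def (σ : Coll P L) (l : L) : σ • l = σ.1.2 l := rfl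

@[simp]
theorem smul_mem_smul (σ : Coll P L) {p : P} {l : L} : σ • p ∈ σ • l ↔ p ∈ l := σ.2 p l

theorem mem_smul_iff (σ : Coll P L) {p : P} {l : L} : p ∈ σ • l ↔ σ⁻¹ • p ∈ l := by
  conv_lhs => rw [← smul_inv_smul σ p]
  exact smul_mem_smul σ

theorem smul_mem_iff (σ : Coll P L) {p : P} {l : L} : σ • p ∈ l ↔ p ∈ σ⁻¹ • l := by
  rw [mem_smul_iff, inv_inv]

/-- the line `a` is an axis of `σ`: all its points are fixed -/
def IsAxis (σ : Coll P L) (a : L) : Prop := ∀ p : P, p ∈ a → σ • p = p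

/-- the point `C` is a centre of `σ`: all lines through it are fixed -/
def IsCentre (σ : Coll P L) (C : P) : Prop := ∀ l : L, C ∈ l → σ • l = l

/-- a non-identity collineation with centre `C` and axis `a` -/
def IsPersp (σ : Coll P L) (C : P) (a : L) : Prop := σ ≠ 1 ∧ IsCentre σ C ∧ IsAxis σ a

/-- an elation: centre on the axis -/
def IsElation (σ : Coll P L) : Prop := ∃ (C : P) (a : L), C ∈ a ∧ IsPersp σ C a

/-- a homology: centre off the axis -/
def IsHomology (σ : Coll P L) : Prop := ∃ (C : P) (a : L), C ∉ a ∧ IsPersp σ C a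

/-- the elations of `G` with given centre and axis, with the identity -/
def elSet (G : Subgroup (Coll P L)) (C : P) (a : L) : Set (Coll P L) :=
  {σ | σ ∈ G ∧ IsCentre σ C ∧ IsAxis σ a}

/-- `X` is doubly transitive on the points -/
def TwoTransitive (G : Subgroup (Coll P L)) : Prop :=
  ∀ p₁ p₂ q₁ q₂ : P, p₁ ≠ p₂ → q₁ ≠ q₂ → ∃ σ ∈ G, σ • p₁ = q₁ ∧ σ • p₂ = q₂

theorem IsAxis.one (a : L) : IsAxis (1 : Coll P L) a := fun p _ => one_smul _ p

theorem IsCentre.one (C : P) : IsCentre (1 : Coll P L) C := fun l _ => one_smul _ l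

theorem IsAxis.mul {σ τ : Coll P L} {a : L} (hs : IsAxis σ a) (ht : IsAxis τ a) : IsAxis (σ * τ) a :=
  fun p hp => by rw [mul_smul, ht p hp, hs p hp]

theorem IsAxis.inv {σ : Coll P L} {a : L} (hs : IsAxis σ a) : IsAxis σ⁻¹ a :=
  fun p hp => inv_smul_eq_iff.mpr (hs p hp).symm

theorem IsCentre.mul {σ τ : Coll P L} {C : P} (hs : IsCentre σ C) (ht : IsCentre τ C) :
    IsCentre (σ * τ) C :=
  fun l hl => by rw [mul_smul, ht l hl, hs l hl]

theorem IsCentre.inv {σ : Coll P L} {C : P} (hs : IsCentre σ C) : IsCentre σ⁻¹ C :=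
  fun l hl => inv_smul_eq_iff.mpr (hs l hl).symm

/-- perspectivities of `G` with centre `C` and axis `a`, as a subgroup -/
def perspGroup (G : Subgroup (Coll P L)) (C : P) (a : L) : Subgroup (Coll P L) where
  carrier := elSet G C a
  one_mem' := ⟨G.one_mem, IsCentre.one C, IsAxis.one a⟩
  mul_mem' := fun hx hy => ⟨G.mul_mem hx.1 hy.1, hx.2.1.mul hy.2.1, hx.2.2.mul hy.2.2⟩
  inv_mem' := fun hx => ⟨G.inv_mem hx.1, hx.2.1.inv, hx.2.2.inv⟩

theorem mem_perspGroup {G : Subgroup (Coll P L)} {C : P} {a : L} {σ : Coll P L} :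
    σ ∈ perspGroup G C a ↔ σ ∈ G ∧ IsCentre σ C ∧ IsAxis σ a := Iff.rfl

/-- conjugation moves axes -/
theorem IsAxis.conj {σ : Coll P L} {a : L} (h : IsAxis σ a) (g : Coll P L) :
    IsAxis (g * σ * g⁻¹) (g • a) := fun p hp => by
  rw [mem_smul_iff] at hp
  rw [mul_smul, mul_smul, h _ hp, smul_inv_smul]

/-- conjugation moves centres -/
theorem IsCentre.conj {σ : Coll P L} {C : P} (h : IsCentre σ C) (g : Coll P L) :
    IsCentre (g * σ * g⁻¹) (g • C) := fun l hl => by
  rw [smul_mem_iff] at hl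
  rw [mul_smul, mul_smul, h _ hl, smul_inv_smul]

theorem IsPersp.conj {σ : Coll P L} {C : P} {a : L} (h : IsPersp σ C a) (g : Coll P L) :
    IsPersp (g * σ * g⁻¹) (g • C) (g • a) :=
  ⟨fun e => h.1 (conj_eq_one_iff.mp e), h.2.1.conj g, h.2.2.conj g⟩

section Plane

variable [ProjectivePlane P L]

theorem existsUnique_join {p q : P} (h : p ≠ q) : ∃! l : L, p ∈ l ∧ q ∈ l :=
  HasLines.existsUnique_line P L p q h

theorem line_eq {p q : P} {l m : L} (h : p ≠ q) (hpl : p ∈ l) (hql : q ∈ l) (hpm : p ∈ m) (hqm : q ∈ m) :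
    l = m :=
  (Nondegenerate.eq_or_eq hpl hql hpm hqm).resolve_left h

theorem point_eq {p q : P} {l m : L} (h : l ≠ m) (hpl : p ∈ l) (hpm : p ∈ m) (hql : q ∈ l) (hqm : q ∈ m) :
    p = q :=
  (Nondegenerate.eq_or_eq hpl hql hpm hqm).resolve_right h

theorem exists_join (p q : P) : ∃ l : L, p ∈ l ∧ q ∈ l := by
  by_cases h : p = q
  · obtain ⟨r, hr⟩ := Nondegenerate.exists_line (P := P) (L := L) p
    obtain ⟨s, hs⟩ := Nondegenerate.exists_point (P := P) (L := L) r
    by_cases hps : p = s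
    · obtain ⟨a, b, c, l₁, l₂, l₃, h1, -, -, h2, -, -, h3, -⟩ := @ProjectivePlane.exists_config P L _ _
      by_cases hpa : p = a
      · obtain ⟨l, hl, -⟩ := existsUnique_join (L := L) (p := p) (q := b) (hpa ▸ fun e => h1 (e ▸ h2))
        exact ⟨l, hl.1, h ▸ hl.1⟩
      · obtain ⟨l, hl, -⟩ := existsUnique_join (L := L) hpa
        exact ⟨l, hl.1, h ▸ hl.1⟩
    · obtain ⟨l, hl, -⟩ := existsUnique_join (L := L) hps
      exact ⟨l, hl.1, h ▸ hl.1⟩
  · obtain ⟨l, hl, -⟩ := existsUnique_join (L := L) h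
    exact ⟨l, hl⟩

theorem existsUnique_meet {l m : L} (h : l ≠ m) : ∃! p : P, p ∈ l ∧ p ∈ m :=
  HasPoints.existsUnique_point P L l m h

/-- a fixed pair of points has a fixed join -/
theorem smul_join_eq {σ : Coll P L} {p q : P} {l : L} (h : p ≠ q) (hp : σ • p = p) (hq : σ • q = q)
    (hpl : p ∈ l) (hql : q ∈ l) : σ • l = l := by
  refine line_eq h ?_ ?_ hpl hql
  · rw [← hp]; exact (smul_mem_smul σ).mpr hpl
  · rw [← hq]; exact (smul_mem_smul σ).mpr hql

/-- a fixed pair of lines has a fixed meet -/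
theorem smul_meet_eq {σ : Coll P L} {l m : L} {p : P} (h : l ≠ m) (hl : σ • l = l) (hm : σ • m = m)
    (hpl : p ∈ l) (hpm : p ∈ m) : σ • p = p := by
  refine point_eq h ?_ ?_ hpl hpm
  · rw [← hl]; exact (smul_mem_smul σ).mpr hpl
  · rw [← hm]; exact (smul_mem_smul σ).mpr hpm

/-- a collineation is determined by its action on the points -/
theorem eq_one_of_forall_point {σ : Coll P L} (h : ∀ p : P, σ • p = p) : σ = 1 := by
  refine Subtype.ext (Prod.ext (Equiv.ext h) (Equiv.ext fun l => ?_))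
  show σ • l = l
  obtain ⟨a, b, c, l₁, l₂, l₃, h1, -, -, h2, -, -, h3, -⟩ := @ProjectivePlane.exists_config P L _ _
  by_contra hne
  obtain ⟨r, hr⟩ := Nondegenerate.exists_point (P := P) l
  obtain ⟨x, hx, hxu⟩ := existsUnique_meet (P := P) hne
  obtain ⟨y, hy⟩ : ∃ y : P, y ∈ l ∧ y ≠ x := by
    by_cases ha : ∀ m : L, r ∈ m → x ∈ m → False
    · obtain ⟨m, hm⟩ := exists_join (L := L) r x
      exact absurd hm.2 (fun e => ha m hm.1 e)
    · obtain ⟨m, hm⟩ : ∃ m : L, r ∈ m ∧ x ∉ m := by
        obtain ⟨k, hk⟩ := Nondegenerate.exists_line (P := P) (L := L) x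
        obtain ⟨t, ht, -⟩ := existsUnique_meet (P := P) (l := l) (m := k) (fun e => hk (e ▸ hx.2))
        have htx : t ≠ x := fun e => hk (e ▸ ht.2)
        have htr : t ≠ r := fun e => hr (e ▸ ht.1)
        obtain ⟨m, hm, -⟩ := existsUnique_join (L := L) htr
        refine ⟨m, hm.2, fun e => ?_⟩
        exact hr ((line_eq htx ht.1 hx.2 hm.1 e) ▸ hm.2)
      obtain ⟨y, hy, -⟩ := existsUnique_meet (P := P) (l := l) (m := m) (fun e => hr (e ▸ hm.1))
      exact ⟨y, hy.1, fun e => hm.2 (e ▸ hy.2)⟩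
  refine hy.2 (hxu y ⟨?_, hy.1⟩)
  rw [← h y]
  exact (smul_mem_smul σ).mpr hy.1

instance [Finite P] [Finite L] : Finite (Coll P L) := Subtype.finite

variable [Finite P] [Finite L]

theorem card_line (l : L) : Nat.card {p : P // p ∈ l} = ProjectivePlane.order P L + 1 :=
  ProjectivePlane.pointCount_eq P l

theorem card_pencil (p : P) : Nat.card {l : L // p ∈ l} = ProjectivePlane.order P L + 1 :=
  ProjectivePlane.lineCount_eq L p

theorem card_point : Nat.card P = ProjectivePlane.order P L ^ 2 + ProjectivePlane.order P L + 1 := by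
  cases nonempty_fintype P
  rw [Nat.card_eq_fintype_card]
  exact ProjectivePlane.card_points P L

theorem card_lineSet : Nat.card L = ProjectivePlane.order P L ^ 2 + ProjectivePlane.order P L + 1 := by
  cases nonempty_fintype L
  rw [Nat.card_eq_fintype_card]
  exact ProjectivePlane.card_lines P L

end Plane

end CfsgLib.OW
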