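import Mathlib

/-!
A spread set with additively closed inverses is a field: Hua's identity gives `a b a`, then the
characteristic polynomial of the generic element and the theorem of Chevalley and Warning give
commutativity.
-/

set_option autoImplicit false
set_option linter.style.haveILetI false

namespace CfsgLib.OW

open Matrix

section Matrices

variable {p : ℕ} [Fact p.Prime] {d : ℕ}

/-- The generic element of a list of matrices, over the polynomial ring. -/
noncomputable def genMat (M : Fin d → Matrix (Fin d) (Fin d) (ZMod p)) :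
    Matrix (Fin d) (Fin d) (MvPolynomial (Fin d) (ZMod p)) :=
  ∑ i, (MvPolynomial.X i : MvPolynomial (Fin d) (ZMod p)) • (M i).map MvPolynomial.C

theorem genMat_map (M : Fin d → Matrix (Fin d) (Fin d) (ZMod p)) {A : Type*} [CommRing A]
    [Algebra (ZMod p) A] (f : MvPolynomial (Fin d) (ZMod p) →ₐ[ZMod p] A) :
    (genMat M).map f = ∑ i, f (MvPolynomial.X i) • (M i).map (algebraMap (ZMod p) A) := by
  ext r c
  simp only [genMat, Matrix.map_apply, Matrix.sum_apply, Matrix.smul_apply, map_sum, smul_eq_mul,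
    map_mul, ← MvPolynomial.algebraMap_eq, AlgHom.commutes]

theorem totalDegree_charpoly_genMat (M : Fin d → Matrix (Fin d) (Fin d) (ZMod p)) :
    ((MvPolynomial.optionEquivLeft (ZMod p) (Fin d)).symm (genMat M).charpoly).totalDegree ≤ d := by
  classical
  have h := RingHom.map_det
    ((MvPolynomial.optionEquivLeft (ZMod p) (Fin d)).symm.toAlgHom.toRingHom) (genMat M).charmatrix
  have h' : (MvPolynomial.optionEquivLeft (ZMod p) (Fin d)).symm (genMat M).charpoly = _ := h
  rw [h', Matrix.det_apply]
  refine MvPolynomial.totalDegree_finsetSum_le fun σ _ => ?_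
  refine (MvPolynomial.totalDegree_smul_le _ _).trans ((MvPolynomial.totalDegree_finsetProd _ _).trans ?_)
  refine (Finset.sum_le_card_nsmul _ _ 1 fun i _ => ?_).trans (by simp)
  rw [RingHom.mapMatrix_apply, Matrix.map_apply, Matrix.charmatrix_apply]
  have hkey : ∀ x : Polynomial (MvPolynomial (Fin d) (ZMod p)),
      (MvPolynomial.optionEquivLeft (ZMod p) (Fin d)).symm.toAlgHom.toRingHom x =
        (MvPolynomial.optionEquivLeft (ZMod p) (Fin d)).symm x := fun _ => rfl
  rw [hkey, map_sub]
  refine (MvPolynomial.totalDegree_sub _ _).trans (max_le ?_ ?_)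
  · rw [Matrix.diagonal_apply]
    split_ifs
    · rw [show (MvPolynomial.optionEquivLeft (ZMod p) (Fin d)).symm Polynomial.X = MvPolynomial.X none from
        (AlgEquiv.symm_apply_eq _).2 (MvPolynomial.optionEquivLeft_X_none _ _).symm,
        MvPolynomial.totalDegree_X]
    · rw [map_zero, MvPolynomial.totalDegree_zero]; exact zero_le
  · have e : Polynomial.C (genMat M (σ i) i) = MvPolynomial.optionEquivLeft (ZMod p) (Fin d)
        (∑ j, MvPolynomial.C (M j (σ i) i) * MvPolynomial.X (some j)) := by
      rw [map_sum, genMat, Matrix.sum_apply, map_sum]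
      refine Finset.sum_congr rfl fun j _ => ?_
      rw [map_mul, MvPolynomial.optionEquivLeft_C, MvPolynomial.optionEquivLeft_X_some, ← map_mul,
        Matrix.smul_apply, Matrix.map_apply, smul_eq_mul, mul_comm]
    rw [e, AlgEquiv.symm_apply_apply]
    refine MvPolynomial.totalDegree_finsetSum_le fun j _ => (MvPolynomial.totalDegree_mul _ _).trans ?_
    rw [MvPolynomial.totalDegree_C, MvPolynomial.totalDegree_X]

/-- The minimal polynomial of the generic element of a division subspace has full degree. -/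
theorem le_natDegree_of_dvd (M : Fin d → Matrix (Fin d) (Fin d) (ZMod p)) (hli : LinearIndependent (ZMod p) M)
    (hdet : ∀ v : Fin d → ZMod p, (∑ i, v i • M i) ≠ 0 → (∑ i, v i • M i).det ≠ 0)
    {μ : Polynomial (MvPolynomial (Fin d) (ZMod p))} (hμ : μ.Monic) (hpos : 0 < μ.natDegree)
    (hdvd : μ ∣ (genMat M).charpoly) : d ≤ μ.natDegree := by
  classical
  by_contra hlt
  push Not at hlt
  obtain ⟨ν, hν⟩ := hdvd
  have hνm : ν.Monic := hμ.of_mul_monic_left (hν ▸ Matrix.charpoly_monic _)
  have hdeg : μ.natDegree + ν.natDegree = d := by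
    rw [← hμ.natDegree_mul hνm, ← hν, Matrix.charpoly_natDegree_eq_dim, Fintype.card_fin]
  set E := MvPolynomial.optionEquivLeft (ZMod p) (Fin d) with hE
  have h1 : (E.symm μ).totalDegree + (E.symm ν).totalDegree ≤ d := by
    rw [← MvPolynomial.totalDegree_mul_of_isDomain (by simpa using hμ.ne_zero) (by simpa using hνm.ne_zero),
      ← map_mul, ← hν]
    exact totalDegree_charpoly_genMat M
  have h2 : ν.natDegree ≤ (E.symm ν).totalDegree := by
    conv_lhs => rw [← E.apply_symm_apply ν]
    rw [hE, MvPolynomial.natDegree_optionEquivLeft]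
    exact MvPolynomial.degreeOf_le_totalDegree _ _
  have h3 : (μ.coeff 0).totalDegree < Fintype.card (Fin d) := by
    have := MvPolynomial.totalDegree_coeff_optionEquivLeft_le (ZMod p) (Fin d) (E.symm μ) 0
    rw [← hE, E.apply_symm_apply] at this
    rw [Fintype.card_fin]
    omega
  -- the only zero is the origin
  have hzero : ∀ v : Fin d → ZMod p, MvPolynomial.eval v (μ.coeff 0) = 0 ↔ v = 0 := by
    intro v
    set f := MvPolynomial.aeval (R := ZMod p) v with hf
    have hmap : (genMat M).map f = ∑ i, v i • M i := by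
      rw [genMat_map]
      refine Finset.sum_congr rfl fun i _ => ?_
      rw [hf, MvPolynomial.aeval_X]
      congr 1
    have hχ : μ.map f.toRingHom * ν.map f.toRingHom = (∑ i, v i • M i).charpoly := by
      rw [← Polynomial.map_mul, ← hν, ← hmap, ← Matrix.charpoly_map]
      rfl
    have hev : MvPolynomial.eval v (μ.coeff 0) = (μ.map f.toRingHom).coeff 0 := by
      rw [Polynomial.coeff_map]
      rfl
    rw [hev]
    constructor
    · intro h
      by_contra hv
      have hne : (∑ i, v i • M i) ≠ 0 := fun e =>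
        hv (funext (Fintype.linearIndependent_iff.1 hli v e))
      refine hdet v hne ?_
      rw [Matrix.det_eq_sign_charpoly_coeff, ← hχ, Polynomial.mul_coeff_zero, h, zero_mul, mul_zero]
    · rintro rfl
      simp only [Pi.zero_apply, zero_smul, Finset.sum_const_zero, Matrix.charpoly_zero] at hχ
      obtain ⟨i, -, hi⟩ := (dvd_prime_pow Polynomial.prime_X _).1 ⟨_, hχ.symm⟩
      have hi' := Polynomial.eq_of_monic_of_associated (hμ.map _) (Polynomial.monic_X_pow i) hi
      have hn : μ.natDegree = i := by rw [← hμ.natDegree_map f.toRingHom, hi', Polynomial.natDegree_X_pow]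
      rw [hi', Polynomial.coeff_X_pow, if_neg (by omega)]
  have h4 := char_dvd_card_solutions p h3
  have h5 : Fintype.card {x : Fin d → ZMod p // MvPolynomial.eval x (μ.coeff 0) = 0} = 1 :=
    Fintype.card_eq_one_iff.2 ⟨⟨0, (hzero 0).2 rfl⟩, fun x => Subtype.ext ((hzero _).1 x.2)⟩
  rw [h5] at h4
  exact (Fact.out : p.Prime).one_lt.ne' (Nat.dvd_one.1 h4)

/-- A division subspace of matrices of full dimension closed under `a b a` is commutative. -/
theorem commute_of_closed (S : Submodule (ZMod p) (Matrix (Fin d) (Fin d) (ZMod p)))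
    (h1 : (1 : Matrix (Fin d) (Fin d) (ZMod p)) ∈ S) (hdim : Module.finrank (ZMod p) S = d)
    (hdet : ∀ a ∈ S, a ≠ 0 → a.det ≠ 0) (hU : ∀ a ∈ S, ∀ b ∈ S, a * b * a ∈ S) :
    ∀ a ∈ S, ∀ b ∈ S, a * b = b * a := by
  classical
  rcases Nat.eq_zero_or_pos d with hd | hd
  · subst hd
    exact fun a _ b _ => Subsingleton.elim _ _
  let B := Module.finBasisOfFinrankEq (ZMod p) S hdim
  set M : Fin d → Matrix (Fin d) (Fin d) (ZMod p) := fun i => (B i).1 with hM
  have hMS : ∀ i, M i ∈ S := fun i => (B i).2
  have hli : LinearIndependent (ZMod p) M :=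
    B.linearIndependent.map' S.subtype S.ker_subtype
  let K := FractionRing (MvPolynomial (Fin d) (ZMod p))
  let ι : Matrix (Fin d) (Fin d) (ZMod p) →ₐ[ZMod p] Matrix (Fin d) (Fin d) K :=
    (Algebra.ofId (ZMod p) K).mapMatrix
  set U : Submodule K (Matrix (Fin d) (Fin d) K) := Submodule.span K (Set.range fun i => ι (M i)) with hUdef
  have hιU : ∀ a ∈ S, ι a ∈ U := by
    intro a ha
    have e := congrArg Subtype.val (B.sum_repr ⟨a, ha⟩)
    simp only [Submodule.coe_sum, Submodule.coe_smul] at e
    rw [← e, map_sum]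
    exact U.sum_mem fun i _ => by
      rw [map_smul]
      exact U.smul_of_tower_mem _ (Submodule.subset_span ⟨i, rfl⟩)
  let ξ : Fin d → K := fun i => algebraMap (MvPolynomial (Fin d) (ZMod p)) K (MvPolynomial.X i)
  have hpol : ∀ a ∈ S, ∀ b ∈ S, ∀ c ∈ S, a * b * c + c * b * a ∈ S := by
    intro a ha b hb c hc
    have e : a * b * c + c * b * a = (a + c) * b * (a + c) - a * b * a - c * b * c := by noncomm_ring
    rw [e]
    exact S.sub_mem (S.sub_mem (hU _ (S.add_mem ha hc) b hb) (hU a ha b hb)) (hU c hc b hb)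
  have hsand : ∀ (s : Finset (Fin d)) (b : Matrix (Fin d) (Fin d) (ZMod p)), b ∈ S →
      (∑ i ∈ s, ξ i • ι (M i)) * ι b * (∑ i ∈ s, ξ i • ι (M i)) ∈ U := by
    intro s
    induction s using Finset.induction with
    | empty => intro b _; simp
    | insert a t ha ih =>
      intro b hb
      rw [Finset.sum_insert ha]
      set T := ∑ i ∈ t, ξ i • ι (M i) with hT
      have e : (ξ a • ι (M a) + T) * ι b * (ξ a • ι (M a) + T) = ξ a • ξ a • ι (M a * b * M a) +
          ξ a • (ι (M a) * ι b * T + T * ι b * ι (M a)) + T * ι b * T := by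
        simp only [map_mul, add_mul, mul_add, smul_mul_assoc, mul_smul_comm, smul_add]
        abel
      rw [e]
      refine U.add_mem (U.add_mem (U.smul_mem _ (U.smul_mem _ (hιU _ (hU _ (hMS a) b hb)))) (U.smul_mem _ ?_))
        (ih b hb)
      rw [hT, Finset.mul_sum, Finset.sum_mul, Finset.sum_mul, ← Finset.sum_add_distrib]
      refine U.sum_mem fun i _ => ?_
      rw [mul_smul_comm, smul_mul_assoc, smul_mul_assoc, ← smul_add, ← map_mul, ← map_mul, ← map_mul,
        ← map_mul, ← map_add]
      exact U.smul_mem _ (hιU _ (hpol _ (hMS a) b hb _ (hMS i)))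
  set G : Matrix (Fin d) (Fin d) K := ∑ i, ξ i • ι (M i) with hG
  have hsandU : ∀ y ∈ U, G * y * G ∈ U := by
    intro y hy
    induction hy using Submodule.span_induction with
    | mem x hx => obtain ⟨i, rfl⟩ := hx; exact hsand Finset.univ _ (hMS i)
    | zero => simp
    | add x y _ _ hx hy => rw [mul_add, add_mul]; exact U.add_mem hx hy
    | smul c x _ hx => rw [mul_smul_comm, smul_mul_assoc]; exact U.smul_mem _ hx
  have hpow : ∀ n : ℕ, G ^ n ∈ U := by
    intro n
    induction n using Nat.strong_induction_on with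
    | _ n ih =>
      match n with
      | 0 => rw [pow_zero, ← map_one ι]; exact hιU _ h1
      | 1 => rw [pow_one]; exact U.sum_mem fun i _ => U.smul_mem _ (Submodule.subset_span ⟨i, rfl⟩)
      | m + 2 => rw [pow_succ, pow_succ']; exact hsandU _ (ih m (by omega))
  have hGmap : (genMat M).map (algebraMap (MvPolynomial (Fin d) (ZMod p)) K) = G :=
    genMat_map M (IsScalarTower.toAlgHom (ZMod p) (MvPolynomial (Fin d) (ZMod p)) K)
  -- the minimal polynomial of `G` has degree `d`
  have hint : IsIntegral K G := Algebra.IsIntegral.isIntegral G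
  have hdeg : d ≤ (minpoly K G).natDegree := by
    have hdvd : minpoly K G ∣ (genMat M).charpoly.map (algebraMap (MvPolynomial (Fin d) (ZMod p)) K) := by
      rw [← Matrix.charpoly_map, hGmap]
      exact Matrix.minpoly_dvd_charpoly G
    obtain ⟨μ, hμ⟩ := IsIntegrallyClosed.eq_map_mul_C_of_dvd K (Matrix.charpoly_monic (genMat M)) hdvd
    rw [(minpoly.monic hint).leadingCoeff, map_one, mul_one] at hμ
    have hinj := IsFractionRing.injective (MvPolynomial (Fin d) (ZMod p)) K
    have hμm : μ.Monic := Polynomial.monic_of_injective hinj (hμ ▸ minpoly.monic hint)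
    haveI : Nontrivial (Matrix (Fin d) (Fin d) K) := by
      haveI : Nonempty (Fin d) := ⟨⟨0, hd⟩⟩
      infer_instance
    have hn : μ.natDegree = (minpoly K G).natDegree := by rw [← hμ, hμm.natDegree_map]
    rw [← hn]
    refine le_natDegree_of_dvd M hli (fun v hv => hdet _ (S.sum_mem fun i _ => S.smul_mem _ (hMS i)) hv) hμm
      (hn ▸ minpoly.natDegree_pos hint) ?_
    rw [← Polynomial.map_dvd_map _ hinj hμm, hμ]
    exact hdvd
  -- the powers span everything
  set W := Submodule.span K (Set.range fun i : Fin d => G ^ (i : ℕ)) with hW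
  have hWd : Module.finrank K W = d := by
    exact (finrank_span_eq_card ((linearIndependent_pow (K := K) G).comp (Fin.castLE hdeg)
      (Fin.castLE_injective hdeg))).trans (Fintype.card_fin d)
  have hWU : W = U := by
    refine Submodule.eq_of_le_of_finrank_le (Submodule.span_le.2 ?_) ?_
    · rintro _ ⟨i, rfl⟩; exact hpow i
    · rw [hWd]; exact (finrank_range_le_card _).trans_eq (Fintype.card_fin d)
  have hcomm : ∀ x ∈ W, ∀ y ∈ W, x * y = y * x := by
    intro x hx y hy
    have h : ∀ z ∈ W, z * G = G * z := by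
      intro z hz
      induction hz using Submodule.span_induction with
      | mem z hz => obtain ⟨i, rfl⟩ := hz; rw [← pow_succ, ← pow_succ']
      | zero => simp
      | add a b _ _ ha hb => rw [add_mul, mul_add, ha, hb]
      | smul c a _ ha => rw [smul_mul_assoc, mul_smul_comm, ha]
    induction hy using Submodule.span_induction with
    | mem z hz => obtain ⟨i, rfl⟩ := hz; exact (Commute.pow_right (h x hx) i : Commute x (G ^ (i : ℕ)))
    | zero => simp
    | add a b _ _ ha hb => rw [add_mul, mul_add, ha, hb]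
    | smul c a _ ha => rw [smul_mul_assoc, mul_smul_comm, ha]
  intro a ha b hb
  have h := hcomm _ (hWU ▸ hιU a ha) _ (hWU ▸ hιU b hb)
  rw [← map_mul, ← map_mul] at h
  exact Matrix.map_injective (FaithfulSMul.algebraMap_injective (ZMod p) K) h

end Matrices

/-- A spread set with additively closed inverses is commutative and closed under multiplication. -/
theorem spreadSet_field {W : Type*} [AddCommGroup W] [Finite W] [Nontrivial W] (S : AddSubgroup (AddMonoid.End W))
    (h1 : (1 : AddMonoid.End W) ∈ S) (hcard : Nat.card S = Nat.card W)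
    (hbij : ∀ a ∈ S, a ≠ 0 → Function.Bijective a)
    (hinv : ∀ a ∈ S, ∀ b ∈ S, ∀ a' b' : AddMonoid.End W, a * a' = 1 → a' * a = 1 → b * b' = 1 → b' * b = 1 →
      a' + b' = 0 ∨ ∃ c ∈ S, c * (a' + b') = 1 ∧ (a' + b') * c = 1) :
    (∀ a ∈ S, ∀ b ∈ S, a * b = b * a) ∧ (∀ a ∈ S, ∀ b ∈ S, a * b ∈ S) := by
  classical
  haveI : Nontrivial (AddMonoid.End W) := by
    obtain ⟨x, hx⟩ := exists_ne (0 : W)
    exact ⟨1, 0, fun e => hx (DFunLike.congr_fun e x)⟩
  have hunit : ∀ a ∈ S, a ≠ 0 → ∃ a' : AddMonoid.End W, a * a' = 1 ∧ a' * a = 1 := fun a ha h0 =>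
    ⟨(AddEquiv.ofBijective a (hbij a ha h0)).symm.toAddMonoidHom,
      AddMonoidHom.ext fun x => (AddEquiv.ofBijective a (hbij a ha h0)).apply_symm_apply x,
      AddMonoidHom.ext fun x => (AddEquiv.ofBijective a (hbij a ha h0)).symm_apply_apply x⟩
  -- Hua
  have hua : ∀ a ∈ S, ∀ c ∈ S, ∀ c' : AddMonoid.End W, c * c' = 1 → c' * c = 1 → a * c' * a ∈ S := by
    intro a ha c hc c' hcc hcc'
    rcases eq_or_ne a 0 with rfl | h0
    · simp
    rcases eq_or_ne (c - a) 0 with he | he
    · rw [sub_eq_zero] at he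
      subst he
      rwa [hcc, one_mul]
    obtain ⟨a', h2, h3⟩ := hunit a ha h0
    obtain ⟨b', h4, h5⟩ := hunit _ (S.sub_mem hc ha) he
    have hsum : a' + b' = a' * c * b' := by
      calc a' + b' = a' * ((c - a) * b') + (a' * a) * b' := by rw [h4, h3, mul_one, one_mul]
        _ = _ := by noncomm_ring
    have hd : (a' + b') * ((c - a) * c' * a) = 1 := by
      calc (a' + b') * ((c - a) * c' * a) = a' * c * (b' * (c - a)) * c' * a := by
            rw [hsum]; simp only [mul_assoc]
        _ = 1 := by rw [h5, mul_one, mul_assoc a' c, hcc, mul_one, h3]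
    rcases hinv a ha (c - a) (S.sub_mem hc ha) a' b' h2 h3 h4 h5 with h | ⟨x, hx, hx1, -⟩
    · rw [h, zero_mul] at hd
      exact absurd hd zero_ne_one
    · have e : x = (c - a) * c' * a := by
        calc x = x * ((a' + b') * ((c - a) * c' * a)) := by rw [hd, mul_one]
          _ = _ := by rw [← mul_assoc, hx1, one_mul]
      have e' : a * c' * a = a - x := by
        rw [e, sub_mul, sub_mul, hcc, one_mul, sub_sub_cancel]
      rw [e']
      exact S.sub_mem ha hx
  have hU : ∀ a ∈ S, ∀ b ∈ S, a * b * a ∈ S := by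
    intro a ha b hb
    rcases eq_or_ne b 0 with rfl | h0
    · simp
    obtain ⟨b', h2, h3⟩ := hunit b hb h0
    have hb' : b' ∈ S := by simpa using hua 1 h1 b hb b' h2 h3
    exact hua a ha b' hb' b h3 h2
  -- the characteristic
  set p := addOrderOf (1 : AddMonoid.End W) with hp_def
  haveI : Finite (AddMonoid.End W) := Finite.of_injective _ DFunLike.coe_injective
  have hp0 : 0 < p := (isOfFinAddOrder_of_finite _).addOrderOf_pos
  have hprime : p.Prime := by
    rw [Nat.prime_def_lt]
    refine ⟨?_, fun m hm hdvd => ?_⟩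
    · by_contra hlt
      have : p = 1 := by omega
      exact one_ne_zero (AddMonoid.addOrderOf_eq_one_iff.1 this)
    · obtain ⟨k, hk⟩ := hdvd
      by_contra hm1
      have hm0 : 0 < m := Nat.pos_of_ne_zero fun e => by rw [e, zero_mul] at hk; omega
      have hkp : k < p := by
        rcases Nat.eq_zero_or_pos k with rfl | hk0
        · omega
        · rw [hk]; exact lt_mul_left hk0 (by omega)
      have hk0 : 0 < k := Nat.pos_of_ne_zero fun e => by rw [e, mul_zero] at hk; omega
      have hne : ∀ j : ℕ, 0 < j → j < p → (j • (1 : AddMonoid.End W)) ≠ 0 := fun j h0 hj e =>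
        absurd (Nat.le_of_dvd h0 (addOrderOf_dvd_of_nsmul_eq_zero e)) (by omega)
      have h0 : (m • (1 : AddMonoid.End W)) * (k • 1) = 0 := by
        rw [smul_one_mul, ← mul_nsmul', ← hk, addOrderOf_nsmul_eq_zero]
      refine hne k hk0 hkp (AddMonoidHom.ext fun x => (hbij _ (S.nsmul_mem h1 m) (hne m hm0 hm)).1 ?_)
      exact (DFunLike.congr_fun h0 x).trans (map_zero _).symm
  haveI : Fact p.Prime := ⟨hprime⟩
  have hpW : ∀ x : W, p • x = 0 := fun x => DFunLike.congr_fun (addOrderOf_nsmul_eq_zero (1 : AddMonoid.End W)) x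
  letI hMW : Module (ZMod p) W := @AddCommGroup.zmodModule p W _ hpW
  haveI hFW : Module.Finite (ZMod p) W := inferInstance
  haveI : Module.Free (ZMod p) W := Module.Free.of_divisionRing (ZMod p) W
  let b : Module.Basis (Fin (Module.finrank (ZMod p) W)) (ZMod p) W := Module.finBasisOfFinrankEq (ZMod p) W rfl
  set d := Module.finrank (ZMod p) W with hd_def
  let ψ : AddMonoid.End W →+* Matrix (Fin d) (Fin d) (ZMod p) :=
    { toFun := fun f => LinearMap.toMatrix b b (AddMonoidHom.toZModLinearMap p f)
      map_one' := by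
        rw [← LinearMap.toMatrix_id b]
        exact congrArg _ (LinearMap.ext fun _ => rfl)
      map_mul' := fun f g => by
        rw [← LinearMap.toMatrix_comp b b b]
        exact congrArg _ (LinearMap.ext fun _ => rfl)
      map_zero' := by
        rw [← map_zero (LinearMap.toMatrix b b)]
        exact congrArg _ (LinearMap.ext fun _ => rfl)
      map_add' := fun f g => by
        rw [← map_add]
        exact congrArg _ (LinearMap.ext fun _ => rfl) }
  have hψ : Function.Injective ψ := fun f g e =>
    AddMonoidHom.ext fun x => LinearMap.congr_fun ((LinearMap.toMatrix b b).injective e) x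
  let Sm : Submodule (ZMod p) (Matrix (Fin d) (Fin d) (ZMod p)) :=
    AddSubgroup.toZModSubmodule p (S.map ψ.toAddMonoidHom)
  have hmem : ∀ x, x ∈ Sm ↔ ∃ f ∈ S, ψ f = x := fun x => Iff.rfl
  have hdim : Module.finrank (ZMod p) Sm = d := by
    have e : Nat.card Sm = Nat.card W := by
      rw [← hcard]
      exact (Nat.card_congr (S.equivMapOfInjective _ hψ).toEquiv).symm
    rw [Module.natCard_eq_pow_finrank (K := ZMod p), Module.natCard_eq_pow_finrank (K := ZMod p) (V := W)] at e
    rw [Nat.card_zmod] at e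
    exact Nat.pow_right_injective hprime.two_le e
  have hC := commute_of_closed Sm ((hmem 1).2 ⟨1, h1, map_one ψ⟩) hdim
    (fun x hx hx0 => by
      obtain ⟨f, hf, rfl⟩ := (hmem _).1 hx
      obtain ⟨f', h2, -⟩ := hunit f hf fun e => hx0 (by rw [e, map_zero])
      intro hdet
      have h4 := congrArg Matrix.det (congrArg ψ h2)
      rw [map_mul, Matrix.det_mul, hdet, zero_mul, map_one, Matrix.det_one] at h4
      exact zero_ne_one h4)
    (fun x hx y hy => by
      obtain ⟨f, hf, rfl⟩ := (hmem _).1 hx
      obtain ⟨g, hg, rfl⟩ := (hmem _).1 hy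
      exact (hmem _).2 ⟨f * g * f, hU f hf g hg, by rw [map_mul, map_mul]⟩)
  have hcomm : ∀ f ∈ S, ∀ g ∈ S, f * g = g * f := fun f hf g hg => hψ (by
    rw [map_mul, map_mul]
    exact hC _ ((hmem _).2 ⟨f, hf, rfl⟩) _ ((hmem _).2 ⟨g, hg, rfl⟩))
  refine ⟨hcomm, fun f hf g hg => ?_⟩
  have hpz : ∀ f : AddMonoid.End W, p • f = 0 := fun f => AddMonoidHom.ext fun x => hpW (f x)
  rcases hprime.eq_two_or_odd' with h2 | hodd
  · -- every member is a square
    let sq : S → S := fun c => ⟨c.1 * c.1, by simpa using hU c.1 c.2 1 h1⟩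
    have hinj : Function.Injective sq := by
      rintro ⟨x, hx⟩ ⟨y, hy⟩ e
      have e' : x * x = y * y := congrArg Subtype.val e
      refine Subtype.ext (sub_eq_zero.1 ?_)
      by_contra hne
      have h0 : (x - y) * (x - y) = 0 := by
        have : (x - y) * (x - y) = x * x + y * y - 2 • (x * y) := by
          rw [sub_mul, mul_sub, mul_sub, hcomm y hy x hx, two_nsmul]; abel
        have hz : ∀ f : AddMonoid.End W, 2 • f = 0 := fun f => h2 ▸ hpz f
        rw [this, e', ← two_nsmul, hz, hz, sub_zero]
      obtain ⟨z, h3, h4⟩ := hunit _ (S.sub_mem hx hy) hne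
      refine hne ?_
      calc x - y = z * ((x - y) * (x - y)) := by rw [← mul_assoc, h4, one_mul]
        _ = 0 := by rw [h0, mul_zero]
    obtain ⟨⟨c, hc⟩, hcf⟩ := Finite.surjective_of_injective hinj ⟨f, hf⟩
    have e : c * c = f := congrArg Subtype.val hcf
    rw [← e, mul_assoc, hcomm c hc g hg, ← mul_assoc]
    exact hU c hc g hg
  · -- `f g + g f = 2 f g`
    obtain ⟨m, hm⟩ := hodd
    have hJ : f * g + g * f ∈ S := by
      have e : f * g + g * f = (f + g) * 1 * (f + g) - f * 1 * f - g * 1 * g := by noncomm_ring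
      rw [e]
      exact S.sub_mem (S.sub_mem (hU _ (S.add_mem hf hg) 1 h1) (hU f hf 1 h1)) (hU g hg 1 h1)
    rw [← hcomm f hf g hg, ← two_nsmul] at hJ
    have e : (m + 1) • (2 • (f * g)) = f * g := by
      rw [← mul_nsmul', show (m + 1) * 2 = p + 1 by omega, succ_nsmul, hpz, zero_add]
    rw [← e]
    exact S.nsmul_mem hJ _

end CfsgLib.OW
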