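import Cfsg.Agent.Lib.OstromWagner.CoordPlane
import Cfsg.Agent.Lib.OstromWagner.Field

/-!
# A finite plane whose elation groups are all transitive is Desarguesian
-/

set_option autoImplicit false

namespace CfsgLib.OW

theorem desarguesian_of_elations {P L : Type*} [Membership P L] [Configuration.ProjectivePlane P L]
    [Fintype P] [Fintype L]
    (h : ∀ (U : P) (a : L), U ∈ a → ∀ A B : P, A ∉ a → B ∉ a → (∃ l : L, U ∈ l ∧ A ∈ l ∧ B ∈ l) →
      ∃ σ : Coll P L, IsCentre σ U ∧ IsAxis σ a ∧ σ • A = B) :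
    ∃ (F : Type) (_ : Field F) (_ : Fintype F) (φ : P ≃ Projectivization F (Fin 3 → F)),
      (∀ l : L, ∃ W : Submodule F (Fin 3 → F), Module.finrank F W = 2 ∧
          ∀ p : P, p ∈ l ↔ (φ p).submodule ≤ W) ∧
      (∀ W : Submodule F (Fin 3 → F), Module.finrank F W = 2 →
          ∃ l : L, ∀ p : P, p ∈ l ↔ (φ p).submodule ≤ W) :=
  Coords.coordinates h fun {_} _ _ _ S h1 hcard hbij hinv => spreadSet_field S h1 hcard hbij hinv

end CfsgLib.OW
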