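import Cfsg.Agent.Lib.OstromWagner.SpreadSet
import Mathlib.LinearAlgebra.Projectivization.Constructions
import Mathlib.LinearAlgebra.Dual.Lemmas
import Mathlib.LinearAlgebra.FiniteDimensional.Basic
import Mathlib.Tactic.LinearCombination

/-!
# Coordinatisation of a plane all of whose elation groups are transitive
-/

set_option autoImplicit false
set_option linter.unusedSectionVars false

namespace CfsgLib.OW.Coords

open Configuration

universe u v

variable {P : Type u} {L : Type v} [Membership P L] [ProjectivePlane P L]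

/-- Lines given by equations give lines as two-dimensional subspaces. -/
theorem subspaces_of_equations {F : Type} [Field F] (φ : P ≃ Projectivization F (Fin 3 → F))
    (h : ∀ l : L, ∃ f : Module.Dual F (Fin 3 → F), f ≠ 0 ∧ ∀ p : P, p ∈ l ↔ f (φ p).rep = 0) :
    (∀ l : L, ∃ W : Submodule F (Fin 3 → F), Module.finrank F W = 2 ∧
        ∀ p : P, p ∈ l ↔ (φ p).submodule ≤ W) ∧
    (∀ W : Submodule F (Fin 3 → F), Module.finrank F W = 2 →
        ∃ l : L, ∀ p : P, p ∈ l ↔ (φ p).submodule ≤ W) := by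
  have hl : ∀ l : L, ∃ W : Submodule F (Fin 3 → F), Module.finrank F W = 2 ∧
      ∀ p : P, p ∈ l ↔ (φ p).submodule ≤ W := by
    intro l
    obtain ⟨f, hf, hlf⟩ := h l
    refine ⟨LinearMap.ker f, ?_, fun p => ?_⟩
    · have := Module.Dual.finrank_ker_add_one_of_ne_zero (f := f) hf
      simp at this
      omega
    · rw [hlf, Projectivization.submodule_eq, Submodule.span_singleton_le_iff_mem,
        LinearMap.mem_ker]
  refine ⟨hl, fun W hW => ?_⟩
  obtain ⟨b⟩ : Nonempty (Module.Basis (Fin 2) F W) :=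
    ⟨Module.finBasisOfFinrankEq F W hW⟩
  have hne : ∀ i, ((b i : W) : Fin 3 → F) ≠ 0 := fun i => by simpa using b.ne_zero i
  let q : Fin 2 → P := fun i => φ.symm (Projectivization.mk F _ (hne i))
  have hq : q 0 ≠ q 1 := by
    intro he
    obtain ⟨c, hc⟩ := (Projectivization.mk_eq_mk_iff' F _ _ (hne 0) (hne 1)).1 (φ.symm.injective he)
    have : c • b 1 = b 0 := Subtype.ext hc
    simpa using congrArg (fun v => b.repr v 0) this
  obtain ⟨l, ⟨h0, h1⟩, -⟩ := HasLines.existsUnique_line P L (q 0) (q 1) hq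
  obtain ⟨W', hW', hlW⟩ := hl l
  refine ⟨l, ?_⟩
  suffices W' = W by
    subst this
    exact hlW
  symm
  apply Submodule.eq_of_le_of_finrank_eq ?_ (hW.trans hW'.symm)
  intro v hv
  have hmem : ∀ i, ((b i : W) : Fin 3 → F) ∈ W' := by
    intro i
    have hqi : q i ∈ l := by fin_cases i <;> assumption
    have := (hlW _).1 hqi
    simpa [q, Projectivization.submodule_mk] using this
  have hsum := congrArg Subtype.val (b.sum_repr ⟨v, hv⟩)
  have hv' : ∑ i, b.repr ⟨v, hv⟩ i • ((b i : W) : Fin 3 → F) = v := by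
    rw [AddSubmonoidClass.coe_finsetSum] at hsum
    exact hsum
  exact hv' ▸ Submodule.sum_mem _ fun i _ => Submodule.smul_mem _ _ (hmem i)

/-- the vector of a projective point is killed by a functional iff any representative is -/
theorem rep_eq_zero_iff {F : Type} [Field F] (f : Module.Dual F (Fin 3 → F)) (v : Fin 3 → F)
    (hv : v ≠ 0) : f (Projectivization.mk F v hv).rep = 0 ↔ f v = 0 := by
  obtain ⟨c, hc⟩ := Projectivization.exists_smul_eq_mk_rep F v hv
  rw [← hc]
  simp [Units.smul_def]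

theorem coordinates [Finite P] [Finite L] (hel : ElTrans P L) (halg : SpreadAlgebra.{max u v}) :
    ∃ (K : Type) (_ : Field K) (_ : Fintype K) (φ : P ≃ Projectivization K (Fin 3 → K)),
      (∀ l : L, ∃ W : Submodule K (Fin 3 → K), Module.finrank K W = 2 ∧
          ∀ p : P, p ∈ l ↔ (φ p).submodule ≤ W) ∧
      (∀ W : Submodule K (Fin 3 → K), Module.finrank K W = 2 →
          ∃ l : L, ∀ p : P, p ∈ l ↔ (φ p).submodule ≤ W) := by
  classical
  obtain ⟨-, -, -, a, -⟩ := @ProjectivePlane.exists_config P L _ _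
  obtain ⟨V, instV, finV, ⟨F⟩⟩ := exists_frame hel a
  obtain ⟨p₀, hp₀⟩ := Nondegenerate.exists_point (P := P) a
  obtain ⟨X, hX, -⟩ := exists_third a p₀ p₀
  obtain ⟨Y, hY, hYX, -⟩ := exists_third a X X
  obtain ⟨E, hE, hEX, hEY⟩ := exists_third a X Y
  obtain ⟨K, instK, finK, ψ, hψY, hslope, hsurj⟩ :=
    F.exists_coords hel halg hX hY hE hYX.symm hEX hEY
  choose slp hslp using hslope
  have slpinj : ∀ U U' : P, ∀ (h : U ∈ a) (h1 : U ≠ Y) (h' : U' ∈ a) (h1' : U' ≠ Y),
      slp U h h1 = slp U' h' h1' → U = U' := by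
    intro U U' h h1 h' h1' he
    have hne : ψ (1, slp U h h1) ≠ 0 := fun e =>
      one_ne_zero (congrArg Prod.fst (ψ.map_eq_zero_iff.mp e) : (1 : K) = 0)
    refine F.dir_unique hne h h' ((hslp U h h1 1 _).mpr (mul_one _).symm) ?_
    rw [he]
    exact (hslp U' h' h1' 1 _).mpr (mul_one _).symm
  let aff : ∀ p : P, p ∉ a → K × K := fun p hp => ψ.symm (Classical.choose (F.pt_surj p hp))
  have haff : ∀ p hp, F.pt (ψ (aff p hp)) = p := fun p hp => by
    show F.pt (ψ (ψ.symm _)) = p
    rw [AddEquiv.apply_symm_apply]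
    exact Classical.choose_spec (F.pt_surj p hp)
  let vec : P → Fin 3 → K := fun p =>
    if hp : p ∈ a then (if hY' : p = Y then ![0, 0, 1] else ![0, 1, slp p hp hY'])
    else ![1, (aff p hp).1, (aff p hp).2]
  have vecY : vec Y = ![0, 0, 1] := by simp [vec, hY]
  have vecI : ∀ p (hp : p ∈ a) (h : p ≠ Y), vec p = ![0, 1, slp p hp h] := fun p hp h => by
    simp [vec, hp, h]
  have vecA : ∀ p (hp : p ∉ a), vec p = ![1, (aff p hp).1, (aff p hp).2] := fun p hp => by
    simp [vec, hp]
  have cases3 : ∀ p : P, p = Y ∨ (∃ (_ : p ∈ a), p ≠ Y) ∨ p ∉ a := fun p => by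
    by_cases hp : p ∈ a
    · by_cases h : p = Y
      · exact Or.inl h
      · exact Or.inr (Or.inl ⟨hp, h⟩)
    · exact Or.inr (Or.inr hp)
  have vec0 : ∀ p, vec p ≠ 0 := fun p h => by
    rcases cases3 p with rfl | ⟨hp, h'⟩ | hp
    · rw [vecY] at h; simpa using congrFun h 2
    · rw [vecI p hp h'] at h; simpa using congrFun h 1
    · rw [vecA p hp] at h; simpa using congrFun h 0
  have inj : ∀ p q : P, ∀ c : K, c • vec q = vec p → p = q := by
    intro p q c h
    have h0 := congrFun h 0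
    have h1 := congrFun h 1
    have h2 := congrFun h 2
    rcases cases3 p with rfl | ⟨hp, hp'⟩ | hp <;> rcases cases3 q with rfl | ⟨hq, hq'⟩ | hq
    · rfl
    · rw [vecY, vecI q hq hq'] at h1 h2; simp at h1 h2; simp [h1] at h2
    · rw [vecY, vecA q hq] at h0 h2; simp at h0 h2; simp [h0] at h2
    · rw [vecI p hp hp', vecY] at h1; simp at h1
    · rw [vecI p hp hp', vecI q hq hq'] at h1 h2; simp at h1 h2
      subst h1; simp at h2
      exact slpinj p q hp hp' hq hq' h2.symm
    · rw [vecI p hp hp', vecA q hq] at h0 h1; simp at h0 h1; simp [h0] at h1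
    · rw [vecA p hp, vecY] at h0; simp at h0
    · rw [vecA p hp, vecI q hq hq'] at h0; simp at h0
    · rw [vecA p hp, vecA q hq] at h0 h1 h2; simp at h0 h1 h2
      subst h0; simp at h1 h2
      have : aff p hp = aff q hq := Prod.ext h1.symm h2.symm
      rw [← haff p hp, ← haff q hq, this]
  let φ₀ : P → Projectivization K (Fin 3 → K) := fun p => Projectivization.mk K (vec p) (vec0 p)
  have hφ₀ : Function.Bijective φ₀ := by
    refine ⟨fun p q h => ?_, fun x => ?_⟩
    · obtain ⟨c, hc⟩ := (Projectivization.mk_eq_mk_iff' K _ _ (vec0 p) (vec0 q)).1 h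
      exact inj p q c hc
    · induction x using Projectivization.ind with
      | h v hv =>
      by_cases hv0 : v 0 = 0
      · by_cases hv1 : v 1 = 0
        · refine ⟨Y, (Projectivization.mk_eq_mk_iff' K _ _ (vec0 Y) hv).2 ⟨(v 2)⁻¹, ?_⟩⟩
          have hv2 : v 2 ≠ 0 := fun e => hv (by ext i; fin_cases i <;> assumption)
          rw [vecY]
          ext i
          fin_cases i <;> simp [hv0, hv1, hv2]
        · obtain ⟨U, hU, hUY, hs⟩ := hsurj ((v 1)⁻¹ * v 2)
          have hUs : slp U hU hUY = (v 1)⁻¹ * v 2 := by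
            have := (hs 1 (slp U hU hUY)).mp ((hslp U hU hUY 1 _).mpr (mul_one _).symm)
            simpa using this
          refine ⟨U, (Projectivization.mk_eq_mk_iff' K _ _ (vec0 U) hv).2 ⟨(v 1)⁻¹, ?_⟩⟩
          rw [vecI U hU hUY, hUs]
          ext i
          fin_cases i <;> simp [hv0, hv1]
      · let w : V := ψ ((v 0)⁻¹ * v 1, (v 0)⁻¹ * v 2)
        refine ⟨F.pt w, (Projectivization.mk_eq_mk_iff' K _ _ (vec0 _) hv).2 ⟨(v 0)⁻¹, ?_⟩⟩
        have haw : aff (F.pt w) (F.pt_not_mem w) = ((v 0)⁻¹ * v 1, (v 0)⁻¹ * v 2) :=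
          ψ.injective (F.pt_inj (haff (F.pt w) (F.pt_not_mem w)))
        rw [vecA _ (F.pt_not_mem w), haw]
        ext i
        fin_cases i <;> simp [hv0]
  refine ⟨K, instK, finK, Equiv.ofBijective φ₀ hφ₀, subspaces_of_equations _ fun l => ?_⟩
  suffices ∃ r : Fin 3 → K, r ≠ 0 ∧ ∀ p : P, p ∈ l ↔ r 0 * vec p 0 + r 1 * vec p 1 + r 2 * vec p 2 = 0 by
    obtain ⟨r, hr, hrp⟩ := this
    refine ⟨∑ i, r i • LinearMap.proj i, ?_, fun p => ?_⟩
    · intro h
      refine hr (funext fun i => ?_)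
      have := LinearMap.congr_fun h (Pi.single i 1)
      simpa [Pi.single_apply] using this
    · rw [Equiv.ofBijective_apply, rep_eq_zero_iff, hrp p]
      simp [Fin.sum_univ_three]
  by_cases hla : l = a
  · subst hla
    refine ⟨![1, 0, 0], fun h => by simpa using congrFun h 0, fun p => ?_⟩
    rcases cases3 p with rfl | ⟨hp, h'⟩ | hp
    · simp [vecY, hY]
    · simp [vecI p hp h', hp]
    · simp [vecA p hp, hp]
  obtain ⟨U, hUl, hUa⟩ := meet (P := P) l a hla
  obtain ⟨q, hql, hqU, -⟩ := exists_third l U U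
  have hqa : q ∉ a := fun e => hqU (point_eq hla hql e hUl hUa)
  have hUq : U ≠ q := hqU.symm
  have hlq : ∀ p (hp : p ∉ a), p ∈ l ↔
      ψ ((aff p hp).1 - (aff q hqa).1, (aff p hp).2 - (aff q hqa).2) ∈ F.D U := by
    intro p hp
    rw [← Prod.mk_sub_mk, map_sub, Prod.mk.eta, Prod.mk.eta, ← F.line U hUa]
    rw [haff p hp, haff q hqa]
    exact ⟨fun h => ⟨l, hUl, hql, h⟩,
      fun ⟨m, hUm, hqm, hpm⟩ => line_eq hUq hUm hqm hUl hql ▸ hpm⟩
  have hideal : ∀ p, p ∈ a → (p ∈ l ↔ p = U) := fun p hp =>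
    ⟨fun h => point_eq hla h hp hUl hUa, fun h => h ▸ hUl⟩
  by_cases hUY : U = Y
  · subst hUY
    refine ⟨![-(aff q hqa).1, 1, 0], fun h => by simpa using congrFun h 1, fun p => ?_⟩
    rcases cases3 p with rfl | ⟨hp, h'⟩ | hp
    · simp [vecY, hUl]
    · simp [vecI p hp h', hideal p hp, h']
    · rw [hlq p hp, hψY, vecA p hp, sub_eq_zero]
      simp only [Matrix.cons_val_zero, Matrix.cons_val_one, Matrix.cons_val, mul_one, one_mul]
      constructor <;> intro h <;> linear_combination h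
  · refine ⟨![-((aff q hqa).2 - slp U hUa hUY * (aff q hqa).1), -slp U hUa hUY, 1],
      fun h => by simpa using congrFun h 2, fun p => ?_⟩
    rcases cases3 p with rfl | ⟨hp, h'⟩ | hp
    · simp [vecY, hideal _ hY, Ne.symm hUY]
    · rw [hideal p hp, vecI p hp h']
      constructor
      · rintro rfl
        simp
      · intro h
        refine slpinj p U hp h' hUa hUY ?_
        simp at h
        linear_combination h
    · rw [hlq p hp, hslp U hUa hUY, vecA p hp]
      simp only [Matrix.cons_val_zero, Matrix.cons_val_one, Matrix.cons_val_two, Matrix.tail_cons,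
        Matrix.head_cons]
      constructor <;> intro h <;> linear_combination h

end CfsgLib.OW.Coords
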