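import Cfsg.Agent.Lib.OstromWagner.Levels

/-!
# Doubly transitive groups with an involutory perspectivity, and planes of even order
-/

set_option autoImplicit false
set_option linter.unusedSectionVars false

namespace CfsgLib.OW

open Configuration

variable {P L : Type*} [Membership P L] [ProjectivePlane P L] [Finite P] [Finite L]
  {G : Subgroup (Coll P L)}

theorem TwoTransitive.exists_involution (hG : TwoTransitive G) : ∃ σ ∈ G, σ ≠ 1 ∧ σ * σ = 1 := by
  obtain ⟨A, -⟩ := @ProjectivePlane.exists_config P L _ _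
  obtain ⟨l, hl⟩ := exists_join (L := L) A A
  obtain ⟨B, -, hB⟩ := exists_point_ne l A
  obtain ⟨g, hg, hgA, hgB⟩ := hG A B B A hB.symm hB
  have hpos : 0 < orderOf g := (isOfFinOrder_of_finite g).orderOf_pos
  have hev : 2 ∣ orderOf g := by
    by_contra hh
    obtain ⟨t, ht⟩ : Odd (orderOf g) := Nat.not_even_iff_odd.mp fun he => hh (even_iff_two_dvd.mp he)
    have h2 : g ^ 2 • A = A := by rw [pow_two, mul_smul, hgA, hgB]
    have h2t : (g ^ 2) ^ t • A = A :=
      Subgroup.pow_mem (MulAction.stabilizer (Coll P L) A) (show g ^ 2 ∈ _ from h2) _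
    have h1 := pow_orderOf_eq_one g
    rw [ht, pow_succ', pow_mul] at h1
    have := congrArg (fun x : Coll P L => x • A) h1
    simp only [mul_smul, h2t, one_smul, hgA] at this
    exact hB this
  obtain ⟨k, hk⟩ := hev
  refine ⟨g ^ k, G.pow_mem hg k, fun e => ?_, by rw [← pow_add, ← two_mul, ← hk, pow_orderOf_eq_one]⟩
  have := Nat.le_of_dvd (by omega) (orderOf_dvd_of_pow_eq_one e)
  omega

/-- a homology in a doubly transitive group gives an elation -/
theorem TwoTransitive.elation_of_homology (hG : TwoTransitive G) {σ : Coll P L} (hσ : σ ∈ G)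
    (h : IsHomology σ) : ∃ t ∈ G, IsElation t := by
  obtain ⟨C, a, hCa, hp⟩ := h
  obtain ⟨m, hm, -, -⟩ := exists_line_through_ne C a a
  obtain ⟨C', hC'a, hC'm⟩ := exists_point_off_two (P := P) a m
  obtain ⟨g, hg, hgC, hga⟩ := hG.antiflag C C' a a hCa hC'a
  have hp' := hp.conj g
  rw [hgC, hga] at hp'
  obtain ⟨t, ht, htC⟩ := exists_elation_map hσ hp (G.mul_mem (G.mul_mem hg hσ) (G.inv_mem hg)) hp' hCa hC'a
  have ht1 : t ≠ 1 := fun e => hC'm (by rw [e, one_smul] at htC; exact htC ▸ hm)
  obtain ⟨U, hUa, hU⟩ := ht.2.2.resolve_left ht1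
  exact ⟨t, ht.1, U, a, hUa, ht1, hU, ht.2.1⟩

/-- in even order there is an elation -/
theorem TwoTransitive.elation_of_even (hG : TwoTransitive G) (heven : Even (ProjectivePlane.order P L)) :
    ∃ t ∈ G, IsElation t := by
  classical
  have : Fact (Nat.Prime 2) := ⟨Nat.prime_two⟩
  obtain ⟨S, -, hSG, hS2, hSmax⟩ := exists_sylow_sub (p := 2) (bot_le : ⊥ ≤ G) IsPGroup.of_bot
  -- a fixed flag
  have hoddP : ¬ 2 ∣ Nat.card P := by
    rw [card_point (L := L)]
    intro h
    have h1 : Even (ProjectivePlane.order P L ^ 2 + ProjectivePlane.order P L) :=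
      (heven.pow_of_ne_zero two_ne_zero).add heven
    obtain ⟨k, hk⟩ := h1
    omega
  obtain ⟨V, hV⟩ := hS2.nonempty_fixed_point_of_prime_not_dvd_card P hoddP
  have hV' : ∀ σ ∈ S, σ • V = V := fun σ hσ => hV ⟨σ, hσ⟩
  let actL : MulAction S {l : L // V ∈ l} :=
    { smul := fun σ l => ⟨(σ : Coll P L) • l.1, by
        have h := (smul_mem_smul (σ : Coll P L)).mpr l.2
        rwa [hV' σ σ.2] at h⟩
      one_smul := fun l => Subtype.ext (one_smul _ l.1)
      mul_smul := fun s t l => Subtype.ext (mul_smul _ _ l.1) }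
  obtain ⟨⟨l, hVl⟩, hlfix⟩ := hS2.nonempty_fixed_point_of_prime_not_dvd_card {l : L // V ∈ l} (by
    rw [card_pencil]
    obtain ⟨k, hk⟩ := heven
    omega)
  have hl' : ∀ σ ∈ S, σ • l = l := fun σ hσ => congrArg Subtype.val (hlfix ⟨σ, hσ⟩)
  -- a central involution
  obtain ⟨τ, hτG, hτ1, hτ2⟩ := hG.exists_involution
  have hSne : Nontrivial S := by
    have h2 := hSmax (Subgroup.zpowers τ) (Subgroup.zpowers_le.mpr hτG)
      (IsPGroup.of_card (n := 1) (by rw [Nat.card_zpowers, pow_one]; exact orderOf_eq_prime (by rw [pow_two, hτ2]) hτ1))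
    rw [Nat.card_zpowers, orderOf_eq_prime (by rw [pow_two, hτ2]) hτ1] at h2
    exact Finite.one_lt_card_iff_nontrivial.mp (by omega)
  have hZn : Nontrivial (Subgroup.center S) := hS2.center_nontrivial
  obtain ⟨i, hi⟩ := IsPGroup.iff_card.mp (hS2.to_subgroup (Subgroup.center S))
  have hdvd : 2 ∣ Nat.card (Subgroup.center S) := by
    have h1 : 1 < Nat.card (Subgroup.center S) := Finite.one_lt_card
    rw [hi] at h1 ⊢
    exact dvd_pow_self 2 (by rintro rfl; simp at h1)
  obtain ⟨z, hz⟩ := exists_prime_orderOf_dvd_card' 2 hdvd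
  set σ : Coll P L := ((z : S) : Coll P L) with hσ
  have ho : orderOf σ = 2 := by rw [hσ, Subgroup.orderOf_coe, Subgroup.orderOf_coe, hz]
  have hσ1 : σ ≠ 1 := fun e => by simp [e] at ho
  have hσ2 : σ * σ = 1 := by rw [← pow_two, ← ho, pow_orderOf_eq_one]
  have hσS : σ ∈ S := (z : S).2
  have hcom : ∀ g ∈ S, g * σ = σ * g := fun g hg =>
    congrArg Subtype.val (Subgroup.mem_center_iff.mp z.2 ⟨g, hg⟩)
  rcases persp_or_baer hσ1 hσ2 with ⟨C, a, hp⟩ | ⟨hY, hn⟩
  · exact ⟨σ, hSG hσS, C, a, hp.mem_of_even hσ2 heven, hp⟩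
  exfalso
  -- the orbits on the further points of `l`
  set n := ProjectivePlane.order P L with hndef
  set b := n.factorization 2 with hb
  let actP : MulAction S {X : P // X ∈ l ∧ X ≠ V} :=
    { smul := fun s X => ⟨(s : Coll P L) • X.1, smul_line_mem (hl' s s.2) X.2.1,
        fun e => X.2.2 (smul_left_cancel (s : Coll P L) (e.trans (hV' s s.2).symm))⟩
      one_smul := fun X => Subtype.ext (one_smul _ X.1)
      mul_smul := fun s t X => Subtype.ext (mul_smul _ _ X.1) }
  set D := G ⊓ MulAction.stabilizer (Coll P L) V ⊓ MulAction.stabilizer (Coll P L) l with hD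
  have hSD : S ≤ D := fun s hs => ⟨⟨hSG hs, hV' s hs⟩, hl' s hs⟩
  let actD : MulAction D {X : P // X ∈ l ∧ X ≠ V} :=
    { smul := fun s X => ⟨(s : Coll P L) • X.1, smul_line_mem s.2.2 X.2.1,
        fun e => X.2.2 (smul_left_cancel (s : Coll P L) (e.trans (show (s : Coll P L) • V = V from s.2.1.2).symm))⟩
      one_smul := fun X => Subtype.ext (one_smul _ X.1)
      mul_smul := fun s t X => Subtype.ext (mul_smul _ _ X.1) }
  have hcardΩ : Nat.card {X : P // X ∈ l ∧ X ≠ V} = n := by
    have h1 : Set.ncard ({p : P | p ∈ l} \ {V}) + 1 = Set.ncard {p : P | p ∈ l} :=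
      Set.ncard_sdiff_singleton_add_one hVl (Set.toFinite _)
    have h2 : Set.ncard {p : P | p ∈ l} = n + 1 := card_line l
    show Set.ncard ({p : P | p ∈ l} \ {V}) = n
    omega
  have horb : ∀ X : {X : P // X ∈ l ∧ X ≠ V}, 2 ^ b ∣ Nat.card (MulAction.orbit S X) := by
    intro X
    have hDorb : Nat.card (MulAction.orbit D X) = n := by
      rw [← hcardΩ]
      refine Nat.card_congr (Equiv.subtypeUnivEquiv fun Y => ?_)
      obtain ⟨g, hg, h1, h2⟩ := hG V X.1 V Y.1 (Ne.symm X.2.2) (Ne.symm Y.2.2)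
      have hgl : g • l = l := by
        refine line_eq (Ne.symm Y.2.2) ?_ ?_ hVl Y.2.1
        · rw [← h1]; exact (smul_mem_smul g).mpr hVl
        · rw [← h2]; exact (smul_mem_smul g).mpr X.2.1
      exact ⟨⟨g, ⟨hg, h1⟩, hgl⟩, Subtype.ext h2⟩
    have hDmul : n * Nat.card (MulAction.stabilizer D X) = Nat.card D := by
      rw [← hDorb, ← Nat.card_prod]
      exact Nat.card_congr (MulAction.orbitProdStabilizerEquivGroup D X)
    have hSmul : Nat.card (MulAction.orbit S X) * Nat.card (MulAction.stabilizer S X) = Nat.card S := by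
      rw [← Nat.card_prod]
      exact Nat.card_congr (MulAction.orbitProdStabilizerEquivGroup S X)
    -- `S` is a Sylow subgroup of `D`
    obtain ⟨S', hS'⟩ := (hS2.of_equiv (Subgroup.subgroupOfEquivOfLe hSD).symm).exists_le_sylow
    have hSc : Nat.card S = 2 ^ (Nat.card D).factorization 2 := by
      rw [← Sylow.card_eq_multiplicity S']
      refine le_antisymm ?_ ?_
      · rw [← Nat.card_congr (Subgroup.subgroupOfEquivOfLe hSD).toEquiv]
        exact Subgroup.card_le_of_le hS'
      · rw [Nat.card_congr (Subgroup.equivMapOfInjective (S' : Subgroup D) D.subtype D.subtype_injective).toEquiv]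
        exact hSmax _ ((Subgroup.map_subtype_le _).trans (inf_le_left.trans inf_le_left)) (S'.isPGroup'.map _)
    obtain ⟨u, hu⟩ := (IsPGroup.iff_card.mp (hS2.to_subgroup (MulAction.stabilizer S X)))
    have hudvd : 2 ^ u ∣ Nat.card (MulAction.stabilizer D X) := by
      rw [← hu]
      let f : MulAction.stabilizer S X →* MulAction.stabilizer D X :=
        { toFun := fun s => ⟨⟨(s : S), hSD (s : S).2⟩, Subtype.ext (show ((s : S) : Coll P L) • X.1 = X.1 from
            congrArg Subtype.val s.2)⟩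
          map_one' := rfl
          map_mul' := fun _ _ => rfl }
      have hf : Function.Injective f := fun s t e =>
        Subtype.ext (Subtype.ext (congrArg (fun x : MulAction.stabilizer D X => ((x : D) : Coll P L)) e))
      exact Subgroup.card_dvd_of_injective f hf
    have hn0 : n ≠ 0 := by have := ProjectivePlane.one_lt_order P L; omega
    have hst0 : Nat.card (MulAction.stabilizer D X) ≠ 0 := Nat.card_pos.ne'
    have hfac : (Nat.card D).factorization 2 = b + (Nat.card (MulAction.stabilizer D X)).factorization 2 := by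
      rw [← hDmul, Nat.factorization_mul hn0 hst0]; rfl
    have hu' : u ≤ (Nat.card (MulAction.stabilizer D X)).factorization 2 :=
      (Nat.Prime.pow_dvd_iff_le_factorization Nat.prime_two hst0).mp hudvd
    rw [hu] at hSmul
    rw [hSc, hfac] at hSmul
    have : 2 ^ (b + u) ∣ Nat.card (MulAction.orbit S X) * 2 ^ u := by
      rw [hSmul]; exact pow_dvd_pow 2 (by omega)
    rw [pow_add] at this
    exact Nat.dvd_of_mul_dvd_mul_right (by positivity) this
  -- the fixed points of `σ` there
  let Φ := {X : {X : P // X ∈ l ∧ X ≠ V} // σ • X.1 = X.1}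
  let actΦ : MulAction S Φ :=
    { smul := fun s X => ⟨s • X.1, by
        show σ • ((s : Coll P L) • X.1.1) = (s : Coll P L) • X.1.1
        rw [← mul_smul, ← hcom s s.2, mul_smul, X.2]⟩
      one_smul := fun X => Subtype.ext (one_smul _ X.1)
      mul_smul := fun s t X => Subtype.ext (mul_smul _ _ X.1) }
  have hσl : σ • l = l := hl' σ hσS
  have hσV : σ • V = V := hV' σ hσS
  have hΦ : Nat.card Φ + 1 = fixOrder hY + 1 := by
    have hz : ∀ (x : P), σ • x = x → ∀ τ ∈ Subgroup.zpowers σ, τ • x = x := fun x hx τ hτ =>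
      (Subgroup.zpowers_le (H := MulAction.stabilizer (Coll P L) x)).mpr hx hτ
    rw [← card_fix_on_line hY l fun τ hτ =>
      (Subgroup.zpowers_le (H := MulAction.stabilizer (Coll P L) l)).mpr hσl hτ]
    have h1 : Nat.card Φ = Set.ncard ({p : P | p ∈ l ∧ ∀ τ ∈ Subgroup.zpowers σ, τ • p = p} \ {V}) :=
      Nat.card_congr
        { toFun := fun X => ⟨X.1.1, ⟨X.1.2.1, hz _ X.2⟩, X.1.2.2⟩
          invFun := fun X => ⟨⟨X.1, X.2.1.1, X.2.2⟩, X.2.1.2 σ (Subgroup.mem_zpowers σ)⟩
          left_inv := fun _ => rfl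
          right_inv := fun _ => rfl }
    rw [h1]
    exact Set.ncard_sdiff_singleton_add_one ⟨hVl, hz V hσV⟩ (Set.toFinite _)
  have hdiv : 2 ^ b ∣ fixOrder hY := by
    have : Fintype (MulAction.orbitRel.Quotient S Φ) := Fintype.ofFinite _
    rw [← Nat.add_right_cancel hΦ, Nat.card_congr (MulAction.selfEquivSigmaOrbits S Φ), Nat.card_sigma]
    refine Finset.dvd_sum fun q _ => ?_
    set X := Quotient.out q
    refine (horb X.1).trans (dvd_of_eq ?_)
    refine (Nat.card_congr ?_).symm
    refine Equiv.ofBijective (fun Y => ⟨Y.1.1, ?_⟩) ⟨fun Y Z e => ?_, fun Y => ?_⟩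
    · obtain ⟨s, hs⟩ := Y.2
      exact ⟨s, congrArg Subtype.val hs⟩
    · exact Subtype.ext (Subtype.ext (congrArg (fun W : MulAction.orbit S X.1 => W.1) e))
    · obtain ⟨_, s, rfl⟩ := Y
      exact ⟨⟨s • X, s, rfl⟩, rfl⟩
  have hm0 : fixOrder hY ≠ 0 := by have := one_lt_fixOrder hY; omega
  have h1 := (Nat.Prime.pow_dvd_iff_le_factorization Nat.prime_two hm0).mp hdiv
  have h2 : b = (fixOrder hY).factorization 2 + (fixOrder hY).factorization 2 := by
    rw [hb, hn, Nat.factorization_mul hm0 hm0]; rfl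
  have h3 : 1 ≤ b := by
    have hn0 : n ≠ 0 := by have := ProjectivePlane.one_lt_order P L; omega
    rw [hb]
    exact (Nat.Prime.pow_dvd_iff_le_factorization Nat.prime_two hn0).mp (by
      rw [pow_one]; exact even_iff_two_dvd.mp heven)
  omega

end CfsgLib.OW
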