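import Cfsg.Agent.Lib.OstromWagner.Translations
import Mathlib.Algebra.Group.TypeTags.Finite
import Mathlib.Algebra.Group.TypeTags.Hom
import Mathlib.Algebra.Group.Subgroup.Map

/-!
# Affine frames: the translation group as the affine plane, and its slopes
-/

set_option autoImplicit false
set_option linter.unusedSectionVars false
set_option linter.style.haveILetI false

namespace CfsgLib.OW.Coords

open Configuration

universe u v w

variable {P : Type u} {L : Type v} [Membership P L] [ProjectivePlane P L]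

/-- An additive group in bijection with the points off `a`, with a subgroup for each direction. -/
structure Frame (a : L) (V : Type w) [AddCommGroup V] where
  pt : V → P
  pt_not_mem : ∀ v, pt v ∉ a
  pt_inj : Function.Injective pt
  pt_surj : ∀ p : P, p ∉ a → ∃ v, pt v = p
  D : P → AddSubgroup V
  line : ∀ U : P, U ∈ a → ∀ v w : V,
    (∃ l : L, U ∈ l ∧ pt v ∈ l ∧ pt w ∈ l) ↔ w - v ∈ D U
  act : ∀ g : Coll P L, g • a = a → g • pt 0 = pt 0 → ∃ φ : V →+ V, ∀ v, pt (φ v) = g • pt v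

variable [Finite P] [Finite L]

theorem exists_frame (hel : ElTrans P L) (a : L) :
    ∃ (V : Type (max u v)) (_ : AddCommGroup V) (_ : Finite V), Nonempty (Frame (P := P) a V) := by
  letI : CommGroup (trans (P := P) a) :=
    { (trans (P := P) a).toGroup with
      mul_comm := fun x y => Subtype.ext (trans_comm hel x.2 y.2) }
  obtain ⟨O, hO⟩ := Nondegenerate.exists_point (P := P) a
  refine ⟨Additive (trans (P := P) a), inferInstance, inferInstance, ⟨
    { pt := fun v => (v.toMul : Coll P L) • O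
      pt_not_mem := fun v => trans_not_mem v.toMul.2 hO
      pt_inj := fun v w h => Additive.toMul.injective (Subtype.ext (trans_free v.toMul.2 w.toMul.2 hO h))
      pt_surj := fun p hp => by
        obtain ⟨σ, hσ, he⟩ := trans_exists hel hO hp
        exact ⟨Additive.ofMul ⟨σ, hσ⟩, he⟩
      D := fun U =>
        { carrier := {v | IsCentre (v.toMul : Coll P L) U}
          zero_mem' := IsCentre.one U
          add_mem' := fun hv hw => hv.mul hw
          neg_mem' := fun hv => hv.inv }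
      line := ?_
      act := ?_ }⟩⟩
  · intro U hU v w
    have hpt : ((w - v).toMul : Coll P L) • ((v.toMul : Coll P L) • O) = (w.toMul : Coll P L) • O := by
      rw [← mul_smul]
      congr 1
      rw [← Subgroup.coe_mul, ← toMul_add, sub_add_cancel]
    have hnm := trans_not_mem v.toMul.2 hO
    constructor
    · rintro ⟨l, hUl, hvl, hwl⟩
      obtain ⟨σ, hc, hx, he⟩ :=
        hel U a hU _ _ hnm (trans_not_mem w.toMul.2 hO) ⟨l, hUl, hvl, hwl⟩
      have := trans_free ⟨hx, U, hU, hc⟩ (w - v).toMul.2 hnm (he.trans hpt.symm)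
      show IsCentre ((w - v).toMul : Coll P L) U
      exact this ▸ hc
    · intro h
      obtain ⟨l, hUl, hvl⟩ := exists_join (L := L) U ((v.toMul : Coll P L) • O)
      refine ⟨l, hUl, hvl, ?_⟩
      rw [← hpt, ← (h : IsCentre _ U) l hUl]
      exact (smul_mem_smul _).mpr hvl
  · intro g ga gO
    have hmem : ∀ σ : trans (P := P) a, g * (σ : Coll P L) * g⁻¹ ∈ trans (P := P) a := by
      rintro ⟨σ, hx, U, hU, hc⟩
      have h1 : IsAxis (g * σ * g⁻¹) (g • a) := hx.conj g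
      have h2 : g • U ∈ g • a := (smul_mem_smul g).mpr hU
      rw [ga] at h1 h2
      exact ⟨h1, g • U, h2, hc.conj g⟩
    let f : trans (P := P) a →* trans (P := P) a :=
      { toFun := fun σ => ⟨g * (σ : Coll P L) * g⁻¹, hmem σ⟩
        map_one' := Subtype.ext (by simp)
        map_mul' := fun x y => Subtype.ext (by simp [mul_assoc]) }
    refine ⟨MonoidHom.toAdditive f, fun v => ?_⟩
    show (g * (v.toMul : Coll P L) * g⁻¹) • O = g • (v.toMul : Coll P L) • O
    have gO' : g • O = O := by simpa using gO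
    have : g⁻¹ • O = O := inv_smul_eq_iff.mpr gO'.symm
    rw [mul_smul, mul_smul, this]

namespace Frame

variable {a : L} {V : Type w} [AddCommGroup V] (F : Frame (P := P) a V)

theorem exists_dir (v : V) : ∃ U : P, U ∈ a ∧ v ∈ F.D U := by
  obtain ⟨l, h0, hv⟩ := exists_join (L := L) (F.pt 0) (F.pt v)
  obtain ⟨U, hUl, hUa⟩ := meet (P := P) l a (ne_of_mem_of_not_mem h0 (F.pt_not_mem 0))
  exact ⟨U, hUa, by simpa using (F.line U hUa 0 v).mp ⟨l, hUl, h0, hv⟩⟩

theorem dir_unique {v : V} (hv : v ≠ 0) {U U' : P} (hU : U ∈ a) (hU' : U' ∈ a) (h : v ∈ F.D U)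
    (h' : v ∈ F.D U') : U = U' := by
  obtain ⟨l, hUl, h0, h1⟩ := (F.line U hU 0 v).mpr (by simpa using h)
  obtain ⟨m, hUm, h0', h1'⟩ := (F.line U' hU' 0 v).mpr (by simpa using h')
  have hlm : l = m := line_eq (fun e => hv (F.pt_inj e).symm) h0 h1 h0' h1'
  exact point_eq (ne_of_mem_of_not_mem h0 (F.pt_not_mem 0)) hUl hU (hlm ▸ hUm) hU'

theorem eq_zero_of_mem {U U' : P} (hU : U ∈ a) (hU' : U' ∈ a) (hne : U ≠ U') {v : V}
    (h : v ∈ F.D U) (h' : v ∈ F.D U') : v = 0 := by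
  by_contra hv
  exact hne (F.dir_unique hv hU hU' h h')

theorem split {U U' : P} (hU : U ∈ a) (hU' : U' ∈ a) (hne : U ≠ U') (v : V) :
    ∃ x ∈ F.D U, v - x ∈ F.D U' := by
  obtain ⟨l, hUl, h0⟩ := exists_join (L := L) U (F.pt 0)
  obtain ⟨m, hUm, hv⟩ := exists_join (L := L) U' (F.pt v)
  have hla : l ≠ a := ne_of_mem_of_not_mem h0 (F.pt_not_mem 0)
  have hma : m ≠ a := ne_of_mem_of_not_mem hv (F.pt_not_mem v)
  have hlm : l ≠ m := fun e => hne (point_eq hla hUl hU (e ▸ hUm) hU')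
  obtain ⟨p, hpl, hpm⟩ := meet (P := P) l m hlm
  have hpa : p ∉ a := fun e =>
    hne ((point_eq hla hUl hU hpl e).trans (point_eq hma hpm e hUm hU'))
  obtain ⟨x, rfl⟩ := F.pt_surj p hpa
  exact ⟨x, by simpa using (F.line U hU 0 x).mp ⟨l, hUl, h0, hpl⟩,
    (F.line U' hU' x v).mp ⟨m, hUm, hpm, hv⟩⟩

theorem exists_ne_zero {U : P} (hU : U ∈ a) : ∃ x ∈ F.D U, x ≠ 0 := by
  obtain ⟨l, hUl, h0⟩ := exists_join (L := L) U (F.pt 0)
  obtain ⟨q, hql, hq0, hqU⟩ := exists_third l (F.pt 0) U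
  have hqa : q ∉ a := fun e =>
    hqU (point_eq (ne_of_mem_of_not_mem h0 (F.pt_not_mem 0)) hql e hUl hU)
  obtain ⟨x, rfl⟩ := F.pt_surj q hqa
  exact ⟨x, by simpa using (F.line U hU 0 x).mp ⟨l, hUl, h0, hql⟩, fun e => hq0 (e ▸ rfl)⟩

/-- `f` has the direction `U` as its graph, with respect to the axes `X` and `Y`. -/
def IsSlope (X Y U : P) (f : F.D X →+ F.D Y) : Prop := ∀ x : F.D X, (x : V) + (f x : V) ∈ F.D U

variable {F}

theorem slope_unique {Y U : P} (hY : Y ∈ a) (hU : U ∈ a) (hUY : U ≠ Y) {x y y' : V}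
    (hy : y ∈ F.D Y) (hy' : y' ∈ F.D Y) (h : x + y ∈ F.D U) (h' : x + y' ∈ F.D U) : y = y' :=
  sub_eq_zero.mp (F.eq_zero_of_mem hU hY hUY
    (by simpa using (F.D U).sub_mem h h') ((F.D Y).sub_mem hy hy'))

theorem slope_eq {X Y U : P} (hY : Y ∈ a) (hU : U ∈ a) (hUY : U ≠ Y) {f : F.D X →+ F.D Y}
    (hf : F.IsSlope X Y U f) (x : F.D X) {y : F.D Y} (h : (x : V) + y ∈ F.D U) : f x = y :=
  Subtype.ext (slope_unique hY hU hUY (f x).2 y.2 (hf x) h)

theorem exists_slope {X Y U : P} (hY : Y ∈ a) (hU : U ∈ a) (hUY : U ≠ Y) :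
    ∃ f : F.D X →+ F.D Y, F.IsSlope X Y U f := by
  have key : ∀ x : F.D X, ∃ y : F.D Y, (x : V) + y ∈ F.D U := fun x => by
    obtain ⟨u, hu, hxu⟩ := F.split hU hY hUY (x : V)
    refine ⟨⟨u - x, by simpa using (F.D Y).neg_mem hxu⟩, ?_⟩
    simpa using hu
  choose f hf using key
  refine ⟨AddMonoidHom.mk' f fun x x' => ?_, hf⟩
  refine Subtype.ext (slope_unique hY hU hUY (f (x + x')).2 (f x + f x').2 (hf (x + x')) ?_)
  have := (F.D U).add_mem (hf x) (hf x')
  simp only [AddSubgroup.coe_add] at this ⊢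
  convert this using 1
  abel

/-- The slopes are closed under addition. -/
theorem slope_add (hel : ElTrans P L) {X Y U U' : P} (hX : X ∈ a) (hY : Y ∈ a) (hU : U ∈ a)
    (hU' : U' ∈ a) (hXY : X ≠ Y) (hUY : U ≠ Y) (hU'Y : U' ≠ Y) {f f' : F.D X →+ F.D Y}
    (hf : F.IsSlope X Y U f) (hf' : F.IsSlope X Y U' f') :
    ∃ U'' : P, U'' ∈ a ∧ U'' ≠ Y ∧ F.IsSlope X Y U'' (f + f') := by
  obtain ⟨b, hYb, h0b⟩ := exists_join (L := L) Y (F.pt 0)
  have hba : b ≠ a := ne_of_mem_of_not_mem h0b (F.pt_not_mem 0)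
  have offb : ∀ Z : P, Z ∈ a → Z ≠ Y → Z ∉ b := fun Z hZ hne e => hne (point_eq hba e hZ hYb hY)
  obtain ⟨g, hgY, hgb, hgX⟩ :=
    hel Y b hYb X U' (offb X hX hXY) (offb U' hU' hU'Y) ⟨a, hY, hX, hU'⟩
  have ga : g • a = a := hgY a hY
  have g0 : g • F.pt 0 = F.pt 0 := hgb _ h0b
  obtain ⟨φ, hφ⟩ := F.act g ga g0
  have hga : ∀ Z : P, Z ∈ a → g • Z ∈ a := fun Z hZ => ga ▸ (smul_mem_smul g).mpr hZ
  have hD : ∀ Z : P, Z ∈ a → ∀ v ∈ F.D Z, φ v ∈ F.D (g • Z) := by
    intro Z hZ v hv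
    obtain ⟨l, hZl, h0, h1⟩ := (F.line Z hZ 0 v).mpr (by simpa using hv)
    have := (F.line (g • Z) (hga Z hZ) 0 (φ v)).mp
      ⟨g • l, (smul_mem_smul g).mpr hZl, g0 ▸ (smul_mem_smul g).mpr h0,
        hφ v ▸ (smul_mem_smul g).mpr h1⟩
    simpa using this
  have hfixY : ∀ y ∈ F.D Y, φ y = y := by
    intro y hy
    obtain ⟨l, hYl, h0, h1⟩ := (F.line Y hY 0 y).mpr (by simpa using hy)
    have hlb : l = b := line_eq (fun e : Y = F.pt 0 => F.pt_not_mem 0 (e ▸ hY)) hYl h0 hYb h0b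
    exact F.pt_inj ((hφ y).trans (hgb _ (hlb ▸ h1)))
  have hdiff : ∀ x : V, φ x - x ∈ F.D Y := by
    intro x
    obtain ⟨l, hYl, hxl⟩ := exists_join (L := L) Y (F.pt x)
    refine (F.line Y hY x (φ x)).mp ⟨l, hYl, hxl, ?_⟩
    rw [hφ, ← hgY l hYl]
    exact (smul_mem_smul g).mpr hxl
  refine ⟨g • U, hga U hU, fun e => hUY ?_, fun x => ?_⟩
  · have hY' : g • Y = Y := hgb Y hYb
    exact smul_left_cancel g (e.trans hY'.symm)
  · have hx : φ (x : V) = x + f' x := by
      have h1 : φ (x : V) ∈ F.D U' := hgX ▸ hD X hX _ x.2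
      have h2 : φ (x : V) - x = f' x :=
        slope_unique hY hU' hU'Y (hdiff _) (f' x).2 (x := (x : V))
          (by simpa using h1) (hf' x)
      rw [← h2]; abel
    have := hD U hU _ (hf x)
    rw [map_add, hx, hfixY _ (f x).2] at this
    simp only [AddMonoidHom.add_apply, AddSubgroup.coe_add]
    convert this using 1
    abel

end Frame

end CfsgLib.OW.Coords
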