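import Cfsg.Agent.Lib.OstromWagner.Persp
import Mathlib.GroupTheory.Coset.Card
import Mathlib.GroupTheory.PGroup

/-!
# Gleason's theorem: a flag-transitive plane with an elation has all elation groups transitive
-/

set_option autoImplicit false
set_option linter.unusedSectionVars false

namespace CfsgLib.OW

open Configuration

variable {P L : Type*} [Membership P L] [ProjectivePlane P L] [Finite P] [Finite L]

/-- A semiregular action on a finite set. -/
theorem card_dvd_of_free {H α : Type*} [Group H] [MulAction H α] [Finite α]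
    (h : ∀ x : α, MulAction.stabilizer H x = ⊥) : Nat.card H ∣ Nat.card α := by
  have : Fintype (MulAction.orbitRel.Quotient H α) := Fintype.ofFinite _
  rw [Nat.card_congr (MulAction.selfEquivSigmaOrbits H α)]
  by_cases hH : Finite H
  · rw [Nat.card_sigma]
    refine Finset.dvd_sum fun q _ => ?_
    rw [← Nat.card_congr (MulAction.orbitProdStabilizerEquivGroup H (Quotient.out q)), h,
      Nat.card_prod, Subgroup.card_bot, mul_one]
  · by_cases hα : Nonempty α
    · obtain ⟨x⟩ := hα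
      refine absurd (Finite.of_injective (fun g : H => g • x) fun g g' e => ?_) hH
      have : g'⁻¹ * g ∈ MulAction.stabilizer H x := by
        simp only [MulAction.mem_stabilizer_iff, mul_smul]
        exact inv_smul_eq_iff.mpr e
      rw [h, Subgroup.mem_bot] at this
      exact (inv_mul_eq_one.mp this).symm
    · rw [not_nonempty_iff] at hα
      simp

theorem perspGroup_le_elAxis (G : Subgroup (Coll P L)) {U : P} {a : L} (hU : U ∈ a) :
    perspGroup G U a ≤ elAxis G a :=
  fun _ hσ => ⟨hσ.1, hσ.2.2, .inr ⟨U, hU, hσ.2.1⟩⟩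

theorem card_perspGroup_conj {G : Subgroup (Coll P L)} {g : Coll P L} (hg : g ∈ G) (U : P) (a : L) :
    Nat.card (perspGroup G (g • U) (g • a)) = Nat.card (perspGroup G U a) := by
  refine Nat.card_congr
    { toFun := fun σ => ⟨g⁻¹ * σ.1 * g, ?_⟩
      invFun := fun σ => ⟨g * σ.1 * g⁻¹, ⟨G.mul_mem (G.mul_mem hg σ.2.1) (G.inv_mem hg),
        σ.2.2.1.conj g, σ.2.2.2.conj g⟩⟩
      left_inv := fun σ => Subtype.ext (by group)
      right_inv := fun σ => Subtype.ext (by group) }
  refine ⟨G.mul_mem (G.mul_mem (G.inv_mem hg) σ.2.1) hg, ?_, ?_⟩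
  · have := σ.2.2.1.conj g⁻¹
    rwa [inv_smul_smul, inv_inv] at this
  · have := σ.2.2.2.conj g⁻¹
    rwa [inv_smul_smul, inv_inv] at this

/-- the points of a line other than one of them -/
theorem card_line_sdiff {l : L} {U : P} (hU : U ∈ l) :
    Nat.card {p : P // p ∈ l ∧ p ≠ U} = ProjectivePlane.order P L := by
  refine Nat.add_right_cancel (m := 1) ?_
  rw [← card_line l]
  show Set.ncard ({p : P | p ∈ l} \ {U}) + 1 = Set.ncard {p : P | p ∈ l}
  exact Set.ncard_sdiff_singleton_add_one hU (Set.toFinite _)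

theorem card_off_line (a : L) :
    Nat.card {p : P // p ∉ a} = ProjectivePlane.order P L ^ 2 := by
  classical
  cases nonempty_fintype P
  have h1 := card_point (P := P) (L := L)
  have h2 := card_line (P := P) a
  rw [Nat.card_eq_fintype_card] at h1 h2 ⊢
  rw [Fintype.card_subtype_compl, h1, h2]
  omega

theorem gleason_arith {n h k c : ℕ} (hn : n = h * k) (hh : 2 ≤ h) (hk : 0 < k)
    (hc : c = (n + 1) * (h - 1) + 1) (hdvd : c ∣ n ^ 2) : k = 1 := by
  obtain ⟨r, rfl⟩ : ∃ r, h = r + 1 := ⟨h - 1, by omega⟩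
  have hc2 : c = (r + 1) * (r * k + 1) := by rw [hc, hn, Nat.add_sub_cancel]; ring
  have hn2 : n ^ 2 = (r + 1) * ((r + 1) * k ^ 2) := by rw [hn]; ring
  rw [hc2, hn2] at hdvd
  have h3 : r * k + 1 ∣ (r + 1) * k ^ 2 := Nat.dvd_of_mul_dvd_mul_left (by omega) hdvd
  have hco : Nat.Coprime (r * k + 1) (k ^ 2) := by
    refine Nat.Coprime.pow_right _ ?_
    rw [add_comm, mul_comm, Nat.coprime_add_mul_left_left]
    exact Nat.coprime_one_left k
  have h4 := Nat.le_of_dvd (by omega) (hco.dvd_of_dvd_mul_right h3)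
  have h5 : r * k ≤ r * 1 := by omega
  have := Nat.le_of_mul_le_mul_left h5 (by omega)
  omega

/-- **Gleason.** With flag transitivity one elation forces every elation group to be transitive. -/
theorem gleason (G : Subgroup (Coll P L))
    (hflag : ∀ (A B : P) (l m : L), A ∈ l → B ∈ m → ∃ σ ∈ G, σ • A = B ∧ σ • l = m)
    (hel : ∃ σ ∈ G, IsElation σ) :
    ∃ p e : ℕ, p.Prime ∧ ProjectivePlane.order P L = p ^ e ∧
      (∀ (U : P) (a : L), U ∈ a → ∀ A B : P, A ∉ a → B ∉ a → (∃ l : L, U ∈ l ∧ A ∈ l ∧ B ∈ l) →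
        ∃ σ ∈ G, IsCentre σ U ∧ IsAxis σ a ∧ σ • A = B) ∧
      (∀ σ ∈ G, IsElation σ → σ ^ p = 1) := by
  classical
  obtain ⟨σ₀, hσ₀, U₀, a₀, hU₀, hp₀⟩ := hel
  set n := ProjectivePlane.order P L with hn
  set h := Nat.card (perspGroup G U₀ a₀) with hh
  have hconst : ∀ (U : P) (a : L), U ∈ a → Nat.card (perspGroup G U a) = h := fun U a hUa => by
    obtain ⟨g, hg, rfl, rfl⟩ := hflag U₀ U a₀ a hU₀ hUa
    exact card_perspGroup_conj hg U₀ a₀
  have hh2 : 2 ≤ h := by
    have : Nontrivial (perspGroup G U₀ a₀) :=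
      ⟨⟨⟨σ₀, hσ₀, hp₀.2⟩, 1, fun e => hp₀.1 (congrArg Subtype.val e)⟩⟩
    exact Finite.one_lt_card
  have hhn : h ∣ n := card_perspGroup_dvd G hU₀
  have hn1 : 1 < n := ProjectivePlane.one_lt_order P L
  -- the count of the elations with axis `a`
  have hcount : ∀ a : L, Nat.card (elAxis G a) = (n + 1) * (h - 1) + 1 := by
    intro a
    have : Fintype {U : P // U ∈ a} := Fintype.ofFinite _
    let f : (Σ U : {U : P // U ∈ a}, {e : perspGroup G U.1 a // e ≠ 1}) →
        {t : elAxis G a // t ≠ 1} :=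
      fun x => ⟨⟨x.2.1.1, perspGroup_le_elAxis G x.1.2 x.2.1.2⟩,
        fun e => x.2.2 (Subtype.ext (congrArg Subtype.val e :))⟩
    have hf : Function.Bijective f := by
      refine ⟨fun x y hxy => ?_, fun t => ?_⟩
      · obtain ⟨⟨U, hU⟩, ⟨⟨e, he⟩, he1⟩⟩ := x
        obtain ⟨⟨U', hU'⟩, ⟨⟨e', he'⟩, he1'⟩⟩ := y
        obtain rfl : e = e' := congrArg (fun t => (t.1 : Coll P L)) hxy
        have hUU : U' = U :=
          IsPersp.centre_unique ⟨fun h1 => he1 (Subtype.ext h1), he.2.1, he.2.2⟩ he'.2.1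
        subst hUU
        rfl
      · obtain ⟨⟨t, ht⟩, ht1⟩ := t
        obtain ⟨U, hU, hc⟩ := ht.2.2.resolve_left fun e => ht1 (Subtype.ext e)
        exact ⟨⟨⟨U, hU⟩, ⟨⟨t, ht.1, hc, ht.2.1⟩,
          fun e => ht1 (Subtype.ext (congrArg Subtype.val e :))⟩⟩, rfl⟩
    have hne : ∀ (M : Subgroup (Coll P L)), Nat.card {e : M // e ≠ 1} + 1 = Nat.card M := fun M => by
      show Set.ncard {e : M | e ≠ 1} + 1 = _
      rw [← Set.ncard_univ M, ← Set.ncard_sdiff_singleton_add_one (Set.mem_univ (1 : M)) (Set.toFinite _)]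
      congr 2
      ext e
      simp
    rw [← hne (elAxis G a), ← Nat.card_eq_of_bijective f hf, Nat.card_sigma]
    have hs : ∀ U : {U : P // U ∈ a}, Nat.card {e : perspGroup G U.1 a // e ≠ 1} = h - 1 :=
      fun U => by
        have := hne (perspGroup G U.1 a)
        rw [hconst U.1 a U.2] at this
        omega
    rw [Finset.sum_congr rfl fun U _ => hs U, Finset.sum_const, Finset.card_univ, smul_eq_mul,
      ← Nat.card_eq_fintype_card, card_line]
  -- every axis carries an elementary group of elations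
  have helem : ∀ a : L, ∃ p : ℕ, p.Prime ∧ IsPGroup p (elAxis G a) ∧ ∀ s ∈ elAxis G a, s ^ p = 1 := by
    intro a
    obtain ⟨U, hU, -, -⟩ :=
      exists_point_on_ne a (Classical.choose (Nondegenerate.exists_point (P := P) a))
        (Classical.choose (Nondegenerate.exists_point (P := P) a))
    obtain ⟨V, hV, hVU, -⟩ := exists_point_on_ne a U U
    have hex : ∀ W : P, W ∈ a → ∃ x, x ∈ perspGroup G W a ∧ x ≠ 1 := fun W hW => by
      have : 1 < Nat.card (perspGroup G W a) := by rw [hconst W a hW]; omega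
      rw [Finite.one_lt_card_iff_nontrivial] at this
      obtain ⟨x, hx⟩ := exists_ne (1 : perspGroup G W a)
      exact ⟨x, x.2, fun e => hx (Subtype.ext e)⟩
    obtain ⟨x, hx, hx1⟩ := hex U hU
    obtain ⟨y, hy, hy1⟩ := hex V hV
    obtain ⟨-, p, hp, hpow⟩ := elAxis_elementary (perspGroup_le_elAxis G hU hx)
      (perspGroup_le_elAxis G hV hy) hx1 hy1 hx.2.1 hy.2.1 hVU.symm
    exact ⟨p, hp, fun s => ⟨1, Subtype.ext (by rw [pow_one]; exact hpow s s.2)⟩, hpow⟩
  -- the order equals `h`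
  have heq : n = h := by
    obtain ⟨k, hk⟩ := hhn
    have hdvd : Nat.card (elAxis G a₀) ∣ n ^ 2 := by
      have hoff : ∀ (σ : elAxis G a₀) (p : {p : P // p ∉ a₀}), (σ : Coll P L) • p.1 ∉ a₀ :=
        fun σ p hp => p.2 ((smul_left_cancel (σ : Coll P L) (σ.2.2.1 _ hp)).symm.symm ▸ hp)
      let act : MulAction (elAxis G a₀) {p : P // p ∉ a₀} :=
        { smul := fun σ p => ⟨(σ : Coll P L) • p.1, hoff σ p⟩
          one_smul := fun p => Subtype.ext (one_smul _ p.1)
          mul_smul := fun x y p => Subtype.ext (mul_smul _ _ p.1) }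
      rw [← card_off_line a₀]
      refine card_dvd_of_free fun p => ?_
      rw [eq_bot_iff]
      intro σ hσ
      exact Subtype.ext (elAxis_free σ.2 p.2 (congrArg Subtype.val hσ))
    have hk0 : 0 < k := Nat.pos_of_ne_zero (by rintro rfl; omega)
    have := gleason_arith hk hh2 hk0 (hcount a₀) hdvd
    subst this
    simpa using hk
  obtain ⟨p, hp, hpg, -⟩ := helem a₀
  have : Fact p.Prime := ⟨hp⟩
  obtain ⟨i, hi⟩ := IsPGroup.iff_card.mp (hpg.to_le (perspGroup_le_elAxis G hU₀))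
  refine ⟨p, i, hp, heq.trans hi, ?_, ?_⟩
  · intro U a hU A B hA hB ⟨l, hUl, hAl, hBl⟩
    have hla : l ≠ a := fun e => hA (e ▸ hAl)
    let f : perspGroup G U a → {q : P // q ∈ l ∧ q ≠ U} := fun e =>
      ⟨(e : Coll P L) • A, smul_line_mem (e.2.2.1 l hUl) hAl,
        fun h1 => hA ((smul_left_cancel (e : Coll P L) (h1.trans e.2.2.1.smul_eq.symm)) ▸ hU)⟩
    have hinj : Function.Injective f := fun e e' h1 =>
      Subtype.ext (eq_of_smul_eq e.2.2.1 e.2.2.2 e'.2.2.1 e'.2.2.2 hA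
        (fun h2 => hA (h2 ▸ hU)) (congrArg Subtype.val h1))
    have hbij := Nat.bijective_iff_injective_and_card f |>.mpr
      ⟨hinj, by rw [hconst U a hU, card_line_sdiff hUl, ← heq]⟩
    obtain ⟨e, he⟩ := hbij.2 ⟨B, hBl, fun h1 => hB (h1 ▸ hU)⟩
    exact ⟨e, e.2.1, e.2.2.1, e.2.2.2, congrArg Subtype.val he⟩
  · rintro σ hσ ⟨U, a, hU, hσ1, hσc, hσa⟩
    obtain ⟨q, hq, hqg, hqpow⟩ := helem a
    have hmem : σ ∈ perspGroup G U a := ⟨hσ, hσc, hσa⟩
    have hdiv : orderOf σ ∣ p ^ i := by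
      rw [← hi, ← hh, ← hconst U a hU]
      exact Subgroup.orderOf_dvd_natCard _ hmem
    have hq2 : σ ^ q = 1 := hqpow σ (perspGroup_le_elAxis G hU hmem)
    have hoq : orderOf σ = q :=
      ((Nat.dvd_prime hq).mp (orderOf_dvd_of_pow_eq_one hq2)).resolve_left
        fun h1 => hσ1 (orderOf_eq_one_iff.mp h1)
    rw [hoq] at hdiv
    rw [← (Nat.prime_dvd_prime_iff_eq hq hp).mp (hq.dvd_of_dvd_pow hdiv)]
    exact hq2

end CfsgLib.OW
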