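import Cfsg.Agent.Lib.OstromWagner.HomologyBasic

/-!
# The homology lemma of the Ostrom-Wagner theorem

A collineation group of a plane of odd order in which every involution is a homology and every
point pair, line pair and antiflag is fixed by an involution forces prime power order `p ^ e` and
contains an elation of order `p`.
-/

set_option autoImplicit false

namespace CfsgLib.OW.Hom

open Configuration

variable {P L : Type*} [Membership P L] [ProjectivePlane P L] [Finite P] [Finite L]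

/-- the hypotheses on the group -/
structure Rich (H : Subgroup (Coll P L)) : Prop where
  odd : Odd (ProjectivePlane.order P L)
  inv : ∀ σ ∈ H, σ ≠ 1 → σ * σ = 1 → IsHomology σ
  pair : ∀ A B : P, A ≠ B → ∃ σ ∈ H, σ ≠ 1 ∧ σ * σ = 1 ∧ σ • A = A ∧ σ • B = B
  pairL : ∀ a b : L, a ≠ b → ∃ σ ∈ H, σ ≠ 1 ∧ σ * σ = 1 ∧ σ • a = a ∧ σ • b = b
  anti : ∀ (C : P) (b : L), C ∉ b → ∃ σ ∈ H, σ ≠ 1 ∧ σ * σ = 1 ∧ σ • C = C ∧ σ • b = b

/-- prime power order and an elation of that prime order -/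
def Goal (H : Subgroup (Coll P L)) : Prop :=
  ∃ p e : ℕ, p.Prime ∧ ProjectivePlane.order P L = p ^ e ∧ ∃ σ ∈ H, IsElation σ ∧ σ ^ p = 1

theorem Rich.dual' {H : Subgroup (Coll P L)} (R : Rich H) :
    Rich (P := Dual L) (L := Dual P) (H.map dual) where
  odd := by rw [ProjectivePlane.Dual.order]; exact R.odd
  inv := by
    intro τ hτ h1 h2
    obtain ⟨σ, hσ, rfl⟩ := Subgroup.mem_map.1 hτ
    exact dual_isHomology.2 (R.inv σ hσ (fun e => h1 (by rw [e, map_one]))
      (dual_injective (by rw [map_mul, map_one]; exact h2)))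
  pair a b hab := by
    obtain ⟨σ, hσ, h1, h2, h3, h4⟩ := R.pairL a b hab
    exact ⟨dual σ, Subgroup.mem_map_of_mem _ hσ,
      fun e => h1 (dual_injective (e.trans (map_one _).symm)), by rw [← map_mul, h2, map_one], h3, h4⟩
  pairL A B hAB := by
    obtain ⟨σ, hσ, h1, h2, h3, h4⟩ := R.pair A B hAB
    exact ⟨dual σ, Subgroup.mem_map_of_mem _ hσ,
      fun e => h1 (dual_injective (e.trans (map_one _).symm)), by rw [← map_mul, h2, map_one], h3, h4⟩
  anti b C hbC := by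
    obtain ⟨σ, hσ, h1, h2, h3, h4⟩ := R.anti C b hbC
    exact ⟨dual σ, Subgroup.mem_map_of_mem _ hσ,
      fun e => h1 (dual_injective (e.trans (map_one _).symm)), by rw [← map_mul, h2, map_one], h4, h3⟩

variable {H : Subgroup (Coll P L)}

theorem goal_of_dual (h : Goal (P := Dual L) (L := Dual P) (H.map dual)) : Goal H := by
  obtain ⟨p, e, hp, hq, τ, hτ, hel, hpow⟩ := h
  obtain ⟨σ, hσ, rfl⟩ := Subgroup.mem_map.1 hτ
  rw [ProjectivePlane.Dual.order] at hq
  exact ⟨p, e, hp, hq, σ, hσ, dual_isElation.1 hel,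
    dual_injective (by rw [map_pow, map_one]; exact hpow)⟩

theorem Rich.three_le (R : Rich H) : 3 ≤ ProjectivePlane.order P L := by
  have := two_le_order (P := P) (L := L)
  obtain ⟨k, hk⟩ := R.odd
  omega

theorem card_punctured (c : L) {U : P} (hU : U ∈ c) :
    Nat.card {X : P // X ∈ c ∧ X ≠ U} = ProjectivePlane.order P L := by
  classical
  cases nonempty_fintype P
  have h := card_line (P := P) c
  rw [Nat.card_eq_fintype_card, Fintype.card_subtype] at h ⊢
  rw [show Finset.univ.filter (fun X => X ∈ c ∧ X ≠ U) = (Finset.univ.filter (fun X => X ∈ c)).erase U by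
    ext; simp [and_comm]]
  rw [Finset.card_erase_of_mem (by simp [hU]), h]
  rfl

theorem card_punctured_pencil (C : P) {a : L} (hC : C ∈ a) :
    Nat.card {l : L // C ∈ l ∧ l ≠ a} = ProjectivePlane.order P L := by
  rw [← ProjectivePlane.Dual.order P L]
  exact card_punctured (P := Dual L) (L := Dual P) C (U := a) hC

omit [ProjectivePlane P L] [Finite P] [Finite L] in
theorem dvd_card_of_transitive {G X : Type*} [Group G] [MulAction G X] [Nonempty X]
    (h : ∀ x y : X, ∃ g : G, g • x = y) : Nat.card X ∣ Nat.card G := by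
  haveI : MulAction.IsPretransitive G X := ⟨h⟩
  obtain ⟨x⟩ := ‹Nonempty X›
  exact MulAction.index_stabilizer_of_transitive G x ▸ Subgroup.index_dvd_card _

theorem isPrimePow_order_of_dvd {E : Subgroup (Coll P L)} {p : ℕ} (hp : p.Prime)
    (hE : ∀ g ∈ E, g ^ p = 1) (hdvd : ProjectivePlane.order P L ∣ Nat.card E) :
    ∃ e, ProjectivePlane.order P L = p ^ e := by
  haveI := Fact.mk hp
  have hpg : IsPGroup p E := fun g => ⟨1, Subtype.ext (by simpa using hE g.1 g.2)⟩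
  obtain ⟨n, hn⟩ := IsPGroup.iff_card.1 hpg
  obtain ⟨e, -, he⟩ := (Nat.dvd_prime_pow hp).1 (hn ▸ hdvd)
  exact ⟨e, he⟩

/-- elations with given centre and axis act semiregularly -/
theorem card_perspGroup_dvd_order {U : P} {a : L} (hU : U ∈ a) :
    Nat.card (perspGroup H U a) ∣ ProjectivePlane.order P L := by
  obtain ⟨m, hm, hma⟩ := exists_line_avoid (L := L) U {a} (by
    rw [Finset.card_singleton]; exact le_trans one_le_two two_le_order)
  have hma' : m ≠ a := fun e => hma (by simp [e])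
  have hkeep : ∀ g : ↥(perspGroup H U a), ∀ X : {X : P // X ∈ m ∧ X ≠ U},
      g.1 • X.1 ∈ m ∧ g.1 • X.1 ≠ U := by
    intro g X
    refine ⟨?_, fun e => X.2.2 (smul_left_cancel g.1 (e.trans (smul_centre g.2.2.1).symm))⟩
    have := (smul_mem_smul g.1).2 X.2.1
    rwa [g.2.2.1 m hm] at this
  letI : MulAction ↥(perspGroup H U a) {X : P // X ∈ m ∧ X ≠ U} :=
    { smul := fun g X => ⟨g.1 • X.1, hkeep g X⟩
      one_smul := fun X => Subtype.ext (one_smul (Coll P L) X.1)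
      mul_smul := fun g k X => Subtype.ext (mul_smul g.1 k.1 X.1) }
  have h := card_dvd_of_stabilizer_card (G := ↥(perspGroup H U a)) (X := {X : P // X ∈ m ∧ X ≠ U}) 1
    (fun X => by
      rw [Subgroup.card_eq_one, Subgroup.eq_bot_iff_forall]
      intro g hg
      by_contra hne
      exact elation_fpf (σ := g.1) ⟨fun e => hne (Subtype.ext e), g.2.2.1, g.2.2.2⟩ hU
        (fun e => X.2.2 (point_eq hma' X.2.1 e hm hU)) (Subtype.ext_iff.1 hg))
  rwa [mul_one, card_punctured m hm] at h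

/-- elations with one centre and about `n` axes -/
theorem step_one (hodd : Odd (ProjectivePlane.order P L)) (U : P) (s : Finset L)
    (hs : ProjectivePlane.order P L ≤ s.card) (hel : ∀ c ∈ s, ElAt H U c) : Goal H := by
  classical
  cases nonempty_fintype P
  cases nonempty_fintype L
  haveI := Fintype.ofFinite (Coll P L)
  obtain ⟨a, ha, b, hb, hab⟩ :=
    Finset.one_lt_card.1 (lt_of_lt_of_le (ProjectivePlane.one_lt_order P L) hs)
  obtain ⟨p, hp, hexp, hcomm⟩ := two_directions_dual hab (hel a ha) (hel b hb)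
  haveI := Fact.mk hp
  let S : Set (Coll P L) := {t | ∃ c, El H t U c}
  let E := Subgroup.closure S
  have hgen : ∀ g ∈ E, ∀ t ∈ S, Commute g t := by
    intro g hg t ht
    have hle : E ≤ Subgroup.centralizer ({t} : Set (Coll P L)) := by
      refine (Subgroup.closure_le _).2 fun u hu => Subgroup.mem_centralizer_singleton_iff.2 ?_
      exact hu.elim fun _ hu => ht.elim fun _ ht => hcomm hu ht
    exact Subgroup.mem_centralizer_singleton_iff.1 (hle hg)
  have hall : ∀ g ∈ E, g ∈ H ∧ IsCentre g U ∧ g ^ p = 1 := by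
    intro g hg
    induction hg using Subgroup.closure_induction with
    | mem x hx => exact hx.elim fun c h => ⟨h.1, h.2.1.2.1, hexp h⟩
    | one => exact ⟨H.one_mem, IsCentre.one U, one_pow p⟩
    | mul x y hx hy ihx ihy =>
      have hxy : Commute x y := by
        have hle : E ≤ Subgroup.centralizer ({x} : Set (Coll P L)) :=
          (Subgroup.closure_le _).2 fun u hu =>
            Subgroup.mem_centralizer_singleton_iff.2 (hgen x hx u hu).symm
        exact (Subgroup.mem_centralizer_singleton_iff.1 (hle hy) : y * x = x * y).symm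
      exact ⟨H.mul_mem ihx.1 ihy.1, ihx.2.1.mul ihy.2.1, by
        rw [hxy.mul_pow, ihx.2.2, ihy.2.2, one_mul]⟩
    | inv x _ ih => exact ⟨H.inv_mem ih.1, ih.2.1.inv, by rw [inv_pow, ih.2.2, inv_one]⟩
  have haxis : ∀ g ∈ E, g ≠ 1 → ∃ d, U ∈ d ∧ IsPersp g U d := by
    intro g hg hne
    obtain ⟨d, hd⟩ := exists_axis hne (hall g hg).2.1
    refine ⟨d, Classical.byContradiction fun hUd => ?_, hd⟩
    obtain ⟨t, ht⟩ := hel a ha
    have h1 := hd.conj t
    rw [show t * g * t⁻¹ = g by rw [← (hgen g hg t ⟨a, ht⟩).eq, mul_inv_cancel_right]] at h1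
    rcases fixed_line ht.2.1 (persp_unique h1 hd).2 with h | h
    · exact hUd (h ▸ ht.2.2)
    · exact hUd h
  have hsub : ∀ c, perspGroup E U c ≤ E := fun c g hg => hg.1
  have hpg : IsPGroup p E := fun g => ⟨1, Subtype.ext (by simpa using (hall g.1 g.2).2.2)⟩
  obtain ⟨n, hn⟩ := IsPGroup.iff_card.1 hpg
  have hEc : ∀ c : L, ∃ k, Nat.card (perspGroup E U c) = p ^ k := fun c =>
    IsPGroup.iff_card.1 fun g =>
      ⟨1, Subtype.ext (by simpa using (hall g.1 (hsub c g.2)).2.2)⟩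
  have h2c : ∀ c ∈ s, 2 ≤ Nat.card (perspGroup E U c) := by
    intro c hc
    obtain ⟨t, ht⟩ := hel c hc
    have hmem : t ∈ perspGroup E U c := ⟨Subgroup.subset_closure ⟨c, ht⟩, ht.2.1.2.1, ht.2.1.2.2⟩
    rcases Nat.lt_or_ge (Nat.card (perspGroup E U c)) 2 with h | h
    · rw [Subgroup.eq_bot_of_card_le _ (Nat.lt_succ_iff.1 h), Subgroup.mem_bot] at hmem
      exact absurd hmem ht.2.1.1
    · exact h
  obtain ⟨c0, hc0, hmin⟩ :=
    Finset.exists_min_image s (fun c => Nat.card (perspGroup E U c)) ⟨a, ha⟩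
  obtain ⟨t0, ht0⟩ := hel c0 hc0
  have hUc0 : U ∈ c0 := ht0.2.2
  -- the action on the affine points of the smallest axis
  have hdvd : Nat.card E ∣ ProjectivePlane.order P L * Nat.card (perspGroup E U c0) := by
    have hkeep : ∀ g : ↥E, ∀ X : {X : P // X ∈ c0 ∧ X ≠ U},
        g.1 • X.1 ∈ c0 ∧ g.1 • X.1 ≠ U := by
      intro g X
      refine ⟨?_, fun e => X.2.2 (smul_left_cancel g.1
        (e.trans (smul_centre (hall g.1 g.2).2.1).symm))⟩
      have := (smul_mem_smul g.1).2 X.2.1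
      rwa [(hall g.1 g.2).2.1 c0 hUc0] at this
    letI : MulAction ↥E {X : P // X ∈ c0 ∧ X ≠ U} :=
      { smul := fun g X => ⟨g.1 • X.1, hkeep g X⟩
        one_smul := fun X => Subtype.ext (one_smul (Coll P L) X.1)
        mul_smul := fun g k X => Subtype.ext (mul_smul g.1 k.1 X.1) }
    rw [← card_punctured c0 hUc0]
    refine card_dvd_of_stabilizer_card _ fun X => ?_
    have hst : MulAction.stabilizer ↥E X = (perspGroup E U c0).subgroupOf E := by
      ext g
      refine ⟨fun hg => ⟨g.2, (hall g.1 g.2).2.1, ?_⟩, fun hg => Subtype.ext (hg.2.2 X.1 X.2.1)⟩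
      by_cases h1 : g.1 = 1
      · show IsAxis g.1 c0
        rw [h1]; exact IsAxis.one c0
      · obtain ⟨d, hUd, hd⟩ := haxis g.1 g.2 h1
        have hXd : X.1 ∈ d := (fixed_point hd (Subtype.ext_iff.1 hg)).resolve_left X.2.2
        rw [line_eq X.2.2 X.2.1 hUc0 hXd hUd]
        exact hd.2.2
    rw [hst]
    exact Nat.card_congr (Subgroup.subgroupOfEquivOfLe (hsub c0)).toEquiv
  -- disjointness of the axis subgroups
  have hcard : ∀ K : Subgroup (Coll P L),
      (Finset.univ.filter (fun g => g ≠ 1 ∧ g ∈ K)).card = Nat.card K - 1 := by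
    intro K
    rw [show Finset.univ.filter (fun g => g ≠ 1 ∧ g ∈ K) =
      (Finset.univ.filter (fun g => g ∈ K)).erase 1 by ext; simp]
    rw [Finset.card_erase_of_mem (by simp), Nat.card_eq_fintype_card, Fintype.card_subtype]
  have hsum : ∑ c ∈ s, (Nat.card (perspGroup E U c) - 1) ≤ Nat.card E - 1 := by
    simp only [← hcard]
    rw [← Finset.card_biUnion]
    · refine Finset.card_le_card fun g hg => ?_
      obtain ⟨c, -, hc⟩ := Finset.mem_biUnion.1 hg
      simp only [Finset.mem_filter, Finset.mem_univ, true_and] at hc ⊢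
      exact ⟨hc.1, hsub c hc.2⟩
    · intro c _ d _ hcd
      rw [Function.onFun, Finset.disjoint_left]
      intro g hg hg'
      simp only [Finset.mem_filter, Finset.mem_univ, true_and] at hg hg'
      exact hg.1 (eq_one_of_two_axes hcd hg.2.2.2 hg'.2.2.2)
  have hle := (Finset.card_nsmul_le_sum s _ (Nat.card (perspGroup E U c0) - 1)
    (fun c hc => Nat.sub_le_sub_right (hmin c hc) 1)).trans hsum
  rw [smul_eq_mul] at hle
  obtain ⟨k, hk⟩ := hEc c0
  have hcount : ProjectivePlane.order P L * (Nat.card (perspGroup E U c0) - 1) < Nat.card E :=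
    lt_of_le_of_lt ((Nat.mul_le_mul_right _ hs).trans hle) (Nat.sub_lt Nat.card_pos one_pos)
  obtain ⟨e, he⟩ := primePow_of_count hp hodd hn hk (h2c c0 hc0) hdvd hcount
  exact ⟨p, e, hp, he, t0, ht0.1, ⟨U, c0, hUc0, ht0.2.1⟩, hexp ht0⟩

/-- elations with one axis and about `n` centres -/
theorem step_one_dual (hodd : Odd (ProjectivePlane.order P L)) (a : L) (s : Finset P)
    (hs : ProjectivePlane.order P L ≤ s.card) (hel : ∀ U ∈ s, ElAt H U a) : Goal H :=
  goal_of_dual (step_one (P := Dual L) (L := Dual P) (by rw [ProjectivePlane.Dual.order]; exact hodd)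
    a s (by rw [ProjectivePlane.Dual.order]; exact hs) fun U hU => dual_ElAt.2 (hel U hU))

theorem Rich.homology_data (R : Rich H) {h : Coll P L} (hh : h ∈ H) (h1 : h ≠ 1) (h2 : h * h = 1) :
    ∃ C a, Ho H h C a := by
  obtain ⟨C, a, hC, hp⟩ := R.inv h hh h1 h2
  exact ⟨C, a, hh, hp, hC⟩

theorem HomAt.exists_elation {C D : P} {a : L} (hCD : C ≠ D) (hC : HomAt H C a) (hD : HomAt H D a) :
    ∃ U, ElAt H U a := by
  obtain ⟨t, U, ht, -⟩ := orbit_centres hCD hC hD
  exact ⟨U, t, ht⟩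

/-- without elations every line is an axis -/
theorem line_is_axis (R : Rich H) (hno : ∀ U a, ¬ ElAt H U a) (b : L) : ∃ C, HomAt H C b := by
  classical
  by_contra hb
  have huniq : ∀ {X : P} {a a' : L}, HomAt H X a → HomAt H X a' → a = a' := by
    intro X a a' h h'
    by_contra hne
    obtain ⟨t, c, ht, -⟩ := orbit_axes hne h h'
    exact hno X c ⟨t, ht⟩
  let Arr : P → P → Prop := fun X Y => ∃ a, HomAt H X a ∧ Y ∈ a ∧ Y ∈ b ∧ a ≠ b
  have hdet : ∀ {X Y Y'}, Arr X Y → Arr X Y' → Y = Y' := by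
    rintro X Y Y' ⟨a, ha, hY, hYb, hab⟩ ⟨a', ha', hY', hYb', -⟩
    rw [← huniq ha ha'] at hY'
    exact point_eq hab hY hYb hY' hYb'
  have hedge : ∀ X Y, X ∈ b → Y ∈ b → X ≠ Y → Arr X Y ∨ Arr Y X := by
    intro X Y hX hY hne
    obtain ⟨h, hh, h1, h2, hfX, hfY⟩ := R.pair X Y hne
    obtain ⟨C, a, hho⟩ := R.homology_data hh h1 h2
    have hab : a ≠ b := fun e => hb ⟨C, h, e ▸ hho⟩
    rcases fixed_point hho.2.1 hfX with rfl | hXa
    · exact Or.inl ⟨a, ⟨h, hho⟩, (fixed_point hho.2.1 hfY).resolve_left hne.symm, hY, hab⟩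
    · rcases fixed_point hho.2.1 hfY with rfl | hYa
      · exact Or.inr ⟨a, ⟨h, hho⟩, hXa, hX, hab⟩
      · exact absurd (point_eq hab hXa hX hYa hY) hne
  have hq := R.three_le
  obtain ⟨A, hA, -⟩ := exists_point_avoid (P := P) b ∅ (by simp)
  obtain ⟨B, hB, hBA⟩ := exists_ne_mem b A
  obtain ⟨C, hC, hCA, hCB⟩ := exists_ne_ne_mem b A B
  obtain ⟨D, hD, hD'⟩ := exists_point_avoid b {A, B, C} (Finset.card_le_three.trans hq)
  simp only [Finset.mem_insert, Finset.mem_singleton, not_or] at hD'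
  have key : ∀ X Y, X ∈ b → Y ∈ b → X ≠ A → Y ≠ A → X ≠ Y → Arr X A → Arr Y A → False := by
    intro X Y hX hY hXA hYA hXY hx hy
    rcases hedge X Y hX hY hXY with h | h
    · exact hYA (hdet h hx)
    · exact hXA (hdet h hy)
  rcases hedge A B hA hB hBA.symm with h | h
  · rcases hedge A C hA hC hCA.symm with h' | h'
    · exact hCB (hdet h' h)
    · rcases hedge A D hA hD (Ne.symm hD'.1) with h'' | h''
      · exact hD'.2.1 (hdet h'' h)
      · exact key C D hC hD hCA hD'.1 (Ne.symm hD'.2.2) h' h''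
  · rcases hedge A C hA hC hCA.symm with h' | h'
    · rcases hedge A D hA hD (Ne.symm hD'.1) with h'' | h''
      · exact hD'.2.2 (hdet h'' h')
      · exact key B D hB hD hBA hD'.1 (Ne.symm hD'.2.1) h h''
    · exact key B C hB hC hBA hCA hCB.symm h h'

/-- some elation exists -/
theorem exists_elAt (R : Rich H) : ∃ U a, ElAt H U a := by
  by_contra hno
  simp only [not_exists] at hno
  have hcu : ∀ {C D : P} {a : L}, HomAt H C a → HomAt H D a → C = D := fun {C D a} h h' =>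
    Classical.byContradiction fun hne => (h.exists_elation hne h').elim fun U hU => hno U a hU
  have hau : ∀ {C : P} {a b : L}, HomAt H C a → HomAt H C b → a = b := by
    intro C a b h h'
    by_contra hne
    obtain ⟨t, c, ht, -⟩ := orbit_axes hne h h'
    exact hno C c ⟨t, ht⟩
  have hcent : ∀ C : P, ∃ a, HomAt H C a := by
    intro C
    obtain ⟨a, ha⟩ := line_is_axis (P := Dual L) (L := Dual P) R.dual'
      (fun U a h => hno a U (dual_ElAt.1 h)) C
    exact ⟨a, dual_HomAt.1 ha⟩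
  choose φ hφ using hcent
  have hne : ∀ x, x ∉ φ x := fun x => (hφ x).elim fun h hh => hh.2.2
  have hsym : ∀ x y, y ∈ φ x → x ∈ φ y := by
    intro x y hy
    obtain ⟨h, hh⟩ := hφ x
    have hfix : h • y = y := hh.2.1.2.2 y hy
    have h1 := (hφ y).conj hh.1
    rw [hfix] at h1
    rcases fixed_line hh.2.1 (hau h1 (hφ y)) with e | e
    · exact absurd (hcu (hφ x) (e ▸ hφ y)) (fun e' => hne x (by simpa [e'] using hy))
    · exact e
  have hfr : ∀ x y : P, x ≠ y → ∃! z, z ∈ φ x ∧ z ∈ φ y := fun x y hxy =>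
    existsUnique_meet fun e => hxy (hcu (hφ x) (e ▸ hφ y))
  obtain ⟨b⟩ : Nonempty L := ⟨(@ProjectivePlane.exists_config P L _ _).choose_spec.choose_spec.choose_spec.choose⟩
  obtain ⟨X0, -, -⟩ := exists_point_avoid (P := P) b ∅ (by simp)
  haveI : Nonempty P := ⟨X0⟩
  obtain ⟨x, hx⟩ := exists_universal_of_friendship (fun x y => y ∈ φ x) hsym hne hfr
  obtain ⟨l, hl, -⟩ := exists_line_avoid (L := L) x ∅ (by simp)
  obtain ⟨Z, hZ, -⟩ := existsUnique_meet (P := P) (l := l) (m := φ x) fun e => hne x (e ▸ hl)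
  obtain ⟨X, hX, hXx, hXZ⟩ := exists_ne_ne_mem l x Z
  exact hXZ (point_eq (fun e : l = φ x => hne x (e ▸ hl)) hX (hx X hXx) hZ.1 hZ.2)

/-- a line through a point avoiding three given point-line pairs, with two further points -/
theorem exists_test_line (h5 : 5 ≤ ProjectivePlane.order P L) (C : Fin 3 → P)
    (β : Fin 3 → L) (hne : ∀ i, C i ∉ β i) :
    ∃ e A B, A ∈ e ∧ B ∈ e ∧ A ≠ B ∧
      ∀ i, C i ∉ e ∧ e ≠ β i ∧ A ∉ β i ∧ B ∉ β i := by
  classical
  let j : Fin 3 → L := fun i => (exists_join (L := L) (C 0) (C i)).choose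
  have hj : ∀ i, C 0 ∈ j i ∧ C i ∈ j i := fun i => (exists_join (L := L) (C 0) (C i)).choose_spec
  obtain ⟨l, hl, hl'⟩ := exists_line_avoid (C 0) {β 1, β 2, j 1, j 2}
    ((Finset.card_le_four).trans (by omega))
  simp only [Finset.mem_insert, Finset.mem_singleton, not_or] at hl'
  have hlβ : ∀ i, l ≠ β i := by
    intro i; fin_cases i
    · exact fun e => hne 0 (e ▸ hl)
    · exact hl'.1
    · exact hl'.2.1
  have hlC : ∀ i, C i ∈ l → C i = C 0 := by
    intro i hi
    by_contra hne'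
    have he : l = j i := line_eq hne' hi hl (hj i).2 (hj i).1
    fin_cases i
    · exact hne' rfl
    · exact hl'.2.2.1 he
    · exact hl'.2.2.2 he
  choose m hm hmu using fun i => existsUnique_meet (P := P) (hlβ i)
  obtain ⟨X, hX, hX'⟩ := exists_point_avoid l {C 0, m 0, m 1, m 2}
    ((Finset.card_le_four).trans (by omega))
  simp only [Finset.mem_insert, Finset.mem_singleton, not_or] at hX'
  have hXβ : ∀ i, X ∉ β i := by
    intro i hi
    have he := hmu i X ⟨hX, hi⟩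
    fin_cases i
    · exact hX'.2.1 he
    · exact hX'.2.2.1 he
    · exact hX'.2.2.2 he
  have hXC : ∀ i, X ≠ C i := fun i e => hX'.1 ((hlC i (e ▸ hX)) ▸ e)
  choose k hk using fun i => exists_join (L := L) X (C i)
  obtain ⟨e, he, he'⟩ := exists_line_avoid X {k 0, k 1, k 2} (Finset.card_le_three.trans (by omega))
  simp only [Finset.mem_insert, Finset.mem_singleton, not_or] at he'
  have heC : ∀ i, C i ∉ e := by
    intro i hi
    have hek : e = k i := line_eq (hXC i) he hi (hk i).1 (hk i).2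
    fin_cases i
    · exact he'.1 hek
    · exact he'.2.1 hek
    · exact he'.2.2 hek
  have heβ : ∀ i, e ≠ β i := fun i h => hXβ i (h ▸ he)
  choose n hn hnu using fun i => existsUnique_meet (P := P) (heβ i)
  obtain ⟨A, hA, hA'⟩ := exists_point_avoid e {n 0, n 1, n 2} (Finset.card_le_three.trans (by omega))
  simp only [Finset.mem_insert, Finset.mem_singleton, not_or] at hA'
  obtain ⟨B, hB, hB'⟩ := exists_point_avoid e {A, n 0, n 1, n 2} ((Finset.card_le_four).trans (by omega))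
  simp only [Finset.mem_insert, Finset.mem_singleton, not_or] at hB'
  refine ⟨e, A, B, hA, hB, Ne.symm hB'.1, fun i => ⟨heC i, heβ i, fun h => ?_, fun h => ?_⟩⟩
  · have he2 := hnu i A ⟨hA, h⟩
    fin_cases i
    · exact hA'.1 he2
    · exact hA'.2.1 he2
    · exact hA'.2.2 he2
  · have he2 := hnu i B ⟨hB, h⟩
    fin_cases i
    · exact hB'.2.1 he2
    · exact hB'.2.2.1 he2
    · exact hB'.2.2.2 he2

/-- `C` and `β` are each other's only partner -/
def Iso (H : Subgroup (Coll P L)) (C : P) (β : L) : Prop :=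
  HomAt H C β ∧ (∀ D, HomAt H D β → D = C) ∧ ∀ e, HomAt H C e → e = β

omit [ProjectivePlane P L] [Finite P] [Finite L] in
theorem Iso.conj {C : P} {β : L} (h : Iso H C β) {g : Coll P L} (hg : g ∈ H) :
    Iso H (g • C) (g • β) := by
  refine ⟨h.1.conj hg, fun D hD => ?_, fun e he => ?_⟩
  · have := hD.conj (H.inv_mem hg)
    rw [inv_smul_smul] at this
    exact inv_smul_eq_iff.1 (h.2.1 _ this)
  · have := he.conj (H.inv_mem hg)
    rw [inv_smul_smul] at this
    exact inv_smul_eq_iff.1 (h.2.2 _ this)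

/-- a collineation fixing an axis with only one centre fixes the centre -/
theorem fix_centre_of_fix_axis {C : P} {β : L} (h1 : HomAt H C β)
    (hu : ∀ D, HomAt H D β → D = C) {g : Coll P L} (hg : g ∈ H) (hβ : g • β = β) : g • C = C :=
  hu _ (by have := h1.conj hg; rwa [hβ] at this)

/-- every line through the only centre of an axis is an axis with centre on that axis -/
theorem axis_through_centre (R : Rich H) {C0 : P} {b : L} (h1 : HomAt H C0 b)
    (hu : ∀ D, HomAt H D b → D = C0) {a : L} (ha : C0 ∈ a) : ∃ D, D ∈ b ∧ HomAt H D a := by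
  obtain ⟨h0, hh0⟩ := h1
  have hab : a ≠ b := fun e => hh0.2.2 (e ▸ ha)
  obtain ⟨M, hM, -⟩ := existsUnique_meet (P := P) hab
  obtain ⟨C, hC, hCC0, hCM⟩ := exists_ne_ne_mem a C0 M
  have hCb : C ∉ b := fun e => hCM (point_eq hab hC e hM.1 hM.2)
  obtain ⟨h, hh, n1, n2, hfC, hfb⟩ := R.anti C b hCb
  obtain ⟨X, e, hho⟩ := R.homology_data hh n1 n2
  rcases fixed_line hho.2.1 hfb with rfl | hXb
  · rw [hu X ⟨h, hho⟩] at hho
    exact absurd ((fixed_point hho.2.1 hfC).resolve_left hCC0) hCb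
  have hC0 : C0 ∈ e := (fixed_point hho.2.1 (fix_centre_of_fix_axis ⟨h0, hh0⟩ hu hh hfb)).resolve_left
    fun e' => hh0.2.2 (e' ▸ hXb)
  have hCe : C ∈ e := (fixed_point hho.2.1 hfC).resolve_left fun e' => hCb (e' ▸ hXb)
  exact ⟨X, hXb, h, line_eq hCC0 hCe hC0 hC ha ▸ hho⟩

theorem case_unique_centre_iso (R : Rich H) (h5 : 5 ≤ ProjectivePlane.order P L) {C0 : P} {b : L}
    (h0 : Iso H C0 b) : False := by
  classical
  have hnm : ∀ {C : P} {β : L}, Iso H C β → C ∉ β := fun h => h.1.elim fun _ h => h.2.2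
  have hclos : ∀ {C C' : P} {β β' : L}, Iso H C β → Iso H C' β' → C ≠ C' →
      ∀ {D : P} {a : L}, D ∈ β → D ∈ β' → C ∈ a → C' ∈ a → Iso H D a := by
    intro C C' β β' hC hC' hne D a hD hD' ha ha'
    have hββ : β ≠ β' := fun e => hne (hC'.2.1 C (e ▸ hC.1))
    have hcent : ∀ E, HomAt H E a → E = D := by
      rintro E ⟨h, hh⟩
      have mem : ∀ {C : P} {β : L}, Iso H C β → C ∈ a → E ∈ β := by
        intro C β hC ha
        have h1 := hC.1.conj hh.1
        rw [hh.2.1.2.2 C ha] at h1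
        exact (fixed_line hh.2.1 (hC.2.2 _ h1)).resolve_left fun e => hnm hC (e ▸ ha)
      exact point_eq hββ (mem hC ha) (mem hC' ha') hD hD'
    obtain ⟨E, -, hE'⟩ := axis_through_centre R hC.1 hC.2.1 ha
    refine ⟨hcent E hE' ▸ hE', hcent, ?_⟩
    rintro e ⟨h, hh⟩
    have mem : ∀ {C : P} {β : L}, Iso H C β → D ∈ β → C ∈ e := by
      intro C β hC hD
      have hfix := fix_centre_of_fix_axis hC.1 hC.2.1 hh.1 (hh.2.1.2.1 β hD)
      exact (fixed_point hh.2.1 hfix).resolve_left fun e' => hnm hC (e' ▸ hD)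
    exact line_eq hne (mem hC hD) (mem hC' hD') ha ha'
  -- the isolated points form a friendship graph
  let V := {C : P // ∃ β, Iso H C β}
  haveI : Nonempty V := ⟨⟨C0, b, h0⟩⟩
  let φ : V → L := fun x => x.2.choose
  have hφ : ∀ x : V, Iso H x.1 (φ x) := fun x => x.2.choose_spec
  obtain ⟨x, hx⟩ := exists_universal_of_friendship (fun x y : V => y.1 ∈ φ x)
    (by
      intro x y hy
      obtain ⟨h, hh⟩ := (hφ y).1
      have hfix := fix_centre_of_fix_axis (hφ x).1 (hφ x).2.1 hh.1 (hh.2.1.2.1 _ hy)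
      exact (fixed_point hh.2.1 hfix).resolve_left fun e => hnm (hφ x) (by rw [e]; exact hy))
    (fun x => hnm (hφ x))
    (by
      intro x y hxy
      have hxy' : x.1 ≠ y.1 := fun e => hxy (Subtype.ext e)
      have hlne : φ x ≠ φ y := fun e => hxy' ((hφ y).2.1 _ (e ▸ (hφ x).1))
      obtain ⟨D, hD, hDu⟩ := existsUnique_meet (P := P) hlne
      obtain ⟨a, ha⟩ := exists_join (L := L) x.1 y.1
      exact ⟨⟨D, a, hclos (hφ x) (hφ y) hxy' hD.1 hD.2 ha.1 ha.2⟩, hD,
        fun z hz => Subtype.ext (hDu z.1 hz)⟩)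
  obtain ⟨C1, β1, h1⟩ : ∃ C β, Iso H C β := ⟨_, _, hφ x⟩
  -- three pairs, one of which every involution fixes
  obtain ⟨C, β, hiso, hfixed⟩ : ∃ (C : Fin 3 → P) (β : Fin 3 → L), (∀ i, Iso H (C i) (β i)) ∧
      ∀ h ∈ H, h * h = 1 → ∃ i, h • C i = C i := by
    by_cases hinv : ∀ g ∈ H, g • x.1 = x.1
    · exact ⟨fun _ => x.1, fun _ => φ x, fun _ => hφ x, fun h hh _ => ⟨0, hinv h hh⟩⟩
    simp only [not_forall] at hinv
    obtain ⟨g, hg, hgx⟩ := hinv
    let y : V := ⟨g • x.1, g • φ x, (hφ x).conj hg⟩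
    have hy : ∀ z : V, z ≠ y → z.1 ∈ g • φ x := by
      intro z hz
      rw [mem_smul_iff]
      refine hx ⟨g⁻¹ • z.1, g⁻¹ • φ z, (hφ z).conj (H.inv_mem hg)⟩ fun e => hz (Subtype.ext ?_)
      exact inv_smul_eq_iff.1 (congrArg Subtype.val e)
    have hxy : x.1 ≠ g • x.1 := fun e => hgx e.symm
    have hlne : φ x ≠ g • φ x := fun e =>
      hgx (((hφ x).conj hg).2.1 x.1 (e ▸ (hφ x).1)).symm
    obtain ⟨D, hD, hDu⟩ := existsUnique_meet (P := P) hlne
    obtain ⟨a, ha⟩ := exists_join (L := L) x.1 (g • x.1)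
    have hDiso := hclos (hφ x) ((hφ x).conj hg) hxy hD.1 hD.2 ha.1 ha.2
    have hall : ∀ z : V, z.1 = x.1 ∨ z.1 = g • x.1 ∨ z.1 = D := by
      intro z
      by_cases hzx : z = x
      · exact Or.inl (congrArg Subtype.val hzx)
      by_cases hzy : z = y
      · exact Or.inr (Or.inl (congrArg Subtype.val hzy))
      exact Or.inr (Or.inr (hDu z.1 ⟨hx z hzx, hy z hzy⟩))
    refine ⟨![x.1, g • x.1, D], ![φ x, g • φ x, a], ?_, ?_⟩
    · intro i; fin_cases i
      · exact hφ x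
      · exact (hφ x).conj hg
      · exact hDiso
    intro h hh hsq
    have hi : ∀ z : P, h • h • z = z := fun z => by rw [← mul_smul, hsq, one_smul]
    rcases hall ⟨h • x.1, _, (hφ x).conj hh⟩ with e | e | e
    · exact ⟨0, e⟩
    · rcases hall ⟨h • D, _, hDiso.conj hh⟩ with f | f | f
      · exact absurd ((hi D).symm.trans ((congrArg (h • ·) f).trans e))
          (fun e' => hnm ((hφ x).conj hg) (e' ▸ hD.2))
      · exact absurd (smul_left_cancel h (f.trans e.symm)) (fun e' => hnm (hφ x) (e' ▸ hD.1))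
      · exact ⟨2, f⟩
    · rcases hall ⟨h • g • x.1, _, ((hφ x).conj hg).conj hh⟩ with f | f | f
      · exact absurd ((hi (g • x.1)).symm.trans ((congrArg (h • ·) f).trans e))
          (fun e' => hnm ((hφ x).conj hg) (e'.symm ▸ hD.2))
      · exact ⟨1, f⟩
      · exact absurd (smul_left_cancel h (f.trans e.symm)) hxy.symm
  obtain ⟨e, A, B, hA, hB, hAB, hgood⟩ := exists_test_line h5 C β fun i => hnm (hiso i)
  obtain ⟨h, hh, n1, n2, hfA, hfB⟩ := R.pair A B hAB
  obtain ⟨X, ε, hho⟩ := R.homology_data hh n1 n2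
  obtain ⟨i, hi⟩ := hfixed h hh n2
  obtain ⟨hCe, heβ, hAβ, hBβ⟩ := hgood i
  have hβfix : h • β i = β i := (hiso i).2.2 _ (by have := (hiso i).1.conj hh; rwa [hi] at this)
  have hX : X = C i ∨ X ∈ β i := by
    rcases fixed_line hho.2.1 hβfix with e' | e'
    · exact Or.inl ((hiso i).2.1 X ⟨h, by rw [e']; exact hho⟩)
    · exact Or.inr e'
  have hnX : ∀ Z, Z ∈ e → Z ∉ β i → Z ≠ X := by
    intro Z h1 h2 e'
    subst e'
    exact hX.elim (fun e'' => hCe (by rw [← e'']; exact h1)) h2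
  have hεe : ε = e := line_eq hAB ((fixed_point hho.2.1 hfA).resolve_left (hnX A hA hAβ))
    ((fixed_point hho.2.1 hfB).resolve_left (hnX B hB hBβ)) hA hB
  subst hεe
  rcases fixed_point hho.2.1 hi with e' | e'
  · exact heβ ((hiso i).2.2 _ (e' ▸ ⟨h, hho⟩))
  · exact hCe e'

theorem case_unique_centre (R : Rich H) (h5 : 5 ≤ ProjectivePlane.order P L) {C0 : P} {b : L}
    (h1 : HomAt H C0 b) (hu : ∀ D, HomAt H D b → D = C0) : Goal H := by
  classical
  cases nonempty_fintype L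
  have hC0b : C0 ∉ b := h1.elim fun _ h => h.2.2
  by_cases hiso : ∀ e, HomAt H C0 e → e = b
  · exact (case_unique_centre_iso R h5 ⟨h1, hu, hiso⟩).elim
  simp only [not_forall] at hiso
  obtain ⟨a0, ha0, ha0b⟩ := hiso
  obtain ⟨t0, c0, ht0, -⟩ := orbit_axes ha0b ha0 h1
  by_cases hall : ∀ a, C0 ∈ a → ElAt H C0 a
  · refine step_one R.odd C0 (Finset.univ.filter fun a => C0 ∈ a) ?_
      (fun a ha => hall a (Finset.mem_filter.1 ha).2)
    have := card_pencil (L := L) C0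
    rw [Nat.card_eq_fintype_card, Fintype.card_subtype] at this
    omega
  simp only [not_forall] at hall
  obtain ⟨a1, ha1, hno1⟩ := hall
  -- an elation with centre C0 fixes the centres, unless it gives the axis an elation
  have key : ∀ {t : Coll P L} {c : L}, El H t C0 c → ∀ {a : L}, C0 ∈ a → ¬ ElAt H C0 a →
      ∀ {D : P}, D ∈ b → HomAt H D a → D ∈ c := by
    intro t c ht a ha hno D hDb hD
    obtain ⟨k, hk⟩ := id hD
    have hDC0 : D ≠ C0 := fun e => hC0b (e ▸ hDb)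
    by_contra hDc
    have hne : D ≠ t • D := (elation_fpf ht.2.1 ht.2.2 hDc).symm
    have h2 := hD.conj ht.1
    rw [ht.2.1.2.1 a ha] at h2
    obtain ⟨s, V, hs, hsD⟩ := orbit_centres hne hD h2
    obtain ⟨m, hm⟩ := exists_join (L := L) D C0
    obtain ⟨m', hm'⟩ := exists_join (L := L) D V
    have e1 : t • D ∈ m := by rw [← ht.2.1.2.1 m hm.2]; exact (smul_mem_smul t).2 hm.1
    have e2 : t • D ∈ m' := by
      rw [← hsD, ← hs.2.1.2.1 m' hm'.2]; exact (smul_mem_smul s).2 hm'.1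
    have e3 := line_eq hne hm'.1 e2 hm.1 e1
    have hma : m ≠ a := fun e => hk.2.2 (e ▸ hm.1)
    exact hno (point_eq hma (e3 ▸ hm'.2) hs.2.2 hm.2 ha ▸ ⟨s, hs⟩)
  obtain ⟨D, hDb, hD⟩ := axis_through_centre R h1 hu ha1
  have hDC0 : D ≠ C0 := fun e => hC0b (e ▸ hDb)
  obtain ⟨d, hd⟩ := exists_join (L := L) D C0
  have haxis : ∀ c, ElAt H C0 c → c = d := by
    rintro c ⟨t, ht⟩
    exact line_eq hDC0 (key ht ha1 hno1 hDb hD) ht.2.2 hd.1 hd.2
  have hc0 : c0 = d := haxis c0 ⟨t0, ht0⟩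
  subst hc0
  have hdb : c0 ≠ b := fun e => hC0b (e ▸ hd.2)
  have hcent : ∀ a, C0 ∈ a → a ≠ c0 → HomAt H D a := by
    intro a ha hac
    obtain ⟨E, hEb, hE⟩ := axis_through_centre R h1 hu ha
    have := key ht0 ha (fun h => hac (haxis a h)) hEb hE
    exact point_eq hdb this hEb hd.1 hDb ▸ hE
  have htr : ∀ a a' : L, C0 ∈ a → C0 ∈ a' → a ≠ c0 → a' ≠ c0 → a ≠ a' →
      ∃ t, El H t D c0 ∧ t • a = a' := by
    intro a a' ha ha' hac hac' hne
    obtain ⟨t, c, ht, hta⟩ := orbit_axes hne (hcent a ha hac) (hcent a' ha' hac')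
    have hca : c ≠ a := fun e =>
      (hcent a ha hac).elim fun _ h => h.2.2 (e ▸ ht.2.2)
    obtain ⟨Z, hZ, -⟩ := existsUnique_meet (P := P) hca
    have hZ' : Z ∈ a' := by
      rw [← hta, ← ht.2.1.2.2 Z hZ.1]; exact (smul_mem_smul t).2 hZ.2
    have hC0c : C0 ∈ c := point_eq hne ha ha' hZ.2 hZ' ▸ hZ.1
    exact ⟨t, line_eq hDC0 ht.2.2 hC0c hd.1 hd.2 ▸ ht, hta⟩
  obtain ⟨a2, ha2, ha2'⟩ := exists_line_avoid C0 {c0} (by simp; omega)
  have ha2c : a2 ≠ c0 := fun e => ha2' (by simp [e])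
  obtain ⟨a3, ha3, ha3'⟩ := exists_line_avoid C0 {c0, a2}
    (Finset.card_le_two.trans (by omega))
  simp only [Finset.mem_insert, Finset.mem_singleton, not_or] at ha3'
  obtain ⟨t1, ht1, -⟩ := htr a2 a3 ha2 ha3 ha2c ha3'.1 (Ne.symm ha3'.2)
  obtain ⟨p, hp, hexp, -⟩ := two_directions hDC0 ⟨t1, ht1⟩ ⟨t0, ht0⟩
  have hE : ∀ g ∈ perspGroup H D c0, g ^ p = 1 := by
    intro g hg
    by_cases h : g = 1
    · rw [h, one_pow]
    · exact hexp (W := D) ⟨hg.1, ⟨h, hg.2.1, hg.2.2⟩, hd.1⟩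
  have hkeep : ∀ g : ↥(perspGroup H D c0), ∀ a : {l : L // C0 ∈ l ∧ l ≠ c0},
      C0 ∈ g.1 • a.1 ∧ g.1 • a.1 ≠ c0 := by
    intro g a
    refine ⟨?_, fun e => a.2.2 (smul_left_cancel g.1 (e.trans (smul_axis g.2.2.2).symm))⟩
    have := (smul_mem_smul g.1).2 a.2.1
    rwa [g.2.2.2 C0 hd.2] at this
  letI : MulAction ↥(perspGroup H D c0) {l : L // C0 ∈ l ∧ l ≠ c0} :=
    { smul := fun g a => ⟨g.1 • a.1, hkeep g a⟩
      one_smul := fun a => Subtype.ext (one_smul (Coll P L) a.1)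
      mul_smul := fun g k a => Subtype.ext (mul_smul g.1 k.1 a.1) }
  haveI : Nonempty {l : L // C0 ∈ l ∧ l ≠ c0} := ⟨⟨a2, ha2, ha2c⟩⟩
  have hdvd := dvd_card_of_transitive (G := ↥(perspGroup H D c0))
    (X := {l : L // C0 ∈ l ∧ l ≠ c0}) fun a a' => by
      by_cases h : a = a'
      · exact ⟨1, h ▸ one_smul _ a⟩
      obtain ⟨t, ht, hta⟩ := htr a.1 a'.1 a.2.1 a'.2.1 a.2.2 a'.2.2 fun e => h (Subtype.ext e)
      exact ⟨⟨t, ht.1, ht.2.1.2.1, ht.2.1.2.2⟩, Subtype.ext hta⟩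
  rw [card_punctured_pencil C0 hd.2] at hdvd
  obtain ⟨e, he⟩ := isPrimePow_order_of_dvd hp hE hdvd
  exact ⟨p, e, hp, he, t0, ht0.1, ⟨C0, c0, ht0.2.2, ht0.2.1⟩, hexp ht0⟩

/-- at a point that is no centre every line is an axis with centres on all the others -/
theorem centre_on_line (R : Rich H) {C : P} (hC : ∀ a, ¬ HomAt H C a) {a y : L} (ha : C ∈ a)
    (hy : C ∈ y) (hay : a ≠ y) : ∃ D, D ∈ y ∧ HomAt H D a := by
  let G : Subgroup (Coll P L) := H ⊓ MulAction.stabilizer (Coll P L) C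
  have hkeep : ∀ g : ↥G, ∀ l : {l : L // C ∈ l}, C ∈ g.1 • l.1 := by
    intro g l
    have := (smul_mem_smul g.1).2 l.2
    rwa [(g.2.2 : g.1 • C = C)] at this
  letI : MulAction ↥G {l : L // C ∈ l} :=
    { smul := fun g l => ⟨g.1 • l.1, hkeep g l⟩
      one_smul := fun l => Subtype.ext (one_smul (Coll P L) l.1)
      mul_smul := fun g k l => Subtype.ext (mul_smul g.1 k.1 l.1) }
  have hinv : ∀ x z : {l : L // C ∈ l}, x ≠ z → ∃ g : ↥G, ∃ (X : P) (ε : L),
      g * g = 1 ∧ g • x = x ∧ g • z = z ∧ Ho H g.1 X ε ∧ C ∈ ε ∧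
      ((ε = x.1 ∧ X ∈ z.1) ∨ (ε = z.1 ∧ X ∈ x.1)) := by
    intro x z hxz
    have hne : x.1 ≠ z.1 := fun e => hxz (Subtype.ext e)
    obtain ⟨h, hh, n1, n2, hfx, hfz⟩ := R.pairL x.1 z.1 hne
    obtain ⟨X, ε, hho⟩ := R.homology_data hh n1 n2
    have hfC : h • C = C := smul_meet_eq hne hfx hfz x.2 z.2
    have hXC : C ≠ X := fun e => hC ε (e ▸ ⟨h, hho⟩)
    refine ⟨⟨h, hh, hfC⟩, X, ε, Subtype.ext n2, Subtype.ext hfx, Subtype.ext hfz, hho,
      (fixed_point hho.2.1 hfC).resolve_left hXC, ?_⟩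
    rcases fixed_line hho.2.1 hfx with rfl | hXx
    · exact Or.inl ⟨rfl, (fixed_line hho.2.1 hfz).resolve_left hne.symm⟩
    · rcases fixed_line hho.2.1 hfz with rfl | hXz
      · exact Or.inr ⟨rfl, hXx⟩
      · exact absurd (point_eq hne hXx hXz x.2 z.2).symm hXC
  obtain ⟨g, X, ε, -, -, -, hho, hCε, hcase⟩ := hinv ⟨a, ha⟩ ⟨y, hy⟩
    fun e => hay (congrArg Subtype.val e)
  have htwo : ∀ {x z : {l : L // C ∈ l}} {x' z' : {l : L // C ∈ l}}, x ≠ z → x' ≠ z' →
      ∃ g : ↥G, g • x = x' ∧ g • z = z' := fun {x z x' z'} h h' =>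
    twoPretransitive_of_involutions (G := ↥G) (by rw [card_pencil]; have := R.three_le; omega)
      (fun x z hxz => by
        obtain ⟨g, X, ε, hgg, hgx, hgz, hho, hCε, hcase⟩ := hinv x z hxz
        refine ⟨g, hgg, hgx, hgz, fun w hw => ?_⟩
        have hne : x.1 ≠ z.1 := fun e => hxz (Subtype.ext e)
        have hXC : C ≠ X := fun e => hC ε (e ▸ ⟨g.1, hho⟩)
        rcases fixed_line hho.2.1 (Subtype.ext_iff.1 hw) with h | h <;>
          rcases hcase with ⟨h1, h2⟩ | ⟨h1, h2⟩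
        · exact Or.inl (Subtype.ext (h.trans h1))
        · exact Or.inr (Subtype.ext (h.trans h1))
        · exact Or.inr (Subtype.ext (line_eq hXC w.2 h z.2 h2))
        · exact Or.inl (Subtype.ext (line_eq hXC w.2 h x.2 h2)))
      h h'
  rcases hcase with ⟨h1, h2⟩ | ⟨h1, h2⟩
  · subst h1; exact ⟨X, h2, g.1, hho⟩
  · have hne : (⟨a, ha⟩ : {l : L // C ∈ l}) ≠ ⟨y, hy⟩ := fun e => hay (congrArg Subtype.val e)
    obtain ⟨k, hk1, hk2⟩ := htwo hne.symm hne
    have e1 : k.1 • y = a := Subtype.ext_iff.1 hk1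
    have e2 : k.1 • a = y := Subtype.ext_iff.1 hk2
    have h2' : X ∈ a := h2
    have h1' : ε = y := h1
    refine ⟨k.1 • X, ?_, ?_⟩
    · have := (smul_mem_smul k.1).2 h2'
      rwa [e2] at this
    · have := HomAt.conj (H := H) ⟨g.1, hho⟩ k.2.1
      rwa [h1', e1] at this

/-- a line with two directions at a point that is no centre -/
theorem case_noncentre_twoDir (R : Rich H) {C : P} (hC : ∀ a, ¬ HomAt H C a) {a : L} (ha : C ∈ a)
    {U V : P} (hUV : U ≠ V) (hU : ElAt H U a) (hV : ElAt H V a) : Goal H := by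
  obtain ⟨p, hp, hexp, hcomm⟩ := two_directions hUV hU hV
  let S : Set (Coll P L) := {t | ∃ W, El H t W a}
  let E := Subgroup.closure S
  have hle : E ≤ Subgroup.centralizer S := (Subgroup.closure_le _).2 fun u hu =>
    Subgroup.mem_centralizer_iff.2 fun t ht => hu.elim fun _ hu => ht.elim fun _ ht => hcomm ht hu
  have hle2 : E ≤ Subgroup.centralizer (E : Set (Coll P L)) := (Subgroup.closure_le _).2 fun t ht =>
    Subgroup.mem_centralizer_iff.2 fun g hg =>
      (Subgroup.mem_centralizer_iff.1 (hle hg) t ht).symm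
  have hall : ∀ g ∈ E, g ^ p = 1 ∧ IsAxis g a := by
    intro g hg
    induction hg using Subgroup.closure_induction with
    | mem x hx => exact hx.elim fun W h => ⟨hexp h, h.2.1.2.2⟩
    | one => exact ⟨one_pow p, IsAxis.one a⟩
    | mul x y hx hy ihx ihy =>
      have hxy : Commute x y := Subgroup.mem_centralizer_iff.1 (hle2 hy) x hx
      exact ⟨by rw [hxy.mul_pow, ihx.1, ihy.1, one_mul], ihx.2.mul ihy.2⟩
    | inv x _ ih => exact ⟨by rw [inv_pow, ih.1, inv_one], ih.2.inv⟩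
  have hkeep : ∀ g : ↥E, ∀ l : {l : L // C ∈ l ∧ l ≠ a}, C ∈ g.1 • l.1 ∧ g.1 • l.1 ≠ a := by
    intro g l
    refine ⟨?_, fun e => l.2.2 (smul_left_cancel g.1 (e.trans (smul_axis (hall g.1 g.2).2).symm))⟩
    have := (smul_mem_smul g.1).2 l.2.1
    rwa [(hall g.1 g.2).2 C ha] at this
  letI : MulAction ↥E {l : L // C ∈ l ∧ l ≠ a} :=
    { smul := fun g l => ⟨g.1 • l.1, hkeep g l⟩
      one_smul := fun l => Subtype.ext (one_smul (Coll P L) l.1)
      mul_smul := fun g k l => Subtype.ext (mul_smul g.1 k.1 l.1) }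
  obtain ⟨l0, hl0, hl0'⟩ := exists_line_avoid C {a}
    (by rw [Finset.card_singleton]; have := R.three_le; omega)
  haveI : Nonempty {l : L // C ∈ l ∧ l ≠ a} := ⟨⟨l0, hl0, fun e => hl0' (by simp [e])⟩⟩
  have hdvd := dvd_card_of_transitive (G := ↥E) (X := {l : L // C ∈ l ∧ l ≠ a}) fun x z => by
    by_cases h : x = z
    · exact ⟨1, h ▸ one_smul _ x⟩
    have hne : x.1 ≠ z.1 := fun e => h (Subtype.ext e)
    obtain ⟨D, hDx, hD⟩ := centre_on_line R hC ha x.2.1 x.2.2.symm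
    obtain ⟨D', hDz, hD'⟩ := centre_on_line R hC ha z.2.1 z.2.2.symm
    have hDC : D ≠ C := fun e => hC a (e ▸ hD)
    have hD'C : D' ≠ C := fun e => hC a (e ▸ hD')
    obtain ⟨t, W, ht, htD⟩ := orbit_centres (C := D) (D := D')
      (fun e => hDC (point_eq hne hDx (by rw [e]; exact hDz) x.2.1 z.2.1)) hD hD'
    refine ⟨⟨t, Subgroup.subset_closure ⟨W, ht⟩⟩, Subtype.ext ?_⟩
    refine line_eq hD'C ?_ ?_ hDz z.2.1
    · rw [← htD]; exact (smul_mem_smul t).2 hDx
    · have := (smul_mem_smul t).2 x.2.1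
      rw [ht.2.1.2.2 C ha] at this
      exact this
  rw [card_punctured_pencil C ha] at hdvd
  obtain ⟨e, he⟩ := isPrimePow_order_of_dvd hp (fun g hg => (hall g hg).1) hdvd
  obtain ⟨t, ht⟩ := hU
  exact ⟨p, e, hp, he, t, ht.1, ⟨U, a, ht.2.2, ht.2.1⟩, hexp ht⟩

theorem case_noncentre (R : Rich H) {C : P} (hC : ∀ a, ¬ HomAt H C a) : Goal H := by
  classical
  cases nonempty_fintype L
  by_contra hgoal
  have hsingle : ∀ {C : P}, (∀ a, ¬ HomAt H C a) → ∀ {a : L}, C ∈ a → ∀ {U V : P},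
      ElAt H U a → ElAt H V a → U = V := fun {C} hC {a} ha {U V} hU hV =>
    Classical.byContradiction fun hne => hgoal (case_noncentre_twoDir R hC ha hne hU hV)
  -- centres of axes through a non-centre
  have hloc : ∀ {C : P}, (∀ a, ¬ HomAt H C a) → ∀ {a : L}, C ∈ a → ∃ (U : P) (o : L) (D : P),
      ElAt H U a ∧ U ≠ C ∧ HomAt H D a ∧ U ∈ o ∧ D ∈ o ∧ C ∉ o ∧
      ∀ D', HomAt H D' a → D' ∈ o := by
    intro C hC a ha
    obtain ⟨y, hy, hy'⟩ := exists_line_avoid C {a}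
      (by rw [Finset.card_singleton]; have := R.three_le; omega)
    have hya : a ≠ y := fun e => hy' (by simp [e])
    obtain ⟨D, hDy, hD⟩ := centre_on_line R hC ha hy hya
    obtain ⟨z, hz, hz'⟩ := exists_line_avoid C {a, y}
      (Finset.card_le_two.trans (by have := R.three_le; omega))
    simp only [Finset.mem_insert, Finset.mem_singleton, not_or] at hz'
    obtain ⟨D', hDz, hD'⟩ := centre_on_line R hC ha hz (Ne.symm hz'.1)
    have hDC : D ≠ C := fun e => hC a (e ▸ hD)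
    have hne : D ≠ D' := fun e =>
      hDC (point_eq (l := y) (m := z) (Ne.symm hz'.2) hDy (by rw [e]; exact hDz) hy hz)
    obtain ⟨t, U, ht, htD⟩ := orbit_centres hne hD hD'
    have hUC : U ≠ C := by
      rintro rfl
      have h1 : D' ∈ y := by rw [← htD, ← ht.2.1.2.1 y hy]; exact (smul_mem_smul t).2 hDy
      exact hC a (point_eq (Ne.symm hz'.2) h1 hDz hy hz ▸ hD')
    obtain ⟨k, hk⟩ := id hD
    obtain ⟨o, ho⟩ := exists_join (L := L) D U
    refine ⟨U, o, D, ⟨t, ht⟩, hUC, hD, ho.2, ho.1, fun e => ?_, fun D'' hD'' => ?_⟩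
    · have : o = a := line_eq hUC ho.2 e ht.2.2 ha
      exact hk.2.2 (this ▸ ho.1)
    · by_cases he : D'' = D
      · exact he ▸ ho.1
      obtain ⟨s, V, hs, hsD⟩ := orbit_centres (Ne.symm he) hD hD''
      have hVU : V = U := hsingle hC ha ⟨s, hs⟩ ⟨t, ht⟩
      rw [← hsD, ← hs.2.1.2.1 o (hVU ▸ ho.2)]
      exact (smul_mem_smul s).2 ho.1
  -- the centre on a line is the direction of the line
  have hdir : ∀ {C : P}, (∀ a, ¬ HomAt H C a) → ∀ {a d : L}, C ∈ a → C ∈ d → ∀ {D V : P},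
      HomAt H D a → D ∈ d → ElAt H V d → V = D := by
    intro C hC a d ha hd D V hD hDd hV
    obtain ⟨U, -, -, hU, hUC, -⟩ := hloc hC hd
    have hVC : V ≠ C := hsingle hC hd hV hU ▸ hUC
    obtain ⟨h, hh⟩ := hD
    have h1 := hV.conj hh.1
    rw [hh.2.1.2.1 d hDd] at h1
    rcases fixed_point hh.2.1 (hsingle hC hd h1 hV) with e | e
    · exact e
    · obtain ⟨t, ht⟩ := hV
      have hda : d ≠ a := fun e' => hh.2.2 (e' ▸ hDd)
      exact absurd (point_eq hda ht.2.2 e hd ha) hVC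
  let IsO : P → L → Prop := fun C o => C ∉ o ∧ (∀ d, C ∈ d → ∀ U, ElAt H U d → U ∈ o) ∧
    ∀ d, C ∈ d → ∀ D, HomAt H D d → D ∈ o
  have hO : ∀ {C : P}, (∀ a, ¬ HomAt H C a) → ∃ o, IsO C o := by
    intro C hC
    obtain ⟨a, ha, -⟩ := exists_line_avoid (L := L) C ∅ (by simp)
    obtain ⟨U, o, D0, hU, hUC, hD0, hUo, -, hCo, hcent⟩ := hloc hC ha
    have hdirs : ∀ d, C ∈ d → ∀ V, ElAt H V d → V ∈ o := by
      intro d hd V hV
      by_cases hda : d = a
      · exact hsingle hC ha (hda ▸ hV) hU ▸ hUo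
      obtain ⟨D, hDd, hD⟩ := centre_on_line R hC ha hd (Ne.symm hda)
      exact hdir hC ha hd hD hDd hV ▸ hcent D hD
    refine ⟨o, hCo, hdirs, fun d hd D hD => ?_⟩
    obtain ⟨y, hy⟩ := exists_join (L := L) C D
    obtain ⟨V, -, -, hV, -⟩ := hloc hC hy.1
    exact hdir hC hd hy.1 hD hy.2 hV ▸ hdirs y hy.1 V hV
  obtain ⟨o, ho⟩ := hO hC
  have hsame : ∀ {C' : P}, (∀ a, ¬ HomAt H C' a) → ∀ {o' : L}, IsO C' o' → o' = o := by
    intro C' hC' o' ho'
    obtain ⟨a, ha⟩ := exists_join (L := L) C C'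
    obtain ⟨U, -, D, hU, -, hD, -⟩ := hloc hC ha.1
    have hne : U ≠ D := by
      rintro rfl
      exact hD.elim fun _ h => hU.elim fun _ t => h.2.2 t.2.2
    exact line_eq hne (ho'.2.1 a ha.2 U hU) (ho'.2.2 a ha.2 D hD) (ho.2.1 a ha.1 U hU)
      (ho.2.2 a ha.1 D hD)
  have hgo : ∀ g ∈ H, g • o = o := by
    intro g hg
    have hgC : ∀ a, ¬ HomAt H (g • C) a := fun a h => hC (g⁻¹ • a)
      (by have := h.conj (H.inv_mem hg); rwa [inv_smul_smul] at this)
    refine hsame hgC ⟨fun e => ho.1 ((smul_mem_smul g).1 e), fun d hd U hU => ?_, fun d hd D hD => ?_⟩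
    · rw [mem_smul_iff]
      exact ho.2.1 _ ((smul_mem_iff g).1 hd) _ (hU.conj (H.inv_mem hg))
    · rw [mem_smul_iff]
      exact ho.2.2 _ ((smul_mem_iff g).1 hd) _ (hD.conj (H.inv_mem hg))
  -- a line through a point of o has that direction, or lies among the centres of o
  have hdich : ∀ {U : P} {e : L}, U ∈ o → U ∈ e → e ≠ o →
      ElAt H U e ∨ ∀ Z, Z ∈ e → Z ≠ U → HomAt H Z o := by
    intro U e hUo hUe heo
    by_cases hn : ∃ C', C' ∈ e ∧ ∀ a, ¬ HomAt H C' a
    · obtain ⟨C', hC'e, hC'⟩ := hn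
      obtain ⟨o', ho'⟩ := hO hC'
      obtain ⟨V, -, -, hV, -⟩ := hloc hC' hC'e
      have hVo : V ∈ o := hsame hC' ho' ▸ ho'.2.1 e hC'e V hV
      obtain ⟨t, ht⟩ := id hV
      exact Or.inl (point_eq heo ht.2.2 hVo hUe hUo ▸ hV)
    · refine Or.inr fun Z hZe hZU => ?_
      simp only [not_exists, not_and, not_forall, not_not] at hn
      obtain ⟨ε, h, hh⟩ := hn Z hZe
      rcases fixed_line hh.2.1 (hgo h hh.1) with rfl | hZo
      · exact ⟨h, hh⟩
      · exact absurd (point_eq heo hZe hZo hUe hUo) hZU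
  -- two centres of o on a line give an elation in that direction
  have htrans : ∀ {U : P} {e : L}, U ∈ o → U ∈ e → e ≠ o → ∀ {Z Z' : P}, Z ∈ e → Z' ∈ e → Z ≠ Z' →
      HomAt H Z o → HomAt H Z' o → ∃ t, El H t U o ∧ t • Z = Z' := by
    intro U e hUo hUe heo Z Z' hZ hZ' hne h h'
    obtain ⟨t, V, ht, htZ⟩ := orbit_centres hne h h'
    obtain ⟨m, hm⟩ := exists_join (L := L) Z V
    have hm' : Z' ∈ m := by rw [← htZ, ← ht.2.1.2.1 m hm.2]; exact (smul_mem_smul t).2 hm.1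
    have hVe : V ∈ e := line_eq hne hm.1 hm' hZ hZ' ▸ hm.2
    exact ⟨t, point_eq heo hVe ht.2.2 hUe hUo ▸ ht, htZ⟩
  -- all lines at a point of o have that direction: done
  have hfinish : ∀ {U : P}, U ∈ o → (∀ e, U ∈ e → e ≠ o → ElAt H U e) → False := by
    intro U hUo hall
    refine hgoal (step_one R.odd U ((Finset.univ.filter fun e => U ∈ e).erase o) ?_ ?_)
    · have := card_pencil (L := L) U
      rw [Nat.card_eq_fintype_card, Fintype.card_subtype] at this
      rw [Finset.card_erase_of_mem (by simp [hUo]), this]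
      omega
    · intro e he
      obtain ⟨he1, he2⟩ := Finset.mem_erase.1 he
      exact hall e (Finset.mem_filter.1 he2).2 he1
  obtain ⟨U, hUo, -⟩ := exists_point_avoid (P := P) o ∅ (by simp)
  by_cases hallZ : ∃ e, U ∈ e ∧ e ≠ o ∧ ∀ Z, Z ∈ e → Z ≠ U → HomAt H Z o
  · obtain ⟨e, hUe, heo, hZ⟩ := hallZ
    obtain ⟨Z, hZe, hZU⟩ := exists_ne_mem e U
    obtain ⟨Z', hZ'e, hZ'U, hZ'Z⟩ := exists_ne_ne_mem e U Z
    obtain ⟨t, ht, -⟩ := htrans hUo hUe heo hZe hZ'e (Ne.symm hZ'Z) (hZ Z hZe hZU) (hZ Z' hZ'e hZ'U)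
    by_cases hV : ∃ V, V ≠ U ∧ ElAt H V o
    · obtain ⟨V, hVU, hV⟩ := hV
      obtain ⟨p, hp, hexp, -⟩ := two_directions (Ne.symm hVU) ⟨t, ht⟩ hV
      have hkeep : ∀ g : ↥(perspGroup H U o), ∀ X : {X : P // X ∈ e ∧ X ≠ U},
          g.1 • X.1 ∈ e ∧ g.1 • X.1 ≠ U := by
        intro g X
        refine ⟨?_, fun e' => X.2.2 (smul_left_cancel g.1 (e'.trans (smul_centre g.2.2.1).symm))⟩
        have := (smul_mem_smul g.1).2 X.2.1
        rwa [g.2.2.1 e hUe] at this
      letI : MulAction ↥(perspGroup H U o) {X : P // X ∈ e ∧ X ≠ U} :=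
        { smul := fun g X => ⟨g.1 • X.1, hkeep g X⟩
          one_smul := fun X => Subtype.ext (one_smul (Coll P L) X.1)
          mul_smul := fun g k X => Subtype.ext (mul_smul g.1 k.1 X.1) }
      haveI : Nonempty {X : P // X ∈ e ∧ X ≠ U} := ⟨⟨Z, hZe, hZU⟩⟩
      have hdvd := dvd_card_of_transitive (G := ↥(perspGroup H U o))
        (X := {X : P // X ∈ e ∧ X ≠ U}) fun X Y => by
          by_cases h : X = Y
          · exact ⟨1, h ▸ one_smul _ X⟩
          obtain ⟨s, hs, hsX⟩ := htrans hUo hUe heo X.2.1 Y.2.1 (fun e' => h (Subtype.ext e'))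
            (hZ X.1 X.2.1 X.2.2) (hZ Y.1 Y.2.1 Y.2.2)
          exact ⟨⟨s, hs.1, hs.2.1.2.1, hs.2.1.2.2⟩, Subtype.ext hsX⟩
      rw [card_punctured e hUe] at hdvd
      obtain ⟨k, hk⟩ := isPrimePow_order_of_dvd hp (fun g hg => by
        by_cases h : g = 1
        · rw [h, one_pow]
        · exact hexp (W := U) ⟨hg.1, ⟨h, hg.2.1, hg.2.2⟩, hUo⟩) hdvd
      exact hgoal ⟨p, k, hp, hk, t, ht.1, ⟨U, o, hUo, ht.2.1⟩, hexp ht⟩
    · obtain ⟨U', hU'o, hU'U⟩ := exists_ne_mem o U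
      refine hfinish hU'o fun e' he' he'o => (hdich hU'o he' he'o).resolve_right fun hall => hV ?_
      obtain ⟨W, hW, hWU⟩ := exists_ne_mem e' U'
      obtain ⟨W', hW', hW'U, hW'W⟩ := exists_ne_ne_mem e' U' W
      obtain ⟨s, hs, -⟩ := htrans hU'o he' he'o hW hW' (Ne.symm hW'W) (hall W hW hWU) (hall W' hW' hW'U)
      exact ⟨U', hU'U, s, hs⟩
  · exact hfinish hUo fun e he heo => (hdich hUo he heo).resolve_right fun h => hallZ ⟨e, he, heo, h⟩

/-- all points elation centres: all points of an elation axis are directions -/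
theorem case_direction (R : Rich H) (hE : ∀ W : P, ∃ c, ElAt H W c) {a : L} {U : P}
    (hU : ElAt H U a) : Goal H := by
  classical
  cases nonempty_fintype P
  refine step_one_dual R.odd a (Finset.univ.filter fun W => W ∈ a) ?_ ?_
  · have := card_line (P := P) a
    rw [Nat.card_eq_fintype_card, Fintype.card_subtype] at this
    omega
  intro W hW
  have hWa : W ∈ a := (Finset.mem_filter.1 hW).2
  by_contra hno
  obtain ⟨c, ε, hε⟩ := hE W
  have hca : c ≠ a := fun e => hno ⟨ε, e ▸ hε⟩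
  obtain ⟨t, ht⟩ := hU
  have hWU : W ≠ U := fun e => hno (e ▸ ⟨t, ht⟩)
  have h1 : IsCentre (t * ε * t⁻¹ * ε⁻¹) W := by
    have := hε.2.1.2.1.conj t
    rw [ht.2.1.2.2 W hWa] at this
    exact this.mul hε.2.1.2.1.inv
  have h2 : IsAxis (t * ε * t⁻¹ * ε⁻¹) a := by
    have := ht.2.1.2.2.inv.conj ε
    rw [hε.2.1.2.1 a hWa] at this
    rw [show t * ε * t⁻¹ * ε⁻¹ = t * (ε * t⁻¹ * ε⁻¹) by group]
    exact ht.2.1.2.2.mul this
  have h3 : t * ε * t⁻¹ = ε := by
    have : t * ε * t⁻¹ * ε⁻¹ = 1 := Classical.byContradiction fun hne => hno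
      ⟨_, H.mul_mem (H.mul_mem (H.mul_mem ht.1 hε.1) (H.inv_mem ht.1)) (H.inv_mem hε.1),
        ⟨hne, h1, h2⟩, hWa⟩
    exact mul_inv_eq_one.1 this
  have h4 := hε.2.1.conj t
  rw [h3] at h4
  rcases fixed_line ht.2.1 (persp_unique h4 hε.2.1).2 with e | e
  · exact hca e
  · exact hWU (point_eq hca hε.2.2 hWa e ht.2.2)

theorem goal_of_rich (R : Rich H) : Goal H := by
  classical
  have hq := R.three_le
  by_cases h3 : ProjectivePlane.order P L = 3
  · obtain ⟨U, a, t, ht⟩ := exists_elAt R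
    have h1 : Nat.card (perspGroup H U a) ∣ 3 := h3 ▸ card_perspGroup_dvd_order ht.2.2
    have h2 : (⟨t, ht.1, ht.2.1.2.1, ht.2.1.2.2⟩ : ↥(perspGroup H U a)) ^ 3 = 1 :=
      orderOf_dvd_iff_pow_eq_one.1 (orderOf_dvd_natCard _ |>.trans h1)
    exact ⟨3, 1, Nat.prime_three, by rw [h3, pow_one], t, ht.1, ⟨U, a, ht.2.2, ht.2.1⟩,
      by simpa using congrArg Subtype.val h2⟩
  have h5 : 5 ≤ ProjectivePlane.order P L := by
    obtain ⟨k, hk⟩ := R.odd
    omega
  by_contra hgoal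
  have hd : ∀ {D : P} {a : L}, HomAt H D a → ∃ a', a' ≠ a ∧ HomAt H D a' := by
    intro D a hD
    by_contra hn
    refine hgoal (goal_of_dual (case_unique_centre (P := Dual L) (L := Dual P) R.dual'
      (by rw [ProjectivePlane.Dual.order]; exact h5) (dual_HomAt.2 hD) fun E hE =>
      Classical.byContradiction fun hne => hn ⟨E, hne, dual_HomAt.1 hE⟩))
  have hP : ∀ C : P, ∃ a, HomAt H C a := fun C => Classical.byContradiction fun hn =>
    hgoal (case_noncentre R (fun a ha => hn ⟨a, ha⟩))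
  have hEC : ∀ U : P, ∃ c, ElAt H U c := by
    intro U
    obtain ⟨a, ha⟩ := hP U
    obtain ⟨a', hne, ha'⟩ := hd ha
    obtain ⟨t, c, ht, -⟩ := orbit_axes hne ha' ha
    exact ⟨c, t, ht⟩
  obtain ⟨U, a, hUa⟩ := exists_elAt R
  exact hgoal (case_direction R hEC hUa)

end CfsgLib.OW.Hom

namespace CfsgLib.OW

/-- the homology lemma: prime power order and an elation of that prime order -/
theorem primePow_and_elation {P L : Type*} [Membership P L] [Configuration.ProjectivePlane P L]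
    [Finite P] [Finite L] (H : Subgroup (Coll P L))
    (hodd : Odd (Configuration.ProjectivePlane.order P L))
    (hinv : ∀ σ ∈ H, σ ≠ 1 → σ * σ = 1 → IsHomology σ)
    (hpair : ∀ A B : P, A ≠ B → ∃ σ ∈ H, σ ≠ 1 ∧ σ * σ = 1 ∧ σ • A = A ∧ σ • B = B)
    (hpairL : ∀ a b : L, a ≠ b → ∃ σ ∈ H, σ ≠ 1 ∧ σ * σ = 1 ∧ σ • a = a ∧ σ • b = b)
    (hanti : ∀ (C : P) (b : L), C ∉ b → ∃ σ ∈ H, σ ≠ 1 ∧ σ * σ = 1 ∧ σ • C = C ∧ σ • b = b) :
    ∃ p e : ℕ, p.Prime ∧ Configuration.ProjectivePlane.order P L = p ^ e ∧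
      ∃ σ ∈ H, IsElation σ ∧ σ ^ p = 1 :=
  Hom.goal_of_rich ⟨hodd, hinv, hpair, hpairL, hanti⟩

end CfsgLib.OW
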