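import Mathlib

/-!
# Counting lemmas for the homology lemma of the Ostrom-Wagner theorem

* a "friendship" relation has a universal vertex;
* a group in which every pair is exactly the fixed pair of an involution is doubly transitive;
* orbit divisibility and the arithmetic forcing a prime power.
-/

set_option autoImplicit false

namespace CfsgLib.OW

/-- friendship theorem: any two distinct vertices have exactly one common neighbour ⇒ some vertex
is adjacent to all the others -/
theorem exists_universal_of_friendship {V : Type*} [Finite V] [Nonempty V] (R : V → V → Prop)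
    (hsymm : ∀ x y, R x y → R y x) (hirr : ∀ x, ¬ R x x)
    (hfr : ∀ x y, x ≠ y → ∃! z, R x z ∧ R y z) :
    ∃ x, ∀ y, y ≠ x → R x y := by
  classical
  cases nonempty_fintype V
  let N : V → Finset V := fun x => Finset.univ.filter (R x)
  have hN : ∀ x z, z ∈ N x ↔ R x z := fun x z => by simp [N]
  -- non-adjacent vertices have equal degrees
  have hdeg : ∀ x y, ¬ R x y → (N x).card = (N y).card := by
    intro x y hxy
    rcases eq_or_ne x y with rfl | hne
    · rfl
    have key : ∀ u v, ¬ R u v → ∀ z ∈ N u, ∃ w, (R z w ∧ R v w) := fun u v huv z hz => by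
      have hzv : z ≠ v := fun e => huv (e ▸ (hN u z).1 hz)
      exact (hfr z v hzv).exists
    choose! f hf using key x y hxy
    refine Finset.card_bij (fun z _ => f z) (fun z hz => (hN y _).2 (hf z hz).2) ?_ ?_
    · intro z₁ h₁ z₂ h₂ he
      have hwx : f z₁ ≠ x := fun e => hxy (hsymm _ _ (e ▸ (hf z₁ h₁).2))
      refine (hfr _ _ hwx).unique ⟨hsymm _ _ (hf z₁ h₁).1, (hN x _).1 h₁⟩ ?_
      exact ⟨he ▸ hsymm _ _ (hf z₂ h₂).1, (hN x _).1 h₂⟩
    · intro w hw
      have hwx : w ≠ x := fun e => hxy (hsymm _ _ (e ▸ (hN y _).1 hw))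
      obtain ⟨z, hz1, hz2⟩ := (hfr w x hwx).exists
      refine ⟨z, (hN x _).2 hz2, ?_⟩
      have hzy : z ≠ y := fun e => hxy (e ▸ hz2)
      exact (hfr z y hzy).unique (hf z ((hN x _).2 hz2)) ⟨hsymm _ _ hz1, (hN y _).1 hw⟩
  by_cases hreg : ∀ x y, (N x).card = (N y).card
  · obtain ⟨x⟩ := ‹Nonempty V›
    set k := (N x).card with hk
    -- the adjacency matrix over a semiring
    have hsq : ∀ (S : Type) [CommSemiring S], ∀ a b : V,
        (Matrix.of (fun u v => if R u v then (1 : S) else 0) *
          Matrix.of (fun u v => if R u v then (1 : S) else 0)) a b = if a = b then (k : S) else 1 := by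
      intro S _ a b
      have h1 : (Matrix.of (fun u v => if R u v then (1 : S) else 0) *
          Matrix.of (fun u v => if R u v then (1 : S) else 0)) a b =
          ((Finset.univ.filter (fun z => R a z ∧ R b z)).card : S) := by
        rw [Matrix.mul_apply, Finset.natCast_card_filter]
        refine Finset.sum_congr rfl fun z _ => ?_
        by_cases h1 : R a z
        · by_cases h2 : R b z
          · simp [h1, h2, hsymm _ _ h2]
          · simp [h1, h2, mt (hsymm z b) h2]
        · simp [h1]
      rw [h1]
      split_ifs with hab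
      · subst hab
        simp only [and_self]
        rw [show (N a).card = k from hreg a x]
      · obtain ⟨w, hw, hu⟩ := hfr a b hab
        have : Finset.univ.filter (fun z => R a z ∧ R b z) = {w} := by
          ext z; simp only [Finset.mem_filter, Finset.mem_univ, true_and, Finset.mem_singleton]
          exact ⟨hu z, fun e => e ▸ hw⟩
        simp [this]
    have hrow : k * k + 1 = k + Fintype.card V := by
      have h2 : ∑ b : V, (Matrix.of (fun u v => if R u v then (1 : ℕ) else 0) *
          Matrix.of (fun u v => if R u v then (1 : ℕ) else 0)) x b = k * k := by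
        simp only [Matrix.mul_apply]
        rw [Finset.sum_comm]
        simp only [Matrix.of_apply, ← Finset.mul_sum]
        have h3 : ∀ z, (∑ b : V, if R z b then (1 : ℕ) else 0) = k := fun z => by
          rw [Finset.sum_boole]; exact hreg z x
        simp only [h3]
        rw [← Finset.sum_mul, Finset.sum_boole]
        rfl
      have h4 : ∑ b : V, (if x = b then k else 1) = k * k := by
        rw [← h2]; exact Finset.sum_congr rfl fun b _ => by rw [hsq ℕ x b]; simp
      rw [← Finset.add_sum_erase _ _ (Finset.mem_univ x), if_pos rfl,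
        Finset.sum_congr rfl (g := fun _ => 1) (fun b hb => if_neg (Finset.ne_of_mem_erase hb).symm),
        Finset.sum_const, Finset.card_erase_of_mem (Finset.mem_univ x), smul_eq_mul, mul_one,
        Finset.card_univ] at h4
      have : 0 < Fintype.card V := Fintype.card_pos
      omega
    rcases Nat.lt_or_ge k 3 with hlt | hge
    · -- the neighbours are all the other vertices
      refine ⟨x, fun y hy => ?_⟩
      by_contra hxy
      have hsub : N x ⊆ ((Finset.univ : Finset V).erase x).erase y := by
        intro z hz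
        have hz' := (hN x z).1 hz
        simp only [Finset.mem_erase, Finset.mem_univ, and_true]
        exact ⟨fun e => hxy (e ▸ hz'), fun e => hirr x (e ▸ hz')⟩
      have h5 := Finset.card_le_card hsub
      rw [Finset.card_erase_of_mem (Finset.mem_erase.mpr ⟨hy, Finset.mem_univ _⟩),
        Finset.card_erase_of_mem (Finset.mem_univ x), Finset.card_univ, ← hk] at h5
      have hV : 2 ≤ Fintype.card V := Fintype.one_lt_card_iff.mpr ⟨y, x, hy⟩
      rcases (show k = 0 ∨ k = 1 ∨ k = 2 by omega) with h | h | h <;> simp only [h] at hrow h5 <;>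
        omega
    · -- regular of degree at least three: trace modulo a prime
      exfalso
      set p := (k - 1).minFac with hp
      haveI : Fact p.Prime := ⟨Nat.minFac_prime (by omega)⟩
      have hpk : ((k - 1 : ℕ) : ZMod p) = 0 :=
        (ZMod.natCast_eq_zero_iff _ _).mpr (Nat.minFac_dvd _)
      have hk1 : (k : ZMod p) = 1 := by
        rw [show k = (k - 1) + 1 by omega, Nat.cast_add, hpk, zero_add, Nat.cast_one]
      let M : Matrix V V (ZMod p) := Matrix.of (fun u v => if R u v then (1 : ZMod p) else 0)
      let J : Matrix V V (ZMod p) := Matrix.of (fun _ _ => (1 : ZMod p))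
      have hM2 : M * M = J := by
        ext a b
        rw [hsq (ZMod p) a b]
        simp [J, hk1]
      have hMJ : M * J = J := by
        ext a b
        simp only [M, J, Matrix.mul_apply, Matrix.of_apply, mul_one, Finset.sum_boole]
        rw [show (Finset.univ.filter (R a)).card = k from hreg a x, hk1]
      have hpow : ∀ j, M ^ (j + 2) = J := by
        intro j
        induction j with
        | zero => rw [pow_two]; exact hM2
        | succ j ih => rw [pow_succ', ih, hMJ]
      have htr := ZMod.trace_pow_card M
      obtain ⟨j, hj⟩ : ∃ j, p = j + 2 :=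
        ⟨p - 2, (Nat.sub_add_cancel (Nat.Prime.two_le Fact.out)).symm⟩
      have hMp : M ^ p = J := by
        have := hpow j
        rwa [← hj] at this
      rw [hMp] at htr
      have htM : Matrix.trace M = 0 := by
        simp [Matrix.trace, M, hirr]
      have htJ : Matrix.trace J = 1 := by
        simp only [Matrix.trace, J, Matrix.diag_apply, Matrix.of_apply, Finset.sum_const,
          Finset.card_univ, nsmul_eq_mul, mul_one]
        have := congrArg (Nat.cast : ℕ → ZMod p) hrow
        push_cast at this
        rw [hk1, mul_one] at this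
        exact (add_left_cancel this).symm
      rw [htJ, htM, zero_pow (show p ≠ 0 from (Nat.Prime.pos Fact.out).ne')] at htr
      exact one_ne_zero htr
  · simp only [not_forall] at hreg
    obtain ⟨x, y, hxy⟩ := hreg
    by_cases hA : ∃ a, (N a).card = (N x).card ∧ a ≠ x
    · obtain ⟨a, ha, hax⟩ := hA
      refine ⟨y, fun b hby => ?_⟩
      by_cases hb : (N b).card = (N x).card
      · exact Classical.byContradiction fun h => hxy ((hdeg y b h).trans hb).symm
      · exfalso
        have hadj : ∀ u v, (N u).card = (N x).card → (N v).card ≠ (N x).card → R u v := fun u v hu hv =>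
          Classical.byContradiction fun h => hv ((hdeg u v h).symm.trans hu)
        exact hby ((hfr x a hax.symm).unique ⟨hadj x b rfl hb, hadj a b ha hb⟩
          ⟨hadj x y rfl (Ne.symm hxy), hadj a y ha (Ne.symm hxy)⟩)
    · refine ⟨x, fun b hbx => Classical.byContradiction fun h => hA ⟨b, (hdeg x b h).symm, hbx⟩⟩

/-- an involution moves an even number of points of an invariant set -/
theorem even_card_sub_fixed {X : Type*} [DecidableEq X] (f : X → X) (s : Finset X)
    (hf : ∀ x ∈ s, f x ∈ s) (hff : ∀ x ∈ s, f (f x) = x) :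
    Even (s.filter (fun x => f x ≠ x)).card := by
  have h : ∑ _x ∈ s.filter (fun x => f x ≠ x), (1 : ZMod 2) = 0 := by
    refine Finset.sum_involution (fun x _ => f x) (fun x _ => by decide) ?_ ?_ ?_
    · intro x hx _; exact (Finset.mem_filter.1 hx).2
    · intro x hx
      obtain ⟨hx1, hx2⟩ := Finset.mem_filter.1 hx
      exact Finset.mem_filter.2 ⟨hf x hx1, fun e => hx2 (by rw [hff x hx1] at e; exact e.symm)⟩
    · intro x hx; exact hff x (Finset.mem_filter.1 hx).1
  rw [Finset.sum_const, nsmul_eq_mul, mul_one] at h
  exact (ZMod.natCast_eq_zero_iff_even).1 h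

/-- every pair of points is exactly the fixed set of an involution ⇒ transitive on ordered pairs -/
theorem twoPretransitive_of_involutions {G X : Type*} [Group G] [Finite X] [MulAction G X]
    (h3 : 3 ≤ Nat.card X)
    (hex : ∀ x y : X, x ≠ y →
      ∃ g : G, g * g = 1 ∧ g • x = x ∧ g • y = y ∧ ∀ z, g • z = z → z = x ∨ z = y)
    {x y x' y' : X} (hxy : x ≠ y) (hxy' : x' ≠ y') :
    ∃ g : G, g • x = x' ∧ g • y = y' := by
  classical
  cases nonempty_fintype X
  -- parity of an invariant set in terms of its two possible fixed points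
  have par : ∀ (g : G) (u v : X), g * g = 1 → g • u = u → g • v = v →
      (∀ z, g • z = z → z = u ∨ z = v) → ∀ s : Finset X, (∀ z ∈ s, g • z ∈ s) →
      Even (s.filter (fun z => z ≠ u ∧ z ≠ v)).card := by
    intro g u v hgg hu hv hfix s hs
    have h := even_card_sub_fixed (fun z => g • z) s hs
      (fun z _ => by show g • g • z = z; rw [← mul_smul, hgg, one_smul])
    refine (congrArg (fun t : Finset X => Even t.card) ?_).mp h
    refine Finset.filter_congr fun z _ => ⟨fun hz => ⟨fun e => hz (e ▸ hu), fun e => hz (e ▸ hv)⟩, ?_⟩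
    rintro ⟨h1, h2⟩ hz
    exact (hfix z hz).elim h1 h2
  let orb : X → Finset X := fun u => Finset.univ.filter (fun z => ∃ g : G, g • u = z)
  have horbinv : ∀ u (g : G), ∀ z ∈ orb u, g • z ∈ orb u := by
    intro u g z hz
    simp only [orb, Finset.mem_filter, Finset.mem_univ, true_and] at hz ⊢
    obtain ⟨k, rfl⟩ := hz
    exact ⟨g * k, mul_smul g k u⟩
  have hself : ∀ u, u ∈ orb u := fun u => by simp [orb]; exact ⟨1, one_smul _ _⟩
  have htrans : ∀ u v : X, ∃ g : G, g • u = v := by
    intro u v
    by_contra hne
    have huv : u ≠ v := fun e => hne ⟨1, e ▸ one_smul _ _⟩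
    have hnu : v ∉ orb u := by simpa [orb] using hne
    have hnv : u ∉ orb v := by
      simp only [orb, Finset.mem_filter, Finset.mem_univ, true_and, not_exists]
      exact fun g hg => hne ⟨g⁻¹, inv_smul_eq_iff.mpr hg.symm⟩
    -- the orbit of `u` is odd; a pair inside would make the orbit of `v` even
    have hodd : ∀ a b : X, b ∉ orb a → a ≠ b → Odd (orb a).card := by
      intro a b hb hab
      obtain ⟨g, hgg, h1, h2, h3'⟩ := hex a b hab
      have h := par g a b hgg h1 h2 h3' (orb a) (horbinv a g)
      have he : (orb a).filter (fun z => z ≠ a ∧ z ≠ b) = (orb a).erase a := by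
        ext z
        simp only [Finset.mem_filter, Finset.mem_erase]
        exact ⟨fun h => ⟨h.2.1, h.1⟩, fun h => ⟨h.2, h.1, fun e => hb (e ▸ h.2)⟩⟩
      rw [he, Finset.card_erase_of_mem (hself a)] at h
      have hpos := Finset.card_pos.mpr ⟨a, hself a⟩
      rw [Nat.odd_iff]
      have := Nat.even_iff.mp h
      omega
    have hsing : ∀ a b : X, b ∉ orb a → a ∉ orb b → ∀ w ∈ orb a, w = a := by
      intro a b hb ha w hw
      by_contra hwa
      obtain ⟨g, hgg, h1, h2, h3'⟩ := hex a w (Ne.symm hwa)
      have h := par g a w hgg h1 h2 h3' (orb b) (horbinv b g)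
      have he : (orb b).filter (fun z => z ≠ a ∧ z ≠ w) = orb b := by
        refine Finset.filter_true_of_mem fun z hz => ⟨fun e => ha (e ▸ hz), fun e => ?_⟩
        subst e
        simp only [orb, Finset.mem_filter, Finset.mem_univ, true_and] at hw hz ha
        obtain ⟨g1, hg1⟩ := hw; obtain ⟨g2, hg2⟩ := hz
        exact ha ⟨g1⁻¹ * g2, by rw [mul_smul, hg2]; exact inv_smul_eq_iff.mpr hg1.symm⟩
      rw [he] at h
      exact Nat.not_even_iff_odd.mpr (hodd b a ha fun e => hb (e ▸ hself a)) h
    -- so both orbits are single points, and every involution fixes them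
    have hu1 : ∀ g : G, g • u = u := fun g =>
      hsing u v hnu hnv _ (by simp [orb])
    have hv1 : ∀ g : G, g • v = v := fun g =>
      hsing v u hnv hnu _ (by simp [orb])
    obtain ⟨w, hwu, hwv⟩ : ∃ w : X, w ≠ u ∧ w ≠ v := by
      by_contra hc
      simp only [not_exists, not_and, Decidable.not_not] at hc
      have hsub : (Finset.univ : Finset X) ⊆ {u, v} := fun z _ => by
        by_cases h : z = u
        · simp [h]
        · simp [hc z h]
      have := (Finset.card_le_card hsub).trans Finset.card_le_two
      rw [Finset.card_univ, ← Nat.card_eq_fintype_card] at this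
      omega
    obtain ⟨g, -, -, -, h3'⟩ := hex u w (Ne.symm hwu)
    rcases h3' v (hv1 g) with e | e
    · exact huv e.symm
    · exact hwv e.symm
  -- transitivity of the stabiliser
  have hstab : ∀ a u v : X, u ≠ a → v ≠ a → ∃ g : G, g • a = a ∧ g • u = v := by
    intro a u v hu hv
    by_contra hne
    let sorb : X → Finset X := fun z => Finset.univ.filter (fun w => ∃ g : G, g • a = a ∧ g • z = w)
    have hsinv : ∀ z (g : G), g • a = a → ∀ w ∈ sorb z, g • w ∈ sorb z := by
      intro z g hg w hw
      simp only [sorb, Finset.mem_filter, Finset.mem_univ, true_and] at hw ⊢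
      obtain ⟨k, hk, rfl⟩ := hw
      exact ⟨g * k, by rw [mul_smul, hk, hg], mul_smul g k z⟩
    have hsa : ∀ z, z ≠ a → a ∉ sorb z := by
      intro z hz
      simp only [sorb, Finset.mem_filter, Finset.mem_univ, true_and, not_exists, not_and]
      intro g hg hgz
      exact hz (smul_left_cancel g (hgz.trans hg.symm))
    have hsself : ∀ z, z ∈ sorb z := fun z => by
      simp [sorb]; exact ⟨1, one_smul _ _, one_smul _ _⟩
    have hvu : v ∉ sorb u := by simpa [sorb] using hne
    obtain ⟨g, hgg, h1, h2, h3'⟩ := hex a u (Ne.symm hu)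
    obtain ⟨k, hkk, k1, k2, k3⟩ := hex a v (Ne.symm hv)
    have e1 := par g a u hgg h1 h2 h3' (sorb u) (hsinv u g h1)
    have e2 := par k a v hkk k1 k2 k3 (sorb u) (hsinv u k k1)
    have he1 : (sorb u).filter (fun z => z ≠ a ∧ z ≠ u) = (sorb u).erase u := by
      ext z
      simp only [Finset.mem_filter, Finset.mem_erase]
      exact ⟨fun h => ⟨h.2.2, h.1⟩, fun h => ⟨h.2, fun e => hsa u hu (e ▸ h.2), h.1⟩⟩
    have he2 : (sorb u).filter (fun z => z ≠ a ∧ z ≠ v) = sorb u :=
      Finset.filter_true_of_mem fun z hz => ⟨fun e => hsa u hu (e ▸ hz), fun e => hvu (e ▸ hz)⟩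
    rw [he1, Finset.card_erase_of_mem (hsself u)] at e1
    rw [he2] at e2
    have hpos := Finset.card_pos.mpr ⟨u, hsself u⟩
    have := Nat.even_iff.mp e1
    have := Nat.even_iff.mp e2
    omega
  obtain ⟨g, rfl⟩ := htrans x x'
  obtain ⟨k, hk1, hk2⟩ := hstab (g • x) (g • y) y' (fun e => hxy (smul_left_cancel g e).symm)
    (Ne.symm hxy')
  exact ⟨k * g, by rw [mul_smul, hk1], by rw [mul_smul, hk2]⟩

/-- all point stabilisers of the same order `k` ⇒ the group order divides `k` times the degree -/
theorem card_dvd_of_stabilizer_card {G X : Type*} [Group G] [Finite G] [Finite X] [MulAction G X]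
    (k : ℕ) (hk : ∀ x : X, Nat.card (MulAction.stabilizer G x) = k) :
    Nat.card G ∣ Nat.card X * k := by
  classical
  cases nonempty_fintype X
  have e1 : Nat.card ((x : X) × MulAction.stabilizer G x) = Nat.card X * k := by
    rw [Nat.card_sigma, Finset.sum_congr rfl (fun x _ => hk x), Finset.sum_const, smul_eq_mul,
      Finset.card_univ, Nat.card_eq_fintype_card]
  have e2 : ((x : X) × MulAction.stabilizer G x) ≃
      ((MulAction.orbitRel.Quotient G X) × G) :=
    (Equiv.trans
      { toFun := fun t => ⟨t.2.1, ⟨t.1, t.2.2⟩⟩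
        invFun := fun t => ⟨t.2.1, ⟨t.1, t.2.2⟩⟩
        left_inv := fun _ => rfl
        right_inv := fun _ => rfl }
      (MulAction.sigmaFixedByEquivOrbitsProdGroup G X))
  exact ⟨Nat.card (MulAction.orbitRel.Quotient G X), by
    rw [← e1, Nat.card_congr e2, Nat.card_prod, mul_comm]⟩

/-- the arithmetic of the homology lemma -/
theorem primePow_of_count {p q s h a b : ℕ} (hp : p.Prime) (hq : Odd q) (hs : s = p ^ a)
    (hh : h = p ^ b) (h2 : 2 ≤ h) (hdvd : s ∣ q * h) (hcount : q * (h - 1) < s) :
    ∃ e, q = p ^ e := by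
  subst hs hh
  obtain ⟨v, c, hc, rfl⟩ := Nat.exists_eq_pow_mul_and_not_dvd (n := q)
    (fun e => by simp [e] at hq) p hp.ne_one
  refine ⟨v, ?_⟩
  have hcop : (p ^ a).Coprime c :=
    Nat.Coprime.pow_left _ ((Nat.Prime.coprime_iff_not_dvd hp).mpr hc)
  have hle : p ^ a ≤ p ^ v * p ^ b := by
    refine Nat.le_of_dvd (Nat.mul_pos (pow_pos hp.pos _) (pow_pos hp.pos _)) ?_
    refine hcop.dvd_of_dvd_mul_right ?_
    rw [show p ^ v * p ^ b * c = p ^ v * c * p ^ b by ring]
    exact hdvd
  have hco : Odd c := (Nat.odd_mul.mp hq).2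
  rcases Nat.lt_or_ge c 3 with h3 | h3
  · have hc1 : c = 1 := by obtain ⟨t, rfl⟩ := hco; omega
    rw [hc1, mul_one]
  · exfalso
    have hlt := lt_of_lt_of_le hcount hle
    have h4 : p ^ v * 3 * (p ^ b - 1) ≤ p ^ v * c * (p ^ b - 1) :=
      Nat.mul_le_mul_right _ (Nat.mul_le_mul_left _ h3)
    have h5 : p ^ b ≤ 3 * (p ^ b - 1) := by omega
    have h6 := Nat.mul_le_mul_left (p ^ v) h5
    rw [← mul_assoc] at h6
    omega

end CfsgLib.OW
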