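import Cfsg.Agent.Lib.OstromWagner.Basic
import Cfsg.Agent.Lib.OstromWagner.HomologyCount

/-!
# Perspectivities, for the homology lemma of the Ostrom-Wagner theorem

Fixed elements, existence of the centre, André's orbit lemma, elations in two directions, duality.
-/

set_option autoImplicit false

namespace CfsgLib.OW.Hom

open Configuration

section Count

open MulAction

/-- André: non-identity elements fix at most one point and the fixed point free ones form, with the
identity, a semiregular family; then two points with non-trivial stabilisers are exchanged by a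
fixed point free element. -/
theorem exists_fpf_smul_eq {G X : Type*} [Group G] [Finite G] [MulAction G X] [Finite X]
    (huniq : ∀ g : G, g ≠ 1 → ∀ x y : X, g • x = x → g • y = y → x = y)
    (hclosed : ∀ g k : G, (∀ x : X, g • x ≠ x) → (∀ x : X, k • x ≠ x) →
      ∀ x : X, g • x = k • x → g = k)
    (a b : X) (hab : a ≠ b) (ha : stabilizer G a ≠ ⊥) (hb : stabilizer G b ≠ ⊥) :
    ∃ g : G, (∀ x : X, g • x ≠ x) ∧ g • a = b := by
  classical
  haveI := Fintype.ofFinite G
  haveI := Fintype.ofFinite X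
  let F : Finset G := Finset.univ.filter (fun g => ∀ x : X, g • x ≠ x)
  let w : X → ℕ := fun x => Nat.card (stabilizer G x) - 1
  have hw : ∀ x : X,
      w x = (((Finset.univ : Finset G).erase 1).filter (fun g => g • x = x)).card := by
    intro x
    have h3 : ((Finset.univ : Finset G).erase 1).filter (fun g => g • x = x) =
        (Finset.univ.filter (fun g => g ∈ stabilizer G x)).erase 1 := by
      ext g
      simp [mem_stabilizer_iff, and_comm]
    rw [h3, Finset.card_erase_of_mem (by simp)]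
    simp only [w]
    rw [Nat.card_eq_fintype_card, Fintype.card_subtype]
  have hsum : ∑ x : X, w x + F.card = Nat.card G - 1 := by
    have h1 : ∑ x : X, w x = (((Finset.univ : Finset G).erase 1).filter (fun g => ∃ x : X, g • x = x)).card := by
      simp only [hw]
      rw [← Finset.card_biUnion]
      · congr 1
        ext g
        simp
      · intro x _ y _ hxy
        rw [Function.onFun, Finset.disjoint_left]
        intro g hg hg'
        simp only [Finset.mem_filter, Finset.mem_erase] at hg hg'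
        exact hxy (huniq g hg.1.1 x y hg.2 hg'.2)
    have h2 : F = ((Finset.univ : Finset G).erase 1).filter (fun g => ¬ ∃ x : X, g • x = x) := by
      ext g
      simp only [F, Finset.mem_filter, Finset.mem_univ, true_and, Finset.mem_erase, not_exists, and_true]
      exact ⟨fun h => ⟨fun e => h a (e ▸ one_smul G a), h⟩, fun h => h.2⟩
    rw [h1, h2, Finset.card_filter_add_card_filter_not, Finset.card_erase_of_mem (Finset.mem_univ _),
      Finset.card_univ, Nat.card_eq_fintype_card]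
  have horb : ∀ x : X, 2 * ∑ y ∈ (orbit G x).toFinset, w y =
      2 * Nat.card G - 2 * Nat.card (orbit G x) := by
    intro x
    have hc : ∀ y ∈ (orbit G x).toFinset, w y = w x := by
      intro y hy
      obtain ⟨g, rfl⟩ := Set.mem_toFinset.mp hy
      simp only [w]
      rw [stabilizer_smul_eq_stabilizer_map_conj, Subgroup.card_map_of_injective (MulEquiv.injective _)]
    rw [Finset.sum_congr rfl hc, Finset.sum_const, Set.toFinset_card, ← Nat.card_eq_fintype_card,
      smul_eq_mul]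
    have hos : Nat.card (orbit G x) * Nat.card (stabilizer G x) = Nat.card G := by
      rw [← Nat.card_prod]
      exact Nat.card_congr (orbitProdStabilizerEquivGroup G x)
    simp only [w]
    rw [Nat.mul_sub, hos, mul_one, Nat.mul_sub]
  have hhalf : ∀ x : X, stabilizer G x ≠ ⊥ → 2 * Nat.card (orbit G x) ≤ Nat.card G := by
    intro x hx
    have hos : Nat.card (orbit G x) * Nat.card (stabilizer G x) = Nat.card G := by
      rw [← Nat.card_prod]
      exact Nat.card_congr (orbitProdStabilizerEquivGroup G x)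
    have h2 : 2 ≤ Nat.card (stabilizer G x) := by
      rcases Nat.lt_or_ge (Nat.card (stabilizer G x)) 2 with h | h
      · exact absurd (Subgroup.eq_bot_of_card_le _ (by omega)) hx
      · exact h
    rw [← hos]
    nlinarith
  have hGpos : 0 < Nat.card G := Nat.card_pos
  have hdisj : ∀ x y : X, y ∉ orbit G x → Disjoint (orbit G x).toFinset (orbit G y).toFinset := by
    intro x y h
    rw [Finset.disjoint_left]
    intro z hz hz'
    rw [Set.mem_toFinset] at hz hz'
    exact h ((orbit_eq_iff.mpr hz).symm.trans (orbit_eq_iff.mpr hz') ▸ mem_orbit_self y)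
  have hone : ∀ x y : X, stabilizer G x ≠ ⊥ → stabilizer G y ≠ ⊥ → y ∈ orbit G x := by
    intro x y hx hy
    by_contra hxy
    have := Finset.sum_le_sum_of_subset (f := w)
      (Finset.subset_univ ((orbit G x).toFinset ∪ (orbit G y).toFinset))
    rw [Finset.sum_union (hdisj x y hxy)] at this
    have := horb x; have := horb y; have := hhalf x hx; have := hhalf y hy
    omega
  -- exactly one orbit with non-trivial stabilisers
  have hall : ∑ y ∈ (orbit G a).toFinset, w y = ∑ y : X, w y := by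
    refine Finset.sum_subset (Finset.subset_univ _) fun x _ hx => ?_
    by_contra hne
    refine hx (Set.mem_toFinset.mpr (hone a x ha fun e => hne ?_))
    show Nat.card (stabilizer G x) - 1 = 0
    rw [e, Subgroup.card_bot]
  -- the fixed point free elements reach every other point of the orbit
  have himg : F.image (fun g => g • a) = (orbit G a).toFinset.erase a := by
    refine Finset.eq_of_subset_of_card_le ?_ ?_
    · intro z hz
      obtain ⟨g, hg, rfl⟩ := Finset.mem_image.1 hz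
      exact Finset.mem_erase.2 ⟨(Finset.mem_filter.1 hg).2 a, Set.mem_toFinset.mpr ⟨g, rfl⟩⟩
    · rw [Finset.card_image_of_injOn, Finset.card_erase_of_mem
        (Set.mem_toFinset.mpr (mem_orbit_self a)), Set.toFinset_card, ← Nat.card_eq_fintype_card]
      · have := horb a; have := hhalf a ha
        omega
      · intro g hg k hk he
        exact hclosed g k (Finset.mem_filter.1 hg).2 (Finset.mem_filter.1 hk).2 a he
  have hb' : b ∈ F.image (fun g => g • a) := by
    rw [himg]
    exact Finset.mem_erase.2 ⟨hab.symm, Set.mem_toFinset.mpr (hone a b ha hb)⟩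
  obtain ⟨g, hg, hgb⟩ := Finset.mem_image.1 hb'
  exact ⟨g, (Finset.mem_filter.1 hg).2, hgb⟩

end Count

variable {P L : Type*} [Membership P L]

/-- the same collineation of the dual plane -/
def dual : Coll P L →* Coll (Dual L) (Dual P) where
  toFun σ := ⟨(σ.1.2, σ.1.1), fun l p => σ.2 p l⟩
  map_one' := rfl
  map_mul' _ _ := rfl

theorem dual_injective : Function.Injective (dual (P := P) (L := L)) := by
  intro σ τ h
  have h' := congrArg (fun x : Coll (Dual L) (Dual P) => x.1) h
  exact Subtype.ext (Prod.ext (congrArg Prod.snd h') (congrArg Prod.fst h'))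

theorem dual_isPersp {σ : Coll P L} {C : P} {a : L} :
    IsPersp (P := Dual L) (L := Dual P) (dual σ) a C ↔ IsPersp σ C a := by
  constructor
  · rintro ⟨h1, h2, h3⟩
    exact ⟨fun e => h1 (by rw [e, map_one]), h3, h2⟩
  · rintro ⟨h1, h2, h3⟩
    exact ⟨fun e => h1 (dual_injective (e.trans (map_one _).symm)), h3, h2⟩

theorem dual_isElation {σ : Coll P L} : IsElation (dual σ) ↔ IsElation σ := by
  constructor
  · rintro ⟨a, C, hmem, h⟩
    exact ⟨C, a, hmem, dual_isPersp.1 h⟩
  · rintro ⟨C, a, hmem, h⟩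
    exact ⟨a, C, hmem, dual_isPersp.2 h⟩

theorem dual_isHomology {σ : Coll P L} : IsHomology (dual σ) ↔ IsHomology σ := by
  constructor
  · rintro ⟨a, C, hmem, h⟩
    exact ⟨C, a, hmem, dual_isPersp.1 h⟩
  · rintro ⟨C, a, hmem, h⟩
    exact ⟨a, C, hmem, dual_isPersp.2 h⟩

/-- `h` is a homology of `H` with centre `C` and axis `a` -/
def Ho (H : Subgroup (Coll P L)) (h : Coll P L) (C : P) (a : L) : Prop :=
  h ∈ H ∧ IsPersp h C a ∧ C ∉ a

/-- `t` is an elation of `H` with centre `U` and axis `a` -/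
def El (H : Subgroup (Coll P L)) (t : Coll P L) (U : P) (a : L) : Prop :=
  t ∈ H ∧ IsPersp t U a ∧ U ∈ a

/-- `H` has a homology with centre `C` and axis `a` -/
def HomAt (H : Subgroup (Coll P L)) (C : P) (a : L) : Prop := ∃ h, Ho H h C a

/-- `H` has an elation with centre `U` and axis `a` -/
def ElAt (H : Subgroup (Coll P L)) (U : P) (a : L) : Prop := ∃ t, El H t U a

theorem Ho.conj {H : Subgroup (Coll P L)} {h : Coll P L} {C : P} {a : L} (hh : Ho H h C a)
    {g : Coll P L} (hg : g ∈ H) : Ho H (g * h * g⁻¹) (g • C) (g • a) :=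
  ⟨H.mul_mem (H.mul_mem hg hh.1) (H.inv_mem hg), hh.2.1.conj g,
    fun e => hh.2.2 ((smul_mem_smul g).1 e)⟩

theorem El.conj {H : Subgroup (Coll P L)} {h : Coll P L} {C : P} {a : L} (hh : El H h C a)
    {g : Coll P L} (hg : g ∈ H) : El H (g * h * g⁻¹) (g • C) (g • a) :=
  ⟨H.mul_mem (H.mul_mem hg hh.1) (H.inv_mem hg), hh.2.1.conj g, (smul_mem_smul g).2 hh.2.2⟩

theorem HomAt.conj {H : Subgroup (Coll P L)} {C : P} {a : L} (hh : HomAt H C a)
    {g : Coll P L} (hg : g ∈ H) : HomAt H (g • C) (g • a) :=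
  hh.elim fun _ h => ⟨_, h.conj hg⟩

theorem ElAt.conj {H : Subgroup (Coll P L)} {C : P} {a : L} (hh : ElAt H C a)
    {g : Coll P L} (hg : g ∈ H) : ElAt H (g • C) (g • a) :=
  hh.elim fun _ h => ⟨_, h.conj hg⟩

theorem dual_Ho {H : Subgroup (Coll P L)} {h : Coll P L} {C : P} {a : L} :
    Ho (P := Dual L) (L := Dual P) (H.map dual) (dual h) a C ↔ Ho H h C a := by
  constructor
  · rintro ⟨hm, hp, hn⟩
    obtain ⟨h', hh', e⟩ := Subgroup.mem_map.1 hm
    exact ⟨dual_injective e ▸ hh', dual_isPersp.1 hp, hn⟩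
  · rintro ⟨hm, hp, hn⟩
    exact ⟨Subgroup.mem_map_of_mem _ hm, dual_isPersp.2 hp, hn⟩

theorem dual_El {H : Subgroup (Coll P L)} {h : Coll P L} {C : P} {a : L} :
    El (P := Dual L) (L := Dual P) (H.map dual) (dual h) a C ↔ El H h C a := by
  constructor
  · rintro ⟨hm, hp, hn⟩
    obtain ⟨h', hh', e⟩ := Subgroup.mem_map.1 hm
    exact ⟨dual_injective e ▸ hh', dual_isPersp.1 hp, hn⟩
  · rintro ⟨hm, hp, hn⟩
    exact ⟨Subgroup.mem_map_of_mem _ hm, dual_isPersp.2 hp, hn⟩

theorem dual_HomAt {H : Subgroup (Coll P L)} {C : P} {a : L} :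
    HomAt (P := Dual L) (L := Dual P) (H.map dual) a C ↔ HomAt H C a := by
  constructor
  · rintro ⟨k, hk⟩
    obtain ⟨h, -, rfl⟩ := Subgroup.mem_map.1 hk.1
    exact ⟨h, dual_Ho.1 hk⟩
  · rintro ⟨h, hh⟩
    exact ⟨dual h, dual_Ho.2 hh⟩

theorem dual_ElAt {H : Subgroup (Coll P L)} {C : P} {a : L} :
    ElAt (P := Dual L) (L := Dual P) (H.map dual) a C ↔ ElAt H C a := by
  constructor
  · rintro ⟨k, hk⟩
    obtain ⟨h, -, rfl⟩ := Subgroup.mem_map.1 hk.1
    exact ⟨h, dual_El.1 hk⟩
  · rintro ⟨h, hh⟩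
    exact ⟨dual h, dual_El.2 hh⟩

variable [ProjectivePlane P L] [Finite P] [Finite L]

/-- a line has a point outside any set of at most `n` points -/
theorem exists_point_avoid (l : L) (s : Finset P) (hs : s.card ≤ ProjectivePlane.order P L) :
    ∃ X, X ∈ l ∧ X ∉ s := by
  classical
  cases nonempty_fintype P
  by_contra h
  simp only [not_exists, not_and, Decidable.not_not] at h
  have h1 : Nat.card {p : P // p ∈ l} ≤ s.card := by
    rw [Nat.card_eq_fintype_card, Fintype.card_subtype]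
    exact Finset.card_le_card fun x hx => h x (Finset.mem_filter.1 hx).2
  rw [card_line] at h1
  omega

theorem exists_line_avoid (X : P) (s : Finset L) (hs : s.card ≤ ProjectivePlane.order P L) :
    ∃ l, X ∈ l ∧ l ∉ s :=
  exists_point_avoid (P := Dual L) (L := Dual P) X s (by rw [ProjectivePlane.Dual.order]; exact hs)

theorem two_le_order : 2 ≤ ProjectivePlane.order P L := ProjectivePlane.one_lt_order P L

/-- a second point on a line -/
theorem exists_ne_mem (l : L) (X : P) : ∃ Y, Y ∈ l ∧ Y ≠ X := by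
  obtain ⟨Y, h1, h2⟩ := exists_point_avoid l {X} (by
    rw [Finset.card_singleton]; exact le_trans one_le_two two_le_order)
  exact ⟨Y, h1, fun e => h2 (by simp [e])⟩

theorem exists_ne_ne_mem (l : L) (X Y : P) : ∃ Z, Z ∈ l ∧ Z ≠ X ∧ Z ≠ Y := by
  classical
  obtain ⟨Z, h1, h2⟩ := exists_point_avoid l {X, Y} (Finset.card_le_two.trans two_le_order)
  exact ⟨Z, h1, fun e => h2 (by simp [e]), fun e => h2 (by simp [e])⟩

theorem smul_axis {σ : Coll P L} {a : L} (h : IsAxis σ a) : σ • a = a := by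
  obtain ⟨X, hX⟩ : ∃ X, X ∈ a := by
    obtain ⟨X, hX, -⟩ := exists_point_avoid (P := P) a ∅ (by simp)
    exact ⟨X, hX⟩
  obtain ⟨Y, hY, hne⟩ := exists_ne_mem a X
  exact smul_join_eq hne.symm (h X hX) (h Y hY) hX hY

theorem smul_centre {σ : Coll P L} {C : P} (h : IsCentre σ C) : σ • C = C :=
  smul_axis (P := Dual L) (L := Dual P) (σ := dual σ) (a := C) h

/-- a fixed point off the axis is a centre -/
theorem centre_of_fixed {σ : Coll P L} {a : L} {X : P} (ha : IsAxis σ a) (hX : X ∉ a)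
    (hfix : σ • X = X) : IsCentre σ X := by
  intro l hl
  obtain ⟨M, hM, -⟩ := existsUnique_meet (P := P) (l := l) (m := a) fun e => hX (e ▸ hl)
  exact smul_join_eq (p := X) (q := M) (fun e => hX (e ▸ hM.2)) hfix (ha M hM.2) hl hM.1

/-- two centres force the identity -/
theorem eq_one_of_two_centres {σ : Coll P L} {C D : P} (hCD : C ≠ D) (hC : IsCentre σ C)
    (hD : IsCentre σ D) : σ = 1 := by
  obtain ⟨k, hk, -⟩ := existsUnique_join (L := L) hCD
  have hoff : ∀ X : P, X ∉ k → σ • X = X := by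
    intro X hX
    obtain ⟨l, hl, -⟩ := existsUnique_join (L := L) (p := C) (q := X) fun e => hX (e ▸ hk.1)
    obtain ⟨m, hm, -⟩ := existsUnique_join (L := L) (p := D) (q := X) fun e => hX (e ▸ hk.2)
    refine smul_meet_eq (l := l) (m := m) ?_ (hC l hl.1) (hD m hm.1) hl.2 hm.2
    intro e; subst e
    exact hX (line_eq hCD hl.1 hm.1 hk.1 hk.2 ▸ hl.2)
  refine eq_one_of_forall_point fun Z => ?_
  by_cases hZ : Z ∈ k
  · obtain ⟨X, hX⟩ := Nondegenerate.exists_point (P := P) k
    have hZX : Z ≠ X := fun e => hX (e ▸ hZ)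
    obtain ⟨n, hn, -⟩ := existsUnique_join (L := L) hZX
    obtain ⟨Y, hY, hYZ, hYX⟩ := exists_ne_ne_mem n Z X
    have hnk : n ≠ k := fun e => hX (e ▸ hn.2)
    have hYk : Y ∉ k := fun e => hnk (line_eq hYZ hY hn.1 e hZ)
    exact smul_meet_eq hnk (smul_join_eq hYX (hoff Y hYk) (hoff X hX) hY hn.2) (hC k hk.1) hn.1 hZ
  · exact hoff Z hZ

theorem eq_one_of_two_axes {σ : Coll P L} {a b : L} (hab : a ≠ b) (ha : IsAxis σ a)
    (hb : IsAxis σ b) : σ = 1 :=
  dual_injective ((eq_one_of_two_centres (P := Dual L) (L := Dual P) (σ := dual σ) hab ha hb).trans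
    (map_one _).symm)

/-- a non-identity collineation with an axis has a centre -/
theorem exists_centre {σ : Coll P L} {a : L} (hσ : σ ≠ 1) (ha : IsAxis σ a) :
    ∃ C, IsPersp σ C a := by
  by_cases hex : ∃ X, X ∉ a ∧ σ • X = X
  · obtain ⟨X, hX, hfix⟩ := hex
    exact ⟨X, hσ, centre_of_fixed ha hX hfix, ha⟩
  simp only [not_exists, not_and] at hex
  have key : ∀ X : P, X ∉ a → ∃ l : L, X ∈ l ∧ σ • l = l := by
    intro X hX
    obtain ⟨l, hl, -⟩ := existsUnique_join (L := L) (p := X) (q := σ • X) (fun e => hex X hX e.symm)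
    obtain ⟨F, hF, -⟩ := existsUnique_meet (P := P) (l := l) (m := a) fun e => hX (e ▸ hl.1)
    have hσX : σ • X ∉ a := fun e => hex X hX (smul_left_cancel σ (ha _ e))
    refine ⟨l, hl.1, line_eq (p := σ • X) (q := F) (fun e => hσX (e ▸ hF.2))
      ((smul_mem_smul σ).2 hl.1) ?_ hl.2 hF.1⟩
    rw [← ha F hF.2]
    exact (smul_mem_smul σ).2 hF.1
  obtain ⟨X0, hX0⟩ := Nondegenerate.exists_point (P := P) a
  obtain ⟨l0, hl0, hl0f⟩ := key X0 hX0
  obtain ⟨U, hU, -⟩ := existsUnique_meet (P := P) (l := l0) (m := a) fun e => hX0 (e ▸ hl0)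
  refine ⟨U, hσ, fun l hl => ?_, ha⟩
  by_cases hla : l = a
  · rw [hla]; exact smul_axis ha
  obtain ⟨X, hX, hXU⟩ := exists_ne_mem l U
  have hXa : X ∉ a := fun e => hXU (point_eq hla hX e hl hU.2)
  obtain ⟨m, hm, hmf⟩ := key X hXa
  by_cases hml : m = l0
  · subst hml
    rw [line_eq hXU hX hl hm hU.1]
    exact hmf
  · obtain ⟨Z, hZ, -⟩ := existsUnique_meet (P := P) (l := m) (m := l0) hml
    have hZa : Z ∈ a := Classical.byContradiction fun h => hex Z h (smul_meet_eq hml hmf hl0f hZ.1 hZ.2)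
    have hZU : Z = U := point_eq (fun e => hX0 (by rw [← e]; exact hl0)) hZ.2 hZa hU.1 hU.2
    rw [line_eq hXU hX hl hm (hZU ▸ hZ.1)]
    exact hmf

theorem exists_axis {σ : Coll P L} {C : P} (hσ : σ ≠ 1) (hC : IsCentre σ C) :
    ∃ a, IsPersp σ C a := by
  obtain ⟨a, h⟩ := exists_centre (P := Dual L) (L := Dual P) (σ := dual σ) (a := C)
    (fun e => hσ (dual_injective (e.trans (map_one _).symm))) hC
  exact ⟨a, dual_isPersp.1 h⟩

theorem fixed_point {σ : Coll P L} {C X : P} {a : L} (h : IsPersp σ C a) (hX : σ • X = X) :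
    X = C ∨ X ∈ a := by
  by_cases hXa : X ∈ a
  · exact Or.inr hXa
  · exact Or.inl (Classical.byContradiction fun hne =>
      h.1 (eq_one_of_two_centres hne (centre_of_fixed h.2.2 hXa hX) h.2.1))

theorem fixed_line {σ : Coll P L} {C : P} {a l : L} (h : IsPersp σ C a) (hl : σ • l = l) :
    l = a ∨ C ∈ l :=
  fixed_point (P := Dual L) (L := Dual P) (dual_isPersp.2 h) hl

theorem persp_unique {σ : Coll P L} {C D : P} {a b : L} (h : IsPersp σ C a) (h' : IsPersp σ D b) :
    C = D ∧ a = b :=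
  ⟨Classical.byContradiction fun hne => h.1 (eq_one_of_two_centres hne h.2.1 h'.2.1),
    Classical.byContradiction fun hne => h.1 (eq_one_of_two_axes hne h.2.2 h'.2.2)⟩

theorem elation_fpf {σ : Coll P L} {U X : P} {a : L} (h : IsPersp σ U a) (hU : U ∈ a) (hX : X ∉ a) :
    σ • X ≠ X := fun e => (fixed_point h e).elim (fun h' => hX (h' ▸ hU)) hX

variable {H : Subgroup (Coll P L)}

/-- product of two elations with different centres on one axis -/
theorem El.mul_ne {s t : Coll P L} {U V : P} {a : L} (hs : El H s U a) (ht : El H t V a)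
    (hne : U ≠ V) : ∃ W, El H (s * t) W a ∧ W ≠ U ∧ W ≠ V := by
  have hst : s * t ≠ 1 := by
    intro e
    refine hne (persp_unique (σ := t) (a := a) ⟨ht.2.1.1, ?_, ht.2.1.2.2⟩ ht.2.1).1
    rw [eq_inv_of_mul_eq_one_right e]
    exact hs.2.1.2.1.inv
  obtain ⟨W, hW⟩ := exists_centre hst (hs.2.1.2.2.mul ht.2.1.2.2)
  have hWa : W ∈ a := by
    by_contra hWa
    have hfix : s • t • W = W := by rw [← mul_smul]; exact smul_centre hW.2.1
    have hY : t • W ≠ W := elation_fpf ht.2.1 ht.2.2 hWa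
    obtain ⟨m, hm, -⟩ := existsUnique_join (L := L) hY.symm
    -- the lines through the two centres both equal `m`
    obtain ⟨lV, hlV, -⟩ := existsUnique_join (L := L) (p := W) (q := V) fun e => hWa (e ▸ ht.2.2)
    obtain ⟨lU, hlU, -⟩ := existsUnique_join (L := L) (p := W) (q := U) fun e => hWa (e ▸ hs.2.2)
    have h1 : t • W ∈ lV := by rw [← ht.2.1.2.1 lV hlV.2]; exact (smul_mem_smul t).2 hlV.1
    have h2 : t • W ∈ lU := by
      have := (smul_mem_iff s (p := t • W) (l := lU)).1 (by rw [hfix]; exact hlU.1)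
      rwa [inv_smul_eq_iff.mpr (hs.2.1.2.1 lU hlU.2).symm] at this
    have e1 := line_eq hY.symm hlV.1 h1 hm.1 hm.2
    have e2 := line_eq hY.symm hlU.1 h2 hm.1 hm.2
    exact hne (point_eq (l := m) (m := a) (fun e => hWa (by rw [← e]; exact hm.1))
      (by rw [← e2]; exact hlU.2) hs.2.2 (by rw [← e1]; exact hlV.2) ht.2.2)
  refine ⟨W, ⟨H.mul_mem hs.1 ht.1, hW, hWa⟩, ?_, ?_⟩
  · rintro rfl
    refine hne (persp_unique (σ := t) (a := a) ⟨ht.2.1.1, ?_, ht.2.1.2.2⟩ ht.2.1).1
    rw [← inv_mul_cancel_left s t]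
    exact hs.2.1.2.1.inv.mul hW.2.1
  · rintro rfl
    refine hne (persp_unique (σ := s) (a := a) hs.2.1 ⟨hs.2.1.1, ?_, hs.2.1.2.2⟩).1
    rw [← mul_inv_cancel_right s t]
    exact hW.2.1.mul ht.2.1.2.1.inv

theorem El.commute_ne {s t : Coll P L} {U V : P} {a : L} (hs : El H s U a) (ht : El H t V a)
    (hne : U ≠ V) : Commute s t := by
  have hsV : s • V = V := hs.2.1.2.2 V ht.2.2
  have htU : t • U = U := ht.2.1.2.2 U hs.2.2
  have h1 : IsCentre (s * t * s⁻¹ * t⁻¹) V := by
    have := ht.2.1.2.1.conj s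
    rw [hsV] at this
    exact this.mul ht.2.1.2.1.inv
  have h2 : IsCentre (s * t * s⁻¹ * t⁻¹) U := by
    have := hs.2.1.2.1.inv.conj t
    rw [htU] at this
    rw [show s * t * s⁻¹ * t⁻¹ = s * (t * s⁻¹ * t⁻¹) by group]
    exact hs.2.1.2.1.mul this
  exact commutatorElement_eq_one_iff_commute.1
    (by rw [commutatorElement_def]; exact eq_one_of_two_centres hne h2 h1)

theorem IsCentre.pow {σ : Coll P L} {C : P} (h : IsCentre σ C) (n : ℕ) : IsCentre (σ ^ n) C := by
  induction n with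
  | zero => rw [pow_zero]; exact IsCentre.one C
  | succ n ih => rw [pow_succ]; exact ih.mul h

theorem IsAxis.pow {σ : Coll P L} {a : L} (h : IsAxis σ a) (n : ℕ) : IsAxis (σ ^ n) a := by
  induction n with
  | zero => rw [pow_zero]; exact IsAxis.one a
  | succ n ih => rw [pow_succ]; exact ih.mul h

/-- all elations with axis `a` commute and have the same prime order, given two directions -/
theorem two_directions {a : L} {U V : P} (hUV : U ≠ V) (hU : ElAt H U a) (hV : ElAt H V a) :
    ∃ p : ℕ, p.Prime ∧ (∀ {t : Coll P L} {W : P}, El H t W a → t ^ p = 1) ∧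
      ∀ {u u' : Coll P L} {W W' : P}, El H u W a → El H u' W' a → Commute u u' := by
  obtain ⟨s0, hs0⟩ := hU
  obtain ⟨t0, ht0⟩ := hV
  set p := (orderOf s0).minFac with hp
  have hp' : p.Prime := Nat.minFac_prime (by rw [Ne, orderOf_eq_one_iff]; exact hs0.2.1.1)
  set s := s0 ^ (orderOf s0 / p) with hsdef
  have hso : orderOf s = p := orderOf_pow_orderOf_div (orderOf_pos s0).ne' (Nat.minFac_dvd _)
  have hs : El H s U a :=
    ⟨H.pow_mem hs0.1 _, ⟨fun e => hp'.ne_one (by rw [← hso, e, orderOf_one]),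
      IsCentre.pow hs0.2.1.2.1 _, IsAxis.pow hs0.2.1.2.2 _⟩, hs0.2.2⟩
  have hsp : s ^ p = 1 := hso ▸ pow_orderOf_eq_one s
  have step : ∀ {x t : Coll P L} {X W : P}, El H x X a → x ^ p = 1 → El H t W a → W ≠ X → t ^ p = 1 := by
    intro x t X W hx hxp ht hne
    obtain ⟨Y, hY, -, hYW⟩ := hx.mul_ne ht hne.symm
    refine eq_one_of_two_centres hYW ?_ (IsCentre.pow ht.2.1.2.1 p)
    have := IsCentre.pow hY.2.1.2.1 p
    rwa [(hx.commute_ne ht hne.symm).mul_pow, hxp, one_mul] at this
  have hexp : ∀ {t : Coll P L} {W : P}, El H t W a → t ^ p = 1 := by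
    intro t W ht
    by_cases hW : W = U
    · exact step ht0 (step hs hsp ht0 hUV.symm) ht (by rw [hW]; exact hUV)
    · exact step hs hsp ht hW
  refine ⟨p, hp', hexp, ?_⟩
  intro u u' W W' hu hu'
  by_cases hne : W = W'
  · subst hne
    obtain ⟨x, X, hx, hX⟩ : ∃ x X, El H x X a ∧ X ≠ W := by
      by_cases hW : W = U
      · exact ⟨t0, V, ht0, hW ▸ hUV.symm⟩
      · exact ⟨s0, U, hs0, Ne.symm hW⟩
    obtain ⟨Y, hY, hYW, -⟩ := hu'.mul_ne hx hX.symm
    have h1 : Commute u (u' * x) := hu.commute_ne hY hYW.symm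
    have h2 : Commute u x := hu.commute_ne hx hX.symm
    simpa [mul_assoc] using h1.mul_right h2.inv_right
  · exact hu.commute_ne hu' hne

theorem two_directions_dual {U : P} {a b : L} (hab : a ≠ b) (ha : ElAt H U a) (hb : ElAt H U b) :
    ∃ p : ℕ, p.Prime ∧ (∀ {t : Coll P L} {c : L}, El H t U c → t ^ p = 1) ∧
      ∀ {u u' : Coll P L} {c c' : L}, El H u U c → El H u' U c' → Commute u u' := by
  obtain ⟨p, hp, h1, h2⟩ := two_directions (P := Dual L) (L := Dual P) (H := H.map dual) (a := U)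
    (U := a) (V := b) hab (dual_ElAt.2 ha) (dual_ElAt.2 hb)
  refine ⟨p, hp, fun {t c} ht => dual_injective ?_, fun {u u' c c'} hu hu' => dual_injective ?_⟩
  · rw [map_pow, map_one]; exact h1 (dual_El.2 ht)
  · rw [map_mul, map_mul]; exact h2 (dual_El.2 hu) (dual_El.2 hu')

/-- the collineations of `H` with axis `a` -/
def axisGroup (H : Subgroup (Coll P L)) (a : L) : Subgroup (Coll P L) where
  carrier := {σ | σ ∈ H ∧ IsAxis σ a}
  one_mem' := ⟨H.one_mem, IsAxis.one a⟩
  mul_mem' := fun hx hy => ⟨H.mul_mem hx.1 hy.1, hx.2.mul hy.2⟩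
  inv_mem' := fun hx => ⟨H.inv_mem hx.1, hx.2.inv⟩

instance (H : Subgroup (Coll P L)) (a : L) : MulAction ↥(axisGroup H a) {X : P // X ∉ a} where
  smul g X := ⟨g.1 • X.1, fun e => X.2 (by
    have h := g.2.2 _ e
    rw [smul_left_cancel_iff] at h
    rwa [h] at e)⟩
  one_smul X := Subtype.ext (one_smul (Coll P L) X.1)
  mul_smul g h X := Subtype.ext (mul_smul g.1 h.1 X.1)

/-- André's lemma: two centres on one axis are moved onto each other by an elation -/
theorem orbit_centres {a : L} {C D : P} (hCD : C ≠ D) (hC : HomAt H C a) (hD : HomAt H D a) :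
    ∃ t U, El H t U a ∧ t • C = D := by
  obtain ⟨h, hh⟩ := hC
  obtain ⟨k, hk⟩ := hD
  have hst : ∀ {x : Coll P L} {X : P} (hx : Ho H x X a),
      MulAction.stabilizer ↥(axisGroup H a) (⟨X, hx.2.2⟩ : {X : P // X ∉ a}) ≠ ⊥ := by
    intro x X hx hbot
    have : (⟨x, hx.1, hx.2.1.2.2⟩ : ↥(axisGroup H a)) ∈
        MulAction.stabilizer ↥(axisGroup H a) (⟨X, hx.2.2⟩ : {X : P // X ∉ a}) :=
      Subtype.ext (smul_centre hx.2.1.2.1)
    rw [hbot, Subgroup.mem_bot, Subtype.ext_iff] at this
    exact hx.2.1.1 this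
  have hel : ∀ g : ↥(axisGroup H a), (∀ X : {X : P // X ∉ a}, g • X ≠ X) → ∃ U, El H g.1 U a := by
    intro g hg
    obtain ⟨Z, hZ⟩ := Nondegenerate.exists_point (P := P) a
    have hne : (g : Coll P L) ≠ 1 := fun e =>
      hg ⟨Z, hZ⟩ (Subtype.ext (show g.1 • Z = Z by rw [e, one_smul]))
    obtain ⟨U, hU⟩ := exists_centre hne g.2.2
    exact ⟨U, g.2.1, hU, Classical.byContradiction fun e =>
      hg ⟨U, e⟩ (Subtype.ext (smul_centre hU.2.1))⟩
  obtain ⟨g, hg, hgC⟩ := exists_fpf_smul_eq (G := ↥(axisGroup H a))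
    (fun g hg X Y hX hY => by
      obtain ⟨U, hU⟩ := exists_centre (σ := g.1) (fun e => hg (Subtype.ext e)) g.2.2
      exact Subtype.ext
        (((fixed_point hU (Subtype.ext_iff.1 hX)).resolve_right X.2).trans
          ((fixed_point hU (Subtype.ext_iff.1 hY)).resolve_right Y.2).symm))
    (fun g k hg hk X hgk => by
      obtain ⟨U, hU⟩ := hel g hg
      obtain ⟨V, hV⟩ := hel k hk
      have hX : (k.1⁻¹ * g.1) • X.1 = X.1 := by
        rw [mul_smul, inv_smul_eq_iff]; exact Subtype.ext_iff.1 hgk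
      have hk' : El H k.1⁻¹ V a := ⟨H.inv_mem hV.1,
        ⟨fun e => hV.2.1.1 (inv_eq_one.mp e), hV.2.1.2.1.inv, hV.2.1.2.2.inv⟩, hV.2.2⟩
      by_cases hUV : V = U
      · subst hUV
        refine Subtype.ext (Classical.byContradiction fun hne => ?_)
        exact elation_fpf (σ := k.1⁻¹ * g.1)
          ⟨fun e => hne (inv_mul_eq_one.mp e).symm, hk'.2.1.2.1.mul hU.2.1.2.1,
            hk'.2.1.2.2.mul hU.2.1.2.2⟩ hU.2.2 X.2 hX
      · obtain ⟨W, hW, -, -⟩ := hk'.mul_ne hU hUV
        exact absurd hX (elation_fpf hW.2.1 hW.2.2 X.2))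
    ⟨C, hh.2.2⟩ ⟨D, hk.2.2⟩ (fun e => hCD (Subtype.ext_iff.1 e)) (hst hh) (hst hk)
  obtain ⟨U, hU⟩ := hel g hg
  exact ⟨g.1, U, hU, Subtype.ext_iff.1 hgC⟩

theorem orbit_axes {C : P} {a b : L} (hab : a ≠ b) (ha : HomAt H C a) (hb : HomAt H C b) :
    ∃ t c, El H t C c ∧ t • a = b := by
  obtain ⟨k, c, hk, he⟩ := orbit_centres (P := Dual L) (L := Dual P) (H := H.map dual) (a := C)
    (C := a) (D := b) hab (dual_HomAt.2 ha) (dual_HomAt.2 hb)
  obtain ⟨t, -, rfl⟩ := Subgroup.mem_map.1 hk.1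
  exact ⟨t, c, dual_El.1 hk, he⟩

end CfsgLib.OW.Hom
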