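import Cfsg.Agent.Lib.OstromWagner.Sub
import Mathlib.GroupTheory.Nilpotent

/-!
# Maximal 2-groups fixing a quadrangle in a doubly transitive group without involutory perspectivity
-/

set_option autoImplicit false
set_option linter.unusedSectionVars false

namespace CfsgLib.OW

open Configuration

universe u v

section General

variable {P : Type u} {L : Type v} [Membership P L] [ProjectivePlane P L] [Finite P] [Finite L]

theorem Quad.not_persp {A B C D : P} (hq : Quad L A B C D) {σ : Coll P L} {Z : P} {a : L}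
    (h : IsPersp σ Z a) (hA : σ • A = A) (hB : σ • B = B) (hC : σ • C = C) (hD : σ • D = D) : False := by
  have a' := h.point_of_smul_eq hA
  have b' := h.point_of_smul_eq hB
  have c' := h.point_of_smul_eq hC
  have d' := h.point_of_smul_eq hD
  have n12 := hq.ne₁₂
  have n13 := hq.ne₁₃
  have n23 := hq.ne₂₃
  have n34 := hq.ne₃₄
  rcases a' with ha | ha
  · rcases b' with hb | hb
    · rcases c' with hc | hc
      · exact (hq a).1 ⟨ha, hb, hc⟩
      · exact (hq a).2.1 ⟨ha, hb, d'.resolve_right fun e => n34 (hc.trans e.symm)⟩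
    · have hd := d'.resolve_right fun e : D = Z => by
        obtain ⟨l, hl⟩ := exists_join (L := L) A B
        exact (hq l).2.1 ⟨hl.1, hl.2, by rw [e, ← hb]; exact hl.2⟩
      exact (hq a).2.2.1 ⟨ha, c'.resolve_right fun e => n23 (hb.trans e.symm), hd⟩
  · have hd := d'.resolve_right fun e : D = Z => by
      obtain ⟨l, hl⟩ := exists_join (L := L) A B
      exact (hq l).2.1 ⟨hl.1, hl.2, by rw [e, ← ha]; exact hl.1⟩
    exact (hq a).2.2.2 ⟨b'.resolve_right fun e => n12 (ha.trans e.symm),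
      c'.resolve_right fun e => n13 (ha.trans e.symm), hd⟩

/-- the dual of a quadrangle of fixed points -/
theorem HasQuad.dual {X : Subgroup (Coll P L)} (h : HasQuad X) :
    HasQuad (P := Dual L) (L := Dual P) (X.map (collDual (P := P) (L := L)).toMonoidHom) := by
  obtain ⟨A, B, C, D, hfix, hq⟩ := h
  have nDA : D ≠ A := fun e => by
    obtain ⟨l, hl⟩ := exists_join (L := L) A B
    exact (hq l).2.1 ⟨hl.1, hl.2, e ▸ hl.1⟩
  obtain ⟨a, ha, -⟩ := existsUnique_join (L := L) hq.ne₁₂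
  obtain ⟨b, hb, -⟩ := existsUnique_join (L := L) hq.ne₂₃
  obtain ⟨c, hc, -⟩ := existsUnique_join (L := L) hq.ne₃₄
  obtain ⟨d, hd, -⟩ := existsUnique_join (L := L) nDA
  have hab : a ≠ b := fun e => (hq a).1 ⟨ha.1, ha.2, by rw [e]; exact hb.2⟩
  have hbc : b ≠ c := fun e => (hq b).2.2.2 ⟨hb.1, hb.2, by rw [e]; exact hc.2⟩
  have hda : d ≠ a := fun e => (hq a).2.1 ⟨ha.1, ha.2, by rw [← e]; exact hd.1⟩
  have hline : ∀ Z : P, ¬(Z ∈ a ∧ Z ∈ b ∧ Z ∈ c) ∧ ¬(Z ∈ a ∧ Z ∈ b ∧ Z ∈ d) ∧ ¬(Z ∈ a ∧ Z ∈ c ∧ Z ∈ d) ∧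
      ¬(Z ∈ b ∧ Z ∈ c ∧ Z ∈ d) := fun Z => by
    refine ⟨?_, ?_, ?_, ?_⟩
    · rintro ⟨h1, h2, h3⟩
      have hZ : Z = B := point_eq hab h1 h2 ha.2 hb.1
      exact (hq c).2.2.2 ⟨by rw [← hZ]; exact h3, hc.1, hc.2⟩
    · rintro ⟨h1, h2, h3⟩
      have hZ : Z = B := point_eq hab h1 h2 ha.2 hb.1
      exact (hq d).2.1 ⟨hd.2, by rw [← hZ]; exact h3, hd.1⟩
    · rintro ⟨h1, h2, h3⟩
      have hZ : Z = A := point_eq hda h3 h1 hd.2 ha.1
      exact (hq c).2.2.1 ⟨by rw [← hZ]; exact h2, hc.1, hc.2⟩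
    · rintro ⟨h1, h2, h3⟩
      have hZ : Z = C := point_eq hbc h1 h2 hb.2 hc.1
      exact (hq d).2.2.1 ⟨hd.2, by rw [← hZ]; exact h3, hd.1⟩
  refine ⟨a, b, c, d, ?_, hline⟩
  rintro _ ⟨σ, hσ, rfl⟩
  obtain ⟨fA, fB, fC, fD⟩ := hfix σ hσ
  have e1 : σ • a = a := smul_join_eq hq.ne₁₂ fA fB ha.1 ha.2
  have e2 : σ • b = b := smul_join_eq hq.ne₂₃ fB fC hb.1 hb.2
  have e3 : σ • c = c := smul_join_eq hq.ne₃₄ fC fD hc.1 hc.2
  have e4 : σ • d = d := smul_join_eq nDA fD fA hd.1 hd.2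
  exact ⟨e1, e2, e3, e4⟩

theorem fixOrder_eq_of_equiv {P' : Type u} {L' : Type v} [Membership P' L'] [ProjectivePlane P' L']
    [Finite P'] [Finite L'] {X : Subgroup (Coll P L)} (hX : HasQuad X) {Y : Subgroup (Coll P' L')}
    (hY : HasQuad Y) (f : FixP X ≃ FixP Y) : fixOrder hX = fixOrder hY := by
  have h := Nat.card_congr f
  rw [card_fixP hX, card_fixP hY] at h
  rcases lt_trichotomy (fixOrder hX) (fixOrder hY) with hlt | heq | hlt
  · exact absurd h (by nlinarith)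
  · exact heq
  · exact absurd h (by nlinarith)

theorem fixOrder_bot (hX : HasQuad (⊥ : Subgroup (Coll P L))) : fixOrder hX = ProjectivePlane.order P L := by
  obtain ⟨A, B, C, D, hfix, hq⟩ := id hX
  obtain ⟨l, hl, -⟩ := existsUnique_join (L := L) hq.ne₁₂
  have h1 := card_fix_on_line hX l fun σ hσ => by rw [Subgroup.mem_bot.mp hσ, one_smul]
  have h2 : Nat.card {p : P // p ∈ l ∧ ∀ σ ∈ (⊥ : Subgroup (Coll P L)), σ • p = p} = Nat.card {p : P // p ∈ l} :=
    Nat.card_congr (Equiv.subtypeEquivRight fun p =>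
      ⟨fun h => h.1, fun h => ⟨h, fun σ hσ => by rw [Subgroup.mem_bot.mp hσ, one_smul]⟩⟩)
  rw [h2, card_line] at h1
  omega

end General

/-- a 2-group fixing a quadrangle: the order of the plane is a 2-power power of that of the fixed subplane -/
theorem order_eq_fixOrder_pow (k : ℕ) : ∀ (P : Type u) (L : Type v) [Membership P L] [ProjectivePlane P L]
    [Finite P] [Finite L] (X : Subgroup (Coll P L)) (hX : HasQuad X), IsPGroup 2 X → Nat.card X ≤ k →
    ∃ j, ProjectivePlane.order P L = fixOrder hX ^ 2 ^ j := by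
  induction k with
  | zero => intro P L _ _ _ _ X _ _ h; exact absurd h (Nat.not_le.mpr Nat.card_pos)
  | succ k ih =>
    intro P L _ _ _ _ X hX h2 hk
    by_cases hb : X = ⊥
    · subst hb
      exact ⟨0, by rw [fixOrder_bot, pow_zero, pow_one]⟩
    have : Fact (Nat.Prime 2) := ⟨Nat.prime_two⟩
    have : Nontrivial X := (Subgroup.nontrivial_iff_ne_bot X).mpr hb
    have hZn : Nontrivial (Subgroup.center X) := h2.center_nontrivial
    obtain ⟨i, hi⟩ := IsPGroup.iff_card.mp (h2.to_subgroup (Subgroup.center X))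
    have hdvd : 2 ∣ Nat.card (Subgroup.center X) := by
      have h1 : 1 < Nat.card (Subgroup.center X) := Finite.one_lt_card
      rw [hi] at h1 ⊢
      exact dvd_pow_self 2 (by rintro rfl; simp at h1)
    obtain ⟨z, hz⟩ := exists_prime_orderOf_dvd_card' 2 hdvd
    set σ : Coll P L := ((z : X) : Coll P L) with hσ
    have ho : orderOf σ = 2 := by rw [hσ, Subgroup.orderOf_coe, Subgroup.orderOf_coe, hz]
    have hσ1 : σ ≠ 1 := fun e => by simp [e] at ho
    have hσ2 : σ * σ = 1 := by rw [← pow_two, ← ho, pow_orderOf_eq_one]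
    have hσX : σ ∈ X := (z : X).2
    have hcom : ∀ g ∈ X, g * σ = σ * g := fun g hg =>
      congrArg Subtype.val (Subgroup.mem_center_iff.mp z.2 ⟨g, hg⟩)
    obtain ⟨A, B, C, D, hfix, hq⟩ := id hX
    rcases persp_or_baer hσ1 hσ2 with ⟨Z, a, hp⟩ | ⟨hY, hn⟩
    · exact (hq.not_persp hp (hfix σ hσX).1 (hfix σ hσX).2.1 (hfix σ hσX).2.2.1 (hfix σ hσX).2.2.2).elim
    set Y := Subgroup.zpowers σ with hYdef
    have hYX : Y ≤ X := Subgroup.zpowers_le.mpr hσX
    have hXN : X ≤ Subgroup.normalizer (Y : Set (Coll P L)) := fun g hg => by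
      rw [Subgroup.mem_normalizer_iff]
      intro h
      have hc : ∀ t ∈ Y, g * t * g⁻¹ = t := fun t ht => by
        obtain ⟨m, rfl⟩ := Subgroup.mem_zpowers_iff.mp ht
        rw [((show Commute g σ from hcom g hg).zpow_right m).eq, mul_inv_cancel_right]
      constructor
      · intro hh
        rw [hc h hh]; exact hh
      · intro hh
        have h' : g * h * g⁻¹ = h := by
          have e := hc _ hh
          have := congrArg (fun t => g⁻¹ * t * g) e
          simpa [mul_assoc] using this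
        rwa [h'] at hh
    let f : X →* Coll (FixP Y) (FixL Y) := (fixHom Y).comp (Subgroup.inclusion hXN)
    let planeY := fixPlane hY
    have hrange : Nat.card f.range ≤ k := by
      have h1 := Subgroup.card_mul_index f.ker
      rw [Subgroup.index_ker] at h1
      have h3 : 2 ≤ Nat.card f.ker := by
        have hzk : (⟨σ, hσX⟩ : X) ∈ f.ker := by
          rw [MonoidHom.mem_ker]
          let := planeY
          exact eq_one_of_forall_point fun p => Subtype.ext (p.2 σ (Subgroup.mem_zpowers σ))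
        have : Nontrivial f.ker := ⟨⟨1, ⟨_, hzk⟩, fun e => hσ1 (congrArg (fun t => ((t.1 : X) : Coll P L)) e).symm⟩⟩
        exact Finite.one_lt_card
      have h4 : 0 < Nat.card f.range := Nat.card_pos
      nlinarith
    have hq' : HasQuad f.range := by
      refine ⟨⟨A, fun t ht => (hfix t (hYX ht)).1⟩, ⟨B, fun t ht => (hfix t (hYX ht)).2.1⟩,
        ⟨C, fun t ht => (hfix t (hYX ht)).2.2.1⟩, ⟨D, fun t ht => (hfix t (hYX ht)).2.2.2⟩, ?_, fun l => hq l.1⟩
      rintro _ ⟨g, rfl⟩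
      exact ⟨Subtype.ext (hfix g g.2).1, Subtype.ext (hfix g g.2).2.1, Subtype.ext (hfix g g.2).2.2.1,
        Subtype.ext (hfix g g.2).2.2.2⟩
    obtain ⟨j, hj⟩ := ih (FixP Y) (FixL Y) f.range hq' (h2.of_surjective f.rangeRestrict f.rangeRestrict_surjective) hrange
    let e : FixP f.range ≃ FixP X :=
      { toFun := fun p => ⟨p.1.1, fun g hg => congrArg Subtype.val (p.2 _ ⟨⟨g, hg⟩, rfl⟩)⟩
        invFun := fun p => ⟨⟨p.1, fun t ht => p.2 t (hYX ht)⟩, by
          rintro _ ⟨g, rfl⟩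
          exact Subtype.ext (p.2 g g.2)⟩
        left_inv := fun _ => rfl
        right_inv := fun _ => rfl }
    refine ⟨j + 1, ?_⟩
    rw [fixOrder_eq_of_equiv hq' hX e] at hj
    have hY' : fixOrder hY = fixOrder hX ^ 2 ^ j := hj
    rw [hn, hY', ← pow_add, ← two_mul, ← pow_succ']

section Two

variable {P : Type u} {L : Type v} [Membership P L] [ProjectivePlane P L] [Finite P] [Finite L]
  {G : Subgroup (Coll P L)}

theorem exists_sylow_sub {p : ℕ} [Fact p.Prime] {D R : Subgroup (Coll P L)} (hR : R ≤ D) (hRp : IsPGroup p R) :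
    ∃ S : Subgroup (Coll P L), R ≤ S ∧ S ≤ D ∧ IsPGroup p S ∧
      ∀ T : Subgroup (Coll P L), T ≤ D → IsPGroup p T → Nat.card T ≤ Nat.card S := by
  classical
  have hex : ∃ c : ℕ, ∃ S : Subgroup (Coll P L), R ≤ S ∧ S ≤ D ∧ IsPGroup p S ∧ Nat.card S = c :=
    ⟨_, R, le_rfl, hR, hRp, rfl⟩
  obtain ⟨Q, hQ⟩ := (hRp.of_equiv (Subgroup.subgroupOfEquivOfLe hR).symm).exists_le_sylow
  refine ⟨(Q : Subgroup D).map D.subtype, ?_, Subgroup.map_subtype_le _, Q.isPGroup'.map _, fun T hT hTp => ?_⟩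
  · intro x hx
    exact ⟨⟨x, hR hx⟩, hQ (Subgroup.mem_subgroupOf.mpr hx), rfl⟩
  · obtain ⟨Q', hQ'⟩ := (hTp.of_equiv (Subgroup.subgroupOfEquivOfLe hT).symm).exists_le_sylow
    rw [← Nat.card_congr (Subgroup.subgroupOfEquivOfLe hT).toEquiv,
      ← Nat.card_congr (Subgroup.equivMapOfInjective _ D.subtype D.subtype_injective).toEquiv]
    rw [Sylow.card_eq_multiplicity Q, ← Sylow.card_eq_multiplicity Q']
    exact Subgroup.card_le_of_le hQ'

/-- a 2-element with given non-trivial action -/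
theorem exists_pow_two_part {M H : Type*} [Group M] [Group H] [Finite M] (f : M →* H) (g : M)
    (hg : f g * f g = 1) : ∃ r : ℕ, (∃ i, (g ^ r) ^ 2 ^ i = 1) ∧ f (g ^ r) = f g := by
  obtain ⟨i, r, hr, ho⟩ := Nat.exists_eq_two_pow_mul_odd (isOfFinOrder_of_finite g).orderOf_pos.ne'
  refine ⟨r, ⟨i, by rw [← pow_mul, mul_comm, ← ho, pow_orderOf_eq_one]⟩, ?_⟩
  obtain ⟨t, rfl⟩ := hr
  rw [map_pow, pow_add, pow_mul, pow_two, hg, one_pow, pow_one, one_mul]

theorem isPGroup_sup_zpowers {p : ℕ} {Q : Subgroup (Coll P L)} (hQ : IsPGroup p Q) {x : Coll P L}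
    (hx : x ∈ Subgroup.normalizer (Q : Set (Coll P L))) (hxp : ∃ i, x ^ p ^ i = 1) :
    IsPGroup p ↥(Subgroup.zpowers x ⊔ Q) := by
  obtain ⟨i, hi⟩ := hxp
  refine IsPGroup.to_sup_of_normal_right' (fun y => ⟨i, ?_⟩) hQ (Subgroup.zpowers_le.mpr hx)
  obtain ⟨m, hm⟩ := Subgroup.mem_zpowers_iff.mp y.2
  refine Subtype.ext ?_
  rw [SubmonoidClass.coe_pow, ← hm, ← zpow_natCast (x ^ m), zpow_comm, zpow_natCast, hi, one_zpow]
  rfl

theorem two_part_lt {Q : Subgroup (Coll P L)} {x : Coll P L} (hxQ : x ∉ Q) :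
    Nat.card Q < Nat.card ↥(Subgroup.zpowers x ⊔ Q) := by
  refine lt_of_le_of_ne (Subgroup.card_le_of_le le_sup_right) fun h => hxQ ?_
  have := Subgroup.eq_of_le_of_card_ge (show Q ≤ Subgroup.zpowers x ⊔ Q from le_sup_right) h.ge
  rw [this]
  exact Subgroup.mem_sup_left (Subgroup.mem_zpowers x)

variable {Q : Subgroup (Coll P L)} (hG : TwoTransitive G) (hodd : Odd (ProjectivePlane.order P L))
  (hQG : Q ≤ G) (hQ : IsPGroup 2 Q) (hq : HasQuad Q)
  (hmax : ∀ T : Subgroup (Coll P L), T ≤ G → IsPGroup 2 T → HasQuad T → Nat.card T ≤ Nat.card Q)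

include hG hodd hQG hQ hq hmax

theorem fixOrder_odd : Odd (fixOrder hq) := by
  obtain ⟨j, hj⟩ := order_eq_fixOrder_pow (Nat.card Q) P L Q hq hQ le_rfl
  rw [hj] at hodd
  exact (Nat.odd_pow_iff (by positivity)).mp hodd

/-- an element of `G` normalising `Q` with non-trivial 2-power action fixes no quadrangle of the subplane -/
theorem involution_isHomology {τ : Coll (FixP Q) (FixL Q)} (hτ : τ ∈ fixGroup Q G) (h1 : τ ≠ 1)
    (h2 : τ * τ = 1) : IsHomology τ := by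
  let := fixPlane hq
  rcases persp_or_baer h1 h2 with ⟨C, a, h⟩ | ⟨hb, -⟩
  · exact ⟨C, a, h.not_mem_of_odd h2 (fixOrder_odd hG hodd hQG hQ hq hmax), h⟩
  obtain ⟨g, hgG, rfl⟩ := hτ
  obtain ⟨r, hr2, hrf⟩ := exists_pow_two_part (fixHom Q) g h2
  set x : Coll P L := ((g ^ r : ↥(Subgroup.normalizer (Q : Set (Coll P L)))) : Coll P L) with hx
  have hxG : x ∈ G := by rw [hx, SubmonoidClass.coe_pow]; exact G.pow_mem hgG r
  have hxp : ∃ i, x ^ 2 ^ i = 1 := hr2.imp fun i hi => by rw [hx, ← SubmonoidClass.coe_pow, hi]; rfl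
  have hp := isPGroup_sup_zpowers hQ (g ^ r).2 hxp
  obtain ⟨A, B, C, D, hfix, hquad⟩ := hb
  have hxfix : ∀ Z : FixP Q, fixHom Q g • Z = Z → ∀ t ∈ Subgroup.zpowers x ⊔ Q, t • Z.1 = Z.1 := fun Z hZ t ht => by
    have hle : Subgroup.zpowers x ⊔ Q ≤ MulAction.stabilizer (Coll P L) Z.1 := by
      refine sup_le (Subgroup.zpowers_le.mpr ?_) fun s hs => Z.2 s hs
      have : fixHom Q (g ^ r) • Z = Z := by rw [hrf]; exact hZ
      exact congrArg Subtype.val this
    exact hle ht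
  obtain ⟨fA, fB, fC, fD⟩ := hfix _ (Subgroup.mem_zpowers _)
  have hquad' : Quad L A.1 B.1 C.1 D.1 := fun l => by
    have hmk : ∀ U V : FixP Q, U ≠ V → U.1 ∈ l → V.1 ∈ l → ∀ σ ∈ Q, σ • l = l := fun U V hUV hU hV σ hσ =>
      smul_join_eq (fun e => hUV (Subtype.ext e)) (U.2 σ hσ) (V.2 σ hσ) hU hV
    refine ⟨fun h => ?_, fun h => ?_, fun h => ?_, fun h => ?_⟩
    · exact (hquad ⟨l, hmk A B hquad.ne₁₂ h.1 h.2.1⟩).1 h
    · exact (hquad ⟨l, hmk A B hquad.ne₁₂ h.1 h.2.1⟩).2.1 h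
    · exact (hquad ⟨l, hmk A C hquad.ne₁₃ h.1 h.2.1⟩).2.2.1 h
    · exact (hquad ⟨l, hmk B C hquad.ne₂₃ h.1 h.2.1⟩).2.2.2 h
  have hle := hmax _ (sup_le (Subgroup.zpowers_le.mpr hxG) hQG) hp
    ⟨A.1, B.1, C.1, D.1, fun t ht => ⟨hxfix A fA t ht, hxfix B fB t ht, hxfix C fC t ht, hxfix D fD t ht⟩, hquad'⟩
  refine absurd hle (Nat.not_le.mpr (two_part_lt fun hxQ => h1 ?_))
  rw [← hrf]
  exact eq_one_of_forall_point fun Z => Subtype.ext (Z.2 x hxQ)

/-- a larger 2-group in a subgroup containing `Q` gives an involution on the subplane -/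
theorem exists_involution_of_bigger {D : Subgroup (Coll P L)} (hDG : D ≤ G) (hQD : Q ≤ D)
    (hbig : ∃ T ≤ D, IsPGroup 2 T ∧ Nat.card Q < Nat.card T) :
    ∃ τ, τ ≠ 1 ∧ τ * τ = 1 ∧
      ∃ g : ↥(Subgroup.normalizer (Q : Set (Coll P L))), (g : Coll P L) ∈ D ∧ fixHom Q g = τ := by
  have : Fact (Nat.Prime 2) := ⟨Nat.prime_two⟩
  obtain ⟨T, hTD, hT2, hT⟩ := hbig
  obtain ⟨S, hQS, hSD, hS2, hSmax⟩ := exists_sylow_sub hQD hQ
  have hlt : Nat.card Q < Nat.card S := lt_of_lt_of_le hT (hSmax T hTD hT2)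
  have hne : Q.subgroupOf S ≠ ⊤ := fun e => by
    rw [Subgroup.subgroupOf_eq_top] at e
    exact absurd (Subgroup.card_le_of_le e) (Nat.not_le.mpr hlt)
  have : Group.IsNilpotent S := hS2.isNilpotent
  have hgrow := normalizerCondition_of_isNilpotent _ (lt_top_iff_ne_top.mpr hne)
  obtain ⟨⟨x, hxS⟩, hxN, hxQ⟩ := SetLike.exists_of_lt hgrow
  have hxQ' : x ∉ Q := fun e => hxQ (Subgroup.mem_subgroupOf.mpr e)
  have hxN' : x ∈ Subgroup.normalizer (Q : Set (Coll P L)) := by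
    rw [Subgroup.mem_normalizer_iff]
    intro h
    rw [Subgroup.mem_normalizer_iff] at hxN
    constructor
    · intro hh
      exact (hxN ⟨h, hQS hh⟩).mp hh
    · intro hh
      have hhS : h ∈ S := by
        have := S.mul_mem (S.mul_mem (S.inv_mem hxS) (hQS hh)) hxS
        simpa [mul_assoc] using this
      exact (hxN ⟨h, hhS⟩).mpr hh
  let g : ↥(Subgroup.normalizer (Q : Set (Coll P L))) := ⟨x, hxN'⟩
  obtain ⟨i, hi⟩ := hS2 ⟨x, hxS⟩
  have hi' : x ^ 2 ^ i = 1 := congrArg Subtype.val hi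
  have hne1 : fixHom Q g ≠ 1 := fun e => by
    have hle := hmax _ (sup_le (Subgroup.zpowers_le.mpr (hDG (hSD hxS))) hQG)
      (isPGroup_sup_zpowers hQ hxN' ⟨i, hi'⟩) ?_
    · exact absurd hle (Nat.not_le.mpr (two_part_lt hxQ'))
    obtain ⟨A, B, C, D', hfix, hquad⟩ := id hq
    have hxfix : ∀ Z : FixP Q, x • Z.1 = Z.1 := fun Z => by
      have h := congrArg (fun t : Coll (FixP Q) (FixL Q) => t • Z) e
      exact (fixHom_point Q g Z).symm.trans (congrArg Subtype.val (h.trans (one_smul _ Z)))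
    have key : ∀ Z : P, (∀ σ ∈ Q, σ • Z = Z) → ∀ t ∈ Subgroup.zpowers x ⊔ Q, t • Z = Z := fun Z hZ t ht =>
      (sup_le (Subgroup.zpowers_le.mpr (show x ∈ MulAction.stabilizer (Coll P L) Z from hxfix ⟨Z, hZ⟩))
        (fun s hs => hZ s hs) : _ ≤ MulAction.stabilizer (Coll P L) Z) ht
    exact ⟨A, B, C, D', fun t ht => ⟨key A (fun σ hσ => (hfix σ hσ).1) t ht,
      key B (fun σ hσ => (hfix σ hσ).2.1) t ht, key C (fun σ hσ => (hfix σ hσ).2.2.1) t ht,
      key D' (fun σ hσ => (hfix σ hσ).2.2.2) t ht⟩, hquad⟩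
  -- an involution among the powers
  have hone : fixHom Q g ^ 2 ^ i = 1 := by
    rw [← map_pow, show g ^ 2 ^ i = 1 from Subtype.ext hi', map_one]
  obtain ⟨j, -, hj⟩ := (Nat.dvd_prime_pow Nat.prime_two).mp (orderOf_dvd_of_pow_eq_one hone)
  obtain ⟨j', rfl⟩ : ∃ j', j = j' + 1 := Nat.exists_eq_succ_of_ne_zero fun e => hne1 (by
    rw [e, pow_zero, orderOf_eq_one_iff] at hj; exact hj)
  refine ⟨fixHom Q g ^ 2 ^ j', fun e => ?_, ?_, g ^ 2 ^ j', ?_, map_pow _ _ _⟩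
  · have := Nat.le_of_dvd (by positivity) (orderOf_dvd_of_pow_eq_one e)
    rw [hj, pow_succ] at this
    have : 0 < 2 ^ j' := by positivity
    omega
  · rw [← pow_add, ← two_mul, ← pow_succ', ← hj, pow_orderOf_eq_one]
  · rw [SubmonoidClass.coe_pow]
    exact D.pow_mem (hSD hxS) _

/-- the stabiliser in `G` of two fixed points has a 2-group larger than `Q` -/
theorem pair_bigger (A B : FixP Q) (hAB : A ≠ B) :
    ∃ T ≤ G ⊓ MulAction.stabilizer (Coll P L) A.1 ⊓ MulAction.stabilizer (Coll P L) B.1,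
      IsPGroup 2 T ∧ Nat.card Q < Nat.card T := by
  classical
  have : Fact (Nat.Prime 2) := ⟨Nat.prime_two⟩
  set GAB := G ⊓ MulAction.stabilizer (Coll P L) A.1 ⊓ MulAction.stabilizer (Coll P L) B.1 with hGAB
  by_contra hno
  push Not at hno
  -- transport of 2-groups between pairs
  have transport : ∀ C D : FixP Q, C ≠ D → ∀ T : Subgroup (Coll P L),
      T ≤ G ⊓ MulAction.stabilizer (Coll P L) C.1 ⊓ MulAction.stabilizer (Coll P L) D.1 → IsPGroup 2 T →
      Nat.card T ≤ Nat.card Q := fun C D hCD T hT hT2 => by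
    obtain ⟨g, hg, h1, h2⟩ := hG C.1 D.1 A.1 B.1 (fun e => hCD (Subtype.ext e)) (fun e => hAB (Subtype.ext e))
    rw [Nat.card_congr (T.equivMapOfInjective (MulAut.conj g).toMonoidHom (MulAut.conj g).injective).toEquiv]
    refine hno _ ?_ (hT2.map _)
    rintro _ ⟨t, ht, rfl⟩
    obtain ⟨⟨htG, htC⟩, htD⟩ := hT ht
    have htC' : t • C.1 = C.1 := htC
    have htD' : t • D.1 = D.1 := htD
    refine ⟨⟨G.mul_mem (G.mul_mem hg htG) (G.inv_mem hg), ?_⟩, ?_⟩
    · show (g * t * g⁻¹) • A.1 = A.1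
      rw [← h1, mul_smul, mul_smul, inv_smul_smul, htC']
    · show (g * t * g⁻¹) • B.1 = B.1
      rw [← h2, mul_smul, mul_smul, inv_smul_smul, htD']
  -- the normaliser of `Q` is doubly transitive on the subplane
  have htt : ∀ C D : FixP Q, C ≠ D → ∃ g : ↥(Subgroup.normalizer (Q : Set (Coll P L))),
      (g : Coll P L) ∈ G ∧ fixHom Q g • A = C ∧ fixHom Q g • B = D := fun C D hCD => by
    obtain ⟨g, hg, h1, h2⟩ := hG A.1 B.1 C.1 D.1 (fun e => hAB (Subtype.ext e)) (fun e => hCD (Subtype.ext e))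
    set GCD := G ⊓ MulAction.stabilizer (Coll P L) C.1 ⊓ MulAction.stabilizer (Coll P L) D.1 with hGCD
    have hQCD : Q ≤ GCD := fun σ hσ => ⟨⟨hQG hσ, C.2 σ hσ⟩, D.2 σ hσ⟩
    set Q' := Q.map (MulAut.conj g).toMonoidHom with hQ'def
    have hQ'CD : Q' ≤ GCD := by
      rintro _ ⟨t, ht, rfl⟩
      refine ⟨⟨G.mul_mem (G.mul_mem hg (hQG ht)) (G.inv_mem hg), ?_⟩, ?_⟩
      · show (g * t * g⁻¹) • C.1 = C.1
        rw [← h1, mul_smul, mul_smul, inv_smul_smul, A.2 t ht]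
      · show (g * t * g⁻¹) • D.1 = D.1
        rw [← h2, mul_smul, mul_smul, inv_smul_smul, B.2 t ht]
    have hQ' : IsPGroup 2 Q' := hQ.map _
    have hcQ' : Nat.card Q' = Nat.card Q :=
      (Nat.card_congr (Q.equivMapOfInjective (MulAut.conj g).toMonoidHom (MulAut.conj g).injective).toEquiv).symm
    -- both are Sylow subgroups
    have hsyl : ∀ T : Subgroup (Coll P L), T ≤ GCD → IsPGroup 2 T → Nat.card T = Nat.card Q →
        ∃ S : Sylow 2 GCD, (S : Subgroup GCD) = T.subgroupOf GCD := fun T hT hT2 hcT => by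
      obtain ⟨S, hS⟩ := (hT2.of_equiv (Subgroup.subgroupOfEquivOfLe hT).symm).exists_le_sylow
      refine ⟨S, (Subgroup.eq_of_le_of_card_ge hS ?_).symm⟩
      rw [Nat.card_congr (Subgroup.subgroupOfEquivOfLe hT).toEquiv, hcT,
        Nat.card_congr (Subgroup.equivMapOfInjective (S : Subgroup GCD) GCD.subtype GCD.subtype_injective).toEquiv]
      exact transport C D hCD _ (Subgroup.map_subtype_le _) (S.isPGroup'.map _)
    obtain ⟨S₁, hS₁⟩ := hsyl Q' hQ'CD hQ' hcQ'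
    obtain ⟨S₂, hS₂⟩ := hsyl Q hQCD hQ rfl
    obtain ⟨k, hk⟩ := MulAction.exists_smul_eq GCD S₁ S₂
    have hk' : ∀ t ∈ Q, (k : Coll P L) * g * t * ((k : Coll P L) * g)⁻¹ ∈ Q := fun t ht => by
      have hmem : (⟨g * t * g⁻¹, hQ'CD ⟨t, ht, rfl⟩⟩ : GCD) ∈ (S₁ : Subgroup GCD) := by
        rw [hS₁]; exact ⟨t, ht, rfl⟩
      have : k * ⟨g * t * g⁻¹, hQ'CD ⟨t, ht, rfl⟩⟩ * k⁻¹ ∈ (S₂ : Subgroup GCD) := by
        rw [← hk, Sylow.coe_subgroup_smul]
        exact Subgroup.smul_mem_pointwise_smul _ (MulAut.conj k) _ hmem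
      rw [hS₂, Subgroup.mem_subgroupOf] at this
      simpa [mul_assoc] using this
    have hN : (k : Coll P L) * g ∈ Subgroup.normalizer (Q : Set (Coll P L)) := by
      rw [Subgroup.mem_normalizer_iff_map_conj_eq]
      refine Subgroup.eq_of_le_of_card_ge (by rintro _ ⟨t, ht, rfl⟩; exact hk' t ht) ?_
      exact (Nat.card_congr (Q.equivMapOfInjective (MulAut.conj ((k : Coll P L) * g)).toMonoidHom
        (MulAut.conj ((k : Coll P L) * g)).injective).toEquiv).le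
    refine ⟨⟨_, hN⟩, G.mul_mem k.2.1.1 hg, Subtype.ext ?_, Subtype.ext ?_⟩
    · show ((k : Coll P L) * g) • A.1 = C.1
      rw [mul_smul, h1]; exact k.2.1.2
    · show ((k : Coll P L) * g) • B.1 = D.1
      rw [mul_smul, h2]; exact k.2.2
  -- hence an involution fixing two points
  let := fixPlane hq
  obtain ⟨g, hgG, hgA, hgB⟩ := htt B A (Ne.symm hAB)
  set σ := fixHom Q g with hσ
  have hev : 2 ∣ orderOf σ := by
    by_contra hh
    have hsq : σ ^ 2 • A = A := by rw [pow_two, mul_smul, hgA, hgB]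
    obtain ⟨t, ht⟩ : Odd (orderOf σ) := Nat.not_even_iff_odd.mp fun he => hh (even_iff_two_dvd.mp he)
    have h2t : (σ ^ 2) ^ t • A = A := by
      induction t generalizing A with
      | zero => rw [pow_zero, one_smul]
      | succ t _ =>
        exact (Subgroup.pow_mem (MulAction.stabilizer (Coll (FixP Q) (FixL Q)) A) (show σ ^ 2 ∈ _ from hsq) _)
    have h1 := pow_orderOf_eq_one σ
    rw [ht, pow_succ', pow_mul] at h1
    have := congrArg (fun x : Coll (FixP Q) (FixL Q) => x • A) h1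
    simp only [mul_smul, h2t, one_smul, hgA] at this
    exact hAB this.symm
  obtain ⟨h, hh⟩ := hev
  set τ := σ ^ h with hτ
  have hpos : 0 < orderOf σ := (isOfFinOrder_of_finite σ).orderOf_pos
  have hτ1 : τ ≠ 1 := fun e => by
    have := Nat.le_of_dvd (by omega) (orderOf_dvd_of_pow_eq_one e)
    omega
  have hτ2 : τ * τ = 1 := by rw [hτ, ← pow_add, ← two_mul, ← hh, pow_orderOf_eq_one]
  have hτG : τ ∈ fixGroup Q G := (fixGroup Q G).pow_mem ⟨g, hgG, rfl⟩ h
  obtain ⟨Z, a, -, hp⟩ := involution_isHomology hG hodd hQG hQ hq hmax hτG hτ1 hτ2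
  obtain ⟨C, hC, -⟩ := exists_point_on_ne (P := FixP Q) a Z Z
  obtain ⟨D, hD, hDC, -⟩ := exists_point_on_ne (P := FixP Q) a C C
  obtain ⟨r, hr2, hrf⟩ := exists_pow_two_part (fixHom Q) (g ^ h) (by rw [map_pow]; exact hτ2)
  set y := (g ^ h) ^ r with hy
  have hyG : (y : Coll P L) ∈ G := by
    rw [hy, SubmonoidClass.coe_pow, SubmonoidClass.coe_pow]
    exact G.pow_mem (G.pow_mem hgG _) _
  have hyτ : fixHom Q y = τ := by rw [hy, hrf, map_pow]
  have hyp : ∃ i, (y : Coll P L) ^ 2 ^ i = 1 := hr2.imp fun i hi => by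
    rw [← SubmonoidClass.coe_pow, hi]; rfl
  have hyC : (y : Coll P L) • C.1 = C.1 := congrArg Subtype.val (show fixHom Q y • C = C by
    rw [hyτ]; exact hp.2.2 C hC)
  have hyD : (y : Coll P L) • D.1 = D.1 := congrArg Subtype.val (show fixHom Q y • D = D by
    rw [hyτ]; exact hp.2.2 D hD)
  have hle := transport C D (Ne.symm hDC) (Subgroup.zpowers (y : Coll P L) ⊔ Q)
    (sup_le (Subgroup.zpowers_le.mpr ⟨⟨hyG, hyC⟩, hyD⟩) fun s hs => ⟨⟨hQG hs, C.2 s hs⟩, D.2 s hs⟩)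
    (isPGroup_sup_zpowers hQ y.2 hyp)
  refine absurd hle (Nat.not_le.mpr (two_part_lt fun hyQ => hτ1 ?_))
  rw [← hyτ]
  exact eq_one_of_forall_point fun p => Subtype.ext (p.2 _ hyQ)

/-- each pair of points of the subplane is fixed by an involution of the induced group -/
theorem exists_involution_pair (A B : FixP Q) (hAB : A ≠ B) :
    ∃ τ ∈ fixGroup Q G, τ ≠ 1 ∧ τ * τ = 1 ∧ τ • A = A ∧ τ • B = B := by
  obtain ⟨τ, h1, h2, g, hg, rfl⟩ := exists_involution_of_bigger hG hodd hQG hQ hq hmax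
    (D := G ⊓ MulAction.stabilizer (Coll P L) A.1 ⊓ MulAction.stabilizer (Coll P L) B.1)
    (inf_le_left.trans inf_le_left) (fun σ hσ => ⟨⟨hQG hσ, A.2 σ hσ⟩, B.2 σ hσ⟩)
    (pair_bigger hG hodd hQG hQ hq hmax A B hAB)
  exact ⟨_, ⟨g, hg.1.1, rfl⟩, h1, h2, Subtype.ext hg.1.2, Subtype.ext hg.2⟩

/-- each pair of lines of the subplane is fixed by an involution of the induced group -/
theorem exists_involution_pairL (a b : FixL Q) (hab : a ≠ b) :
    ∃ τ ∈ fixGroup Q G, τ ≠ 1 ∧ τ * τ = 1 ∧ τ • a = a ∧ τ • b = b := by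
  let c := (collDual (P := P) (L := L)).toMonoidHom
  have hinj : Function.Injective c := (collDual (P := P) (L := L)).injective
  have hodd' : Odd (ProjectivePlane.order (Dual L) (Dual P)) := by rw [ProjectivePlane.Dual.order]; exact hodd
  have hback : ∀ T : Subgroup (Coll (Dual L) (Dual P)),
      (T.comap c).map c = T := fun T => Subgroup.map_comap_eq_self_of_surjective (collDual (P := P) (L := L)).surjective T
  have hmax' : ∀ T : Subgroup (Coll (Dual L) (Dual P)), T ≤ G.map c → IsPGroup 2 T → HasQuad T →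
      Nat.card T ≤ Nat.card (Q.map c) := fun T hT hT2 hTq => by
    rw [← hback T, ← Nat.card_congr ((T.comap c).equivMapOfInjective c hinj).toEquiv,
      ← Nat.card_congr (Q.equivMapOfInjective c hinj).toEquiv]
    refine hmax _ ?_ (hT2.comap_of_injective c hinj) ?_
    · intro x hx
      obtain ⟨y, hy, e⟩ := hT hx
      exact hinj e ▸ hy
    · obtain ⟨A, B, C, D, hfix, hq'⟩ := hTq.dual
      exact ⟨A, B, C, D, fun σ hσ => hfix (collDual (collDual σ)) ⟨collDual σ, hσ, rfl⟩, hq'⟩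
  have hfix' : ∀ (l : L), (∀ σ ∈ Q, σ • l = l) → ∀ t ∈ Q.map c, t • (id l : Dual L) = (id l : Dual L) := by
    rintro l hl _ ⟨σ, hσ, rfl⟩
    exact hl σ hσ
  obtain ⟨T, hT, hT2, hTcard⟩ := pair_bigger (P := Dual L) (L := Dual P) (G := G.map c) (Q := Q.map c)
    hG.dual hodd' (Subgroup.map_mono hQG) (hQ.map c) hq.dual hmax' ⟨a.1, hfix' a.1 a.2⟩ ⟨b.1, hfix' b.1 b.2⟩
    (fun e => hab (by have e' := congrArg Subtype.val e; exact Subtype.ext e'))
  have hsub : T.comap c ≤ G ⊓ MulAction.stabilizer (Coll P L) a.1 ⊓ MulAction.stabilizer (Coll P L) b.1 := by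
    intro x hx
    obtain ⟨⟨⟨y, hy, e⟩, hxa⟩, hxb⟩ := hT hx
    exact ⟨⟨hinj e ▸ hy, hxa⟩, hxb⟩
  have hlt : Nat.card Q < Nat.card (T.comap c) := by
    rw [Nat.card_congr ((T.comap c).equivMapOfInjective c hinj).toEquiv, hback T,
      Nat.card_congr (Q.equivMapOfInjective c hinj).toEquiv]
    exact hTcard
  obtain ⟨τ, h1, h2, g, hg, rfl⟩ := exists_involution_of_bigger hG hodd hQG hQ hq hmax
    (D := G ⊓ MulAction.stabilizer (Coll P L) a.1 ⊓ MulAction.stabilizer (Coll P L) b.1)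
    (inf_le_left.trans inf_le_left) (fun σ hσ => ⟨⟨hQG hσ, a.2 σ hσ⟩, b.2 σ hσ⟩)
    ⟨T.comap c, hsub, hT2.comap_of_injective c hinj, hlt⟩
  exact ⟨_, ⟨g, hg.1.1, rfl⟩, h1, h2, Subtype.ext hg.1.2, Subtype.ext hg.2⟩

/-- each antiflag of the subplane is fixed by an involution of the induced group -/
theorem exists_involution_antiflag (C : FixP Q) (b : FixL Q) (hCb : C ∉ b) :
    ∃ τ ∈ fixGroup Q G, τ ≠ 1 ∧ τ * τ = 1 ∧ τ • C = C ∧ τ • b = b := by
  classical
  have : Fact (Nat.Prime 2) := ⟨Nat.prime_two⟩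
  set D := G ⊓ MulAction.stabilizer (Coll P L) C.1 ⊓ MulAction.stabilizer (Coll P L) b.1 with hD
  have hbig : ∃ T ≤ D, IsPGroup 2 T ∧ Nat.card Q < Nat.card T := by
    -- a Sylow 2-subgroup of `G`
    obtain ⟨S, hQS, hSG, hS2, hSmax⟩ := exists_sylow_sub hQG hQ
    have hstrict : Nat.card Q < Nat.card S := by
      let := fixPlane hq
      obtain ⟨A, -, -⟩ := exists_point_on_ne (P := FixP Q) b C C
      obtain ⟨T, hT, hT2, hlt⟩ := pair_bigger hG hodd hQG hQ hq hmax C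
        (Classical.choose (exists_point_on_ne (P := FixP Q) b C C))
        (Ne.symm (Classical.choose_spec (exists_point_on_ne (P := FixP Q) b C C)).2.1)
      exact lt_of_lt_of_le hlt (hSmax T (hT.trans (inf_le_left.trans inf_le_left)) hT2)
    -- it fixes a point
    have hoddP : Odd (Nat.card P) := by
      rw [card_point (L := L)]
      exact (((hodd.pow).add_odd hodd)).add_one
    obtain ⟨A₀, hA₀⟩ := hS2.nonempty_fixed_point_of_prime_not_dvd_card P
      (fun h => Nat.not_even_iff_odd.mpr hoddP (even_iff_two_dvd.mpr h))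
    have hA₀' : ∀ σ ∈ S, σ • A₀ = A₀ := fun σ hσ => hA₀ ⟨σ, hσ⟩
    -- and a line not through it
    let act : MulAction S {l : L // A₀ ∉ l} :=
      { smul := fun σ l => ⟨(σ : Coll P L) • l.1, fun e => l.2 (by
          have h1 := (mem_smul_iff (σ : Coll P L)).mp e
          have h2 : (σ : Coll P L)⁻¹ • A₀ = A₀ := inv_smul_eq_iff.mpr (hA₀' σ σ.2).symm
          rwa [h2] at h1)⟩
        one_smul := fun l => Subtype.ext (one_smul _ l.1)
        mul_smul := fun s t l => Subtype.ext (mul_smul _ _ l.1) }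
    have hoddL : Odd (Nat.card {l : L // A₀ ∉ l}) := by
      have h1 : {l : L | A₀ ∈ l}.ncard + {l : L | A₀ ∈ l}ᶜ.ncard = Nat.card L := Set.ncard_add_ncard_compl _
      have h2 : {l : L | A₀ ∈ l}.ncard = ProjectivePlane.order P L + 1 := card_pencil A₀
      rw [card_lineSet (P := P), h2] at h1
      have h3 : Nat.card {l : L // A₀ ∉ l} = ProjectivePlane.order P L ^ 2 := by
        show {l : L | A₀ ∈ l}ᶜ.ncard = _
        omega
      rw [h3]
      exact hodd.pow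
    obtain ⟨l₀, hl₀⟩ := hS2.nonempty_fixed_point_of_prime_not_dvd_card {l : L // A₀ ∉ l}
      (fun h => Nat.not_even_iff_odd.mpr hoddL (even_iff_two_dvd.mpr h))
    have hl₀' : ∀ σ ∈ S, σ • l₀.1 = l₀.1 := fun σ hσ => congrArg Subtype.val (hl₀ ⟨σ, hσ⟩)
    obtain ⟨g, hg, hgA, hgl⟩ := hG.antiflag A₀ C.1 l₀.1 b.1 l₀.2 hCb
    refine ⟨S.map (MulAut.conj g).toMonoidHom, ?_, hS2.map _, ?_⟩
    · rintro _ ⟨t, ht, rfl⟩
      refine ⟨⟨G.mul_mem (G.mul_mem hg (hSG ht)) (G.inv_mem hg), ?_⟩, ?_⟩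
      · show (g * t * g⁻¹) • C.1 = C.1
        rw [← hgA, mul_smul, mul_smul, inv_smul_smul, hA₀' t ht]
      · show (g * t * g⁻¹) • b.1 = b.1
        rw [← hgl, mul_smul, mul_smul, inv_smul_smul, hl₀' t ht]
    · rw [← Nat.card_congr (S.equivMapOfInjective (MulAut.conj g).toMonoidHom (MulAut.conj g).injective).toEquiv]
      exact hstrict
  obtain ⟨τ, h1, h2, g, hg, rfl⟩ := exists_involution_of_bigger hG hodd hQG hQ hq hmax (D := D)
    (inf_le_left.trans inf_le_left) (fun σ hσ => ⟨⟨hQG hσ, C.2 σ hσ⟩, b.2 σ hσ⟩) hbig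
  exact ⟨_, ⟨g, hg.1.1, rfl⟩, h1, h2, Subtype.ext hg.1.2, Subtype.ext hg.2⟩

end Two

end CfsgLib.OW
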