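import Cfsg.Agent.Lib.OstromWagner.Sub
import Mathlib.GroupTheory.Sylow
import Mathlib.Data.Nat.Factorization.Basic

/-!
# The Sylow step: odd prime power order, an antiflag fixed by a `p`-element gives an elation
-/

set_option autoImplicit false
set_option linter.unusedSectionVars false
set_option linter.style.haveILetI false
set_option linter.unusedVariables false

namespace CfsgLib.OW.PrimePow

open Configuration
open scoped Pointwise

section Groups

variable {X : Type*} [Group X] [Finite X] {p : ℕ} [Fact p.Prime]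

theorem not_dvd_relIndex_mid {R U T : Subgroup X} (hRU : R ≤ U) (hUT : U ≤ T)
    (h : ¬ p ∣ R.relIndex T) : ¬ p ∣ R.relIndex U := fun hd =>
  h (Subgroup.relIndex_mul_relIndex R U T hRU hUT ▸ hd.mul_right _)

/-- a Sylow subgroup as a subgroup of the whole group -/
theorem exists_sylow_in (T : Subgroup X) :
    ∃ S : Subgroup X, S ≤ T ∧ IsPGroup p S ∧ ¬ p ∣ S.relIndex T := by
  obtain ⟨Q⟩ := (inferInstance : Nonempty (Sylow p T))
  refine ⟨(Q : Subgroup T).map T.subtype, Subgroup.map_subtype_le _, Q.2.map _, ?_⟩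
  rw [Subgroup.relIndex, Subgroup.subgroupOf,
    Subgroup.comap_map_eq_self_of_injective T.subtype_injective]
  exact Q.not_dvd_index

/-- a Sylow subgroup is transitive on an orbit of prime power size, and its stabiliser is Sylow
in the stabiliser -/
theorem orbit_of_sylow {α : Type*} [MulAction X α] [Finite α] {T S : Subgroup X} (hST : S ≤ T)
    (hidx : ¬ p ∣ S.relIndex T) (x : α) (O : Set α) {m : ℕ}
    (hO : ∀ y, (∃ σ ∈ T, σ • x = y) ↔ y ∈ O) (hc : O.ncard = p ^ m) :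
    (∀ y ∈ O, ∃ σ ∈ S, σ • x = y) ∧
      ¬ p ∣ (MulAction.stabilizer X x ⊓ S).relIndex (MulAction.stabilizer X x ⊓ T) := by
  set K := MulAction.stabilizer X x with hK
  have horb : MulAction.orbit T x = O := Set.ext fun y =>
    ⟨fun ⟨σ, h⟩ => (hO y).1 ⟨σ, σ.2, h⟩, fun h => let ⟨σ, h1, h2⟩ := (hO y).2 h; ⟨⟨σ, h1⟩, h2⟩⟩
  have eT : K.relIndex T = p ^ m := by
    rw [← hc, ← horb, ← MulAction.index_stabilizer]
    rfl
  have eS : K.relIndex S = (MulAction.orbit S x).ncard := by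
    rw [← MulAction.index_stabilizer]
    rfl
  have hsub : MulAction.orbit S x ⊆ O := by
    rintro _ ⟨σ, rfl⟩
    exact (hO _).1 ⟨σ, hST σ.2, rfl⟩
  have e1 := Subgroup.relIndex_mul_relIndex (K ⊓ S) S T inf_le_right hST
  rw [Subgroup.inf_relIndex_right] at e1
  have e2 := Subgroup.relIndex_mul_relIndex (K ⊓ S) (K ⊓ T) T (inf_le_inf_left K hST) inf_le_right
  rw [Subgroup.inf_relIndex_right, eT, ← e1] at e2
  have hdvd : p ^ m ∣ K.relIndex S :=
    (Nat.Coprime.pow_left m ((Fact.out : p.Prime).coprime_iff_not_dvd.2 hidx)).dvd_of_dvd_mul_right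
      ⟨_, by rw [← e2, mul_comm]⟩
  have hne : (MulAction.orbit S x).Nonempty := ⟨x, MulAction.mem_orbit_self x⟩
  have hpos : 0 < K.relIndex S := eS ▸ (Set.ncard_pos (Set.toFinite _)).2 hne
  have heq : MulAction.orbit S x = O :=
    Set.eq_of_subset_of_ncard_le hsub (by rw [hc, ← eS]; exact Nat.le_of_dvd hpos hdvd) (Set.toFinite _)
  refine ⟨fun y hy => ?_, fun hd => hidx ?_⟩
  · rw [← heq] at hy
    obtain ⟨σ, hσ⟩ := hy
    exact ⟨σ, σ.2, hσ⟩
  · rw [eS, heq, hc, mul_comm (p ^ m)] at e2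
    rwa [← Nat.eq_of_mul_eq_mul_right (pow_pos (Fact.out : p.Prime).pos m) e2]

/-- a conjugate inside `T` of a Sylow subgroup `R` of `T` is moved back by an element of `T` -/
theorem exists_normalizing {R T : Subgroup X} (hRT : R ≤ T) (hR : IsPGroup p R)
    (hidx : ¬ p ∣ R.relIndex T) {σ : X} (hσ : ∀ r ∈ R, σ * r * σ⁻¹ ∈ T) :
    ∃ τ ∈ T, τ * σ ∈ Subgroup.normalizer (R : Set X) := by
  set R' := R.map (MulAut.conj σ).toMonoidHom with hR'
  have hR'T : R' ≤ T := by rintro _ ⟨r, hr, rfl⟩; exact hσ r hr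
  have hcard : Nat.card R' = Nat.card R :=
    (Nat.card_congr (R.equivMapOfInjective _ (MulAut.conj σ).injective).toEquiv).symm
  have hidx' : ¬ p ∣ R'.relIndex T := by
    have e : R'.relIndex T = R.relIndex T := by
      have h1 := Subgroup.relIndex_mul_relIndex ⊥ R' T bot_le hR'T
      have h2 := Subgroup.relIndex_mul_relIndex ⊥ R T bot_le hRT
      rw [Subgroup.relIndex_bot_left, Subgroup.relIndex_bot_left] at h1 h2
      rw [hcard, ← h2] at h1
      exact Nat.eq_of_mul_eq_mul_left Nat.card_pos h1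
    rwa [e]
  let Q : Sylow p T := (hR.comap_of_injective T.subtype T.subtype_injective).toSylow hidx
  let Q' : Sylow p T := ((hR.map _).comap_of_injective T.subtype T.subtype_injective).toSylow hidx'
  obtain ⟨τ, hτ⟩ := MulAction.exists_smul_eq T Q' Q
  refine ⟨τ, τ.2, Subgroup.mem_normalizer_fintype fun r (hr : r ∈ R) => ?_⟩
  have hmem : (⟨σ * r * σ⁻¹, hσ r hr⟩ : T) ∈ (Q' : Subgroup T) := ⟨r, hr, rfl⟩
  have h2 : MulAut.conj τ • (⟨σ * r * σ⁻¹, hσ r hr⟩ : T) ∈ MulAut.conj τ • (Q' : Subgroup T) :=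
    Subgroup.smul_mem_pointwise_smul _ _ _ hmem
  rw [← Sylow.coe_subgroup_smul, hτ] at h2
  have h3 : ((τ : X) * (σ * r * σ⁻¹) * (τ : X)⁻¹) ∈ R := h2
  show (τ : X) * σ * r * ((τ : X) * σ)⁻¹ ∈ R
  simpa [mul_assoc] using h3

end Groups

variable {P L : Type*} [Membership P L] [ProjectivePlane P L] [Finite P] [Finite L]

/-- two points off a line, one a given point, on every other line through a point of it -/
theorem exists_two_off (l m : L) (h : m ≠ l) :
    ∃ A B : P, A ∈ m ∧ B ∈ m ∧ A ∉ l ∧ B ∉ l ∧ A ≠ B := by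
  obtain ⟨W, hW, -⟩ := existsUnique_meet (P := P) h
  obtain ⟨A, hA, hAW, -⟩ := exists_point_on_ne (P := P) m W W
  obtain ⟨B, hB, hBW, hBA⟩ := exists_point_on_ne (P := P) m W A
  exact ⟨A, B, hA, hB, fun e => hAW (point_eq h hA e hW.1 hW.2),
    fun e => hBW (point_eq h hB e hW.1 hW.2), hBA.symm⟩

/-- a collineation fixing all points off a line is trivial -/
theorem eq_one_of_fix_off {z : Coll P L} {l : L} (h : ∀ A : P, A ∉ l → z • A = A) : z = 1 := by
  refine eq_one_of_forall_point fun X => ?_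
  by_cases hX : X ∈ l
  · obtain ⟨m, hm, hml, -⟩ := exists_line_through_ne X l l
    obtain ⟨k, hk, hkl, hkm⟩ := exists_line_through_ne X l m
    have hfix : ∀ j : L, j ≠ l → z • j = j := fun j hj => by
      obtain ⟨A, B, hA, hB, hAl, hBl, hne⟩ := exists_two_off (P := P) l j hj
      exact smul_join_eq hne (h A hAl) (h B hBl) hA hB
    exact smul_meet_eq hkm (hfix k hkl) (hfix m hml) hk hm
  · exact h X hX

variable {p : ℕ} [Fact p.Prime]

/-- a `p`-group fixing a line with two fixed points fixes a third point of it -/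
theorem exists_third_fixed {R : Subgroup (Coll P L)} (hR : IsPGroup p R)
    (hn : p ∣ ProjectivePlane.order P L) {c : L} {A B : P} (hAB : A ≠ B) (hA : A ∈ c) (hB : B ∈ c)
    (hRA : ∀ σ ∈ R, σ • A = A) (hRB : ∀ σ ∈ R, σ • B = B) :
    ∃ C : P, C ∈ c ∧ C ≠ A ∧ C ≠ B ∧ ∀ σ ∈ R, σ • C = C := by
  by_contra hcon
  push Not at hcon
  have hc : ∀ σ ∈ R, σ • c = c := fun σ hσ => smul_join_eq hAB (hRA σ hσ) (hRB σ hσ) hA hB
  let act : MulAction R {x : P // x ∈ c} :=
    { smul := fun σ x => ⟨(σ : Coll P L) • x.1, smul_line_mem (hc σ σ.2) x.2⟩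
      one_smul := fun x => Subtype.ext (one_smul _ x.1)
      mul_smul := fun s t x => Subtype.ext (mul_smul _ _ x.1) }
  have h1 := hR.card_modEq_card_fixedPoints {x : P // x ∈ c}
  rw [card_line] at h1
  have h2 : Nat.card (MulAction.fixedPoints R {x : P // x ∈ c}) = 2 := by
    rw [Nat.card_coe_set_eq]
    have e : MulAction.fixedPoints R {x : P // x ∈ c} = {⟨A, hA⟩, ⟨B, hB⟩} := by
      ext x
      constructor
      · intro hx
        by_cases h : x.1 = A
        · exact Or.inl (Subtype.ext h)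
        by_cases h' : x.1 = B
        · exact Or.inr (Subtype.ext h')
        obtain ⟨σ, hσ, hne⟩ := hcon x.1 x.2 h h'
        exact absurd (congrArg Subtype.val (hx ⟨σ, hσ⟩)) hne
      · rintro (rfl | rfl)
        · exact fun σ => Subtype.ext (hRA σ σ.2)
        · exact fun σ => Subtype.ext (hRB σ σ.2)
    rw [e, Set.ncard_pair fun e => hAB (congrArg Subtype.val e)]
  rw [h2] at h1
  have h3 : ProjectivePlane.order P L + 1 ≡ 0 + 1 [MOD p] :=
    Nat.ModEq.add_right 1 (Nat.modEq_zero_iff_dvd.2 hn)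
  have h4 : p ∣ 2 - 1 := (Nat.modEq_iff_dvd' (by norm_num)).1 (h3.symm.trans h1)
  exact (Fact.out : p.Prime).one_lt.ne' (Nat.dvd_one.1 h4)

theorem fixHom_eq_one {R : Subgroup (Coll P L)} (g : ↥(Subgroup.normalizer (R : Set (Coll P L))))
    (hg : (g : Coll P L) ∈ R) : fixHom R g = 1 :=
  Subtype.ext (Prod.ext (Equiv.ext fun x => Subtype.ext (x.2 _ hg)) (Equiv.ext fun x => Subtype.ext (x.2 _ hg)))

end CfsgLib.OW.PrimePow

namespace CfsgLib.OW

open Configuration PrimePow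

/-- the Sylow step of the theorem of Ostrom and Wagner -/
theorem exists_elation_of_prime_pow {P L : Type*} [Membership P L] [Configuration.ProjectivePlane P L]
    [Finite P] [Finite L] {G : Subgroup (Coll P L)} (hG : TwoTransitive G) {p e : ℕ} [Fact p.Prime]
    (hp : p ≠ 2) (hn : Configuration.ProjectivePlane.order P L = p ^ e)
    (hx : ∃ x ∈ G, x ≠ 1 ∧ (∃ k : ℕ, x ^ p ^ k = 1) ∧ ∃ (A : P) (l : L), A ∉ l ∧ x • A = A ∧ x • l = l)
    (ih : ∀ R : Subgroup (Coll P L), R ≤ G → IsPGroup p R → R ≠ ⊥ → HasQuad R →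
      TwoTransitive (P := FixP R) (L := FixL R) (fixGroup R G) → ∃ τ ∈ fixGroup R G, IsElation τ ∧ τ ^ p = 1) :
    ∃ σ ∈ G, IsElation σ := by
  classical
  by_contra hcon
  push Not at hcon
  have hpp : p.Prime := Fact.out
  have hn1 := ProjectivePlane.one_lt_order P L
  have hpn : p ∣ ProjectivePlane.order P L := by
    rw [hn]
    refine dvd_pow_self p fun h => ?_
    rw [hn, h, pow_zero] at hn1
    omega
  obtain ⟨x, hxG, hx1, ⟨k, hxk⟩, A₀, l, hA₀, hxA, hxl⟩ := hx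
  set Gl := G ⊓ MulAction.stabilizer (Coll P L) l with hGl
  obtain ⟨S, hSl, hSp, hSidx⟩ := exists_sylow_in (p := p) Gl
  have hSfl : ∀ σ ∈ S, σ • l = l := fun σ hσ => (hSl hσ).2
  -- transitivity on the points off `l`
  have hoff : {B : P | B ∉ l}.ncard = p ^ (2 * e) := by
    have h1 : {B : P | B ∈ l}.ncard + {B : P | B ∈ l}ᶜ.ncard = Nat.card P := Set.ncard_add_ncard_compl _
    have h2 : {B : P | B ∈ l}.ncard = ProjectivePlane.order P L + 1 := card_line l
    rw [card_point (L := L), h2] at h1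
    show {B : P | B ∈ l}ᶜ.ncard = _
    rw [mul_comm 2 e, pow_mul, ← hn]
    omega
  have horbA : ∀ A : P, A ∉ l → ∀ y, (∃ σ ∈ Gl, σ • A = y) ↔ y ∈ {B : P | B ∉ l} := fun A hA y => by
    constructor
    · rintro ⟨σ, hσ, rfl⟩
      show σ • A ∉ l
      rw [← (show σ • l = l from hσ.2), smul_mem_smul]
      exact hA
    · intro hy
      obtain ⟨σ, hσ, h, h'⟩ := hG.antiflag A y l l hA hy
      exact ⟨σ, ⟨hσ, h'⟩, h⟩
  have htrans : ∀ A B : P, A ∉ l → B ∉ l → ∃ σ ∈ S, σ • A = B := fun A B hA hB =>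
    (orbit_of_sylow hSl hSidx A _ (horbA A hA) hoff).1 B hB
  -- a fixed point on `l`, and transitivity on the others
  obtain ⟨V, hV, hSV⟩ : ∃ V : P, V ∈ l ∧ ∀ σ ∈ S, σ • V = V := by
    let act : MulAction S {x : P // x ∈ l} :=
      { smul := fun σ x => ⟨(σ : Coll P L) • x.1, smul_line_mem (hSfl σ σ.2) x.2⟩
        one_smul := fun x => Subtype.ext (one_smul _ x.1)
        mul_smul := fun s t x => Subtype.ext (mul_smul _ _ x.1) }
    obtain ⟨V, hV⟩ := hSp.nonempty_fixed_point_of_prime_not_dvd_card {x : P // x ∈ l} (by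
      rw [card_line]
      exact fun h => hpp.one_lt.ne' (Nat.dvd_one.1 ((Nat.dvd_add_right hpn).1 h)))
    exact ⟨V.1, V.2, fun σ hσ => congrArg Subtype.val (hV ⟨σ, hσ⟩)⟩
  have htransl : ∀ W W' : P, W ∈ l → W ≠ V → W' ∈ l → W' ≠ V → ∃ σ ∈ S, σ • W = W' := by
    intro W W' hW hWV hW' hW'V
    have hle : S ≤ Gl ⊓ MulAction.stabilizer (Coll P L) V := fun σ hσ => ⟨hSl hσ, hSV σ hσ⟩
    have hc : ({B : P | B ∈ l} \ {V}).ncard = p ^ e := by
      have h1 := Set.ncard_sdiff_singleton_add_one (show V ∈ {B : P | B ∈ l} from hV) (Set.toFinite _)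
      have h2 : {B : P | B ∈ l}.ncard = ProjectivePlane.order P L + 1 := card_line l
      omega
    refine (orbit_of_sylow hle (not_dvd_relIndex_mid hle inf_le_left hSidx) W
      ({B : P | B ∈ l} \ {V}) (fun y => ?_) hc).1 W' ⟨hW', hW'V⟩
    constructor
    · rintro ⟨σ, hσ, rfl⟩
      exact ⟨smul_line_mem hσ.1.2 hW,
        fun (e : σ • W = V) => hWV (smul_left_cancel σ (e.trans (show σ • V = V from hσ.2).symm))⟩
    · rintro ⟨hy, hyV⟩
      obtain ⟨σ, hσ, h, h'⟩ := hG V W V y (Ne.symm hWV) (Ne.symm hyV)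
      refine ⟨σ, ⟨⟨hσ, ?_⟩, h⟩, h'⟩
      refine line_eq (Ne.symm hyV) ?_ ?_ hV hy
      · rw [← h]; exact (smul_mem_smul σ).2 hV
      · rw [← h']; exact (smul_mem_smul σ).2 hW
  -- a central element
  obtain ⟨A, hA⟩ := Nondegenerate.exists_point (P := P) l
  have hSne : Nontrivial S := by
    obtain ⟨m, hm, hml, -⟩ := exists_line_through_ne V l l
    obtain ⟨B, C, -, -, hB, hC, hBC⟩ := exists_two_off (P := P) l m hml
    obtain ⟨σ, hσ, h⟩ := htrans B C hB hC
    exact ⟨⟨σ, hσ⟩, 1, fun e => hBC (by rw [← h, show σ = 1 from congrArg Subtype.val e, one_smul])⟩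
  obtain ⟨z, hz, hz1⟩ := (Subgroup.center S).ne_bot_iff_exists_ne_one.1 hSp.bot_lt_center.ne' |>
    fun ⟨z, hz⟩ => (⟨z.1, z.2, fun e => hz (Subtype.ext e)⟩ : ∃ z : S, z ∈ Subgroup.center S ∧ z ≠ 1)
  have hzS : (z : Coll P L) ∈ S := z.2
  have hzG : (z : Coll P L) ∈ G := (hSl hzS).1
  have hz1' : (z : Coll P L) ≠ 1 := fun e => hz1 (Subtype.ext e)
  have hzc : ∀ σ ∈ S, σ * (z : Coll P L) = z * σ := fun σ hσ =>
    congrArg Subtype.val (Subgroup.mem_center_iff.1 hz ⟨σ, hσ⟩)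
  have hzcs : ∀ σ ∈ S, ∀ B : P, (z : Coll P L) • (σ • B) = σ • ((z : Coll P L) • B) := fun σ hσ B => by
    rw [← mul_smul, ← hzc σ hσ, mul_smul]
  have hzA : ∀ B : P, B ∉ l → (z : Coll P L) • B ≠ B := fun B hB e => hz1' (eq_one_of_fix_off fun C hC => by
    obtain ⟨σ, hσ, rfl⟩ := htrans B C hB hC
    rw [hzcs σ hσ, e])
  have hzW : ∀ W : P, W ∈ l → W ≠ V → (z : Coll P L) • W ≠ W := fun W hW hWV e => by
    have hax : IsAxis (z : Coll P L) l := fun W' hW' => by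
      by_cases h : W' = V
      · rw [h]; exact hSV _ hzS
      · obtain ⟨σ, hσ, rfl⟩ := htransl W W' hW hWV hW' h
        rw [hzcs σ hσ, e]
    obtain ⟨C, hC⟩ := exists_centre hax
    refine hcon _ hzG ⟨C, l, ?_, hz1', hC, hax⟩
    by_contra hCl
    exact hzA C hCl hC.smul_eq
  have hzm : ∀ m : L, V ∈ m → m ≠ l → (z : Coll P L) • m ≠ m := fun m hm hml e => by
    have hce : IsCentre (z : Coll P L) V := fun j hj => by
      by_cases h : j = l
      · rw [h]; exact hSfl _ hzS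
      obtain ⟨B, -, hB, -, hBl, -⟩ := exists_two_off (P := P) l m hml
      obtain ⟨C, -, hC, -, hCl, -⟩ := exists_two_off (P := P) l j h
      obtain ⟨σ, hσ, hσB⟩ := htrans B C hBl hCl
      have hσm : σ • m = j := by
        refine line_eq (p := C) (q := V) (fun e => hCl (by rw [e]; exact hV)) ?_ ?_ hC hj
        · rw [← hσB]; exact (smul_mem_smul σ).2 hB
        · rw [← hSV σ hσ]; exact (smul_mem_smul σ).2 hm
      rw [← hσm, ← mul_smul, ← hzc σ hσ, mul_smul, e]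
    obtain ⟨a, ha⟩ := exists_axis hce
    by_cases hal : a = l
    · obtain ⟨W, hW, hWV, -⟩ := exists_point_on_ne (P := P) l V V
      exact hzW W hW hWV (ha W (hal ▸ hW))
    · obtain ⟨B, -, hB, -, hBl, -⟩ := exists_two_off (P := P) l a hal
      exact hzA B hBl (ha B hB)
  -- the point stabiliser
  set R := MulAction.stabilizer (Coll P L) A ⊓ S with hRdef
  have hRidx : ¬ p ∣ R.relIndex (MulAction.stabilizer (Coll P L) A ⊓ Gl) :=
    (orbit_of_sylow hSl hSidx A _ (horbA A hA) hoff).2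
  have hRp : IsPGroup p R := hSp.to_le inf_le_right
  have hRG : R ≤ G := fun σ hσ => (hSl hσ.2).1
  set A' := (z : Coll P L) • A with hA'def
  have hA' : A' ∉ l := by
    rw [hA'def, ← hSfl _ hzS, smul_mem_smul]
    exact hA
  have hAA' : A ≠ A' := (hzA A hA).symm
  have hRA : ∀ σ ∈ R, σ • A = A := fun σ hσ => hσ.1
  have hRA' : ∀ σ ∈ R, σ • A' = A' := fun σ hσ => by rw [hA'def, ← hzcs σ hσ.2, hRA σ hσ]
  have hRV : ∀ σ ∈ R, σ • V = V := fun σ hσ => hSV σ hσ.2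
  have hAV : A ≠ V := fun e => hA (by rw [e]; exact hV)
  obtain ⟨c, hc, -⟩ := existsUnique_join (L := L) hAV
  obtain ⟨d, hd, -⟩ := existsUnique_join (L := L) hAA'
  have hcd : c ≠ d := fun e => by
    subst e
    refine hzm c hc.2 (fun e => hA (e ▸ hc.1)) ?_
    refine line_eq (p := A') (q := V) (fun e => hA' (by rw [e]; exact hV)) ?_ ?_ hd.2 hc.2
    · exact (smul_mem_smul _).2 hc.1
    · rw [← hSV _ hzS]; exact (smul_mem_smul _).2 hc.2
  obtain ⟨C, hC, hCA, hCV, hRC⟩ := exists_third_fixed hRp hpn hAV hc.1 hc.2 hRA hRV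
  obtain ⟨D, hD, hDA, hDA', hRD⟩ := exists_third_fixed hRp hpn hAA' hd.1 hd.2 hRA hRA'
  have hq : Quad L V C A' D := by
    have k1 : ∀ m : L, V ∈ m → C ∈ m → m = c := fun m h1 h2 => line_eq hCV.symm h1 h2 hc.2 hC
    have k2 : ∀ m : L, A' ∈ m → D ∈ m → m = d := fun m h1 h2 => line_eq hDA'.symm h1 h2 hd.2 hD
    have k3 : ∀ Z : P, Z ∈ c → Z ∈ d → Z = A := fun Z h1 h2 => point_eq hcd h1 h2 hc.1 hd.1
    intro m
    refine ⟨fun ⟨h1, h2, h3⟩ => hAA'.symm (k3 A' (k1 m h1 h2 ▸ h3) hd.2),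
      fun ⟨h1, h2, h3⟩ => hDA (k3 D (k1 m h1 h2 ▸ h3) hD),
      fun ⟨h1, h2, h3⟩ => hAV.symm (k3 V hc.2 (k2 m h2 h3 ▸ h1)),
      fun ⟨h1, h2, h3⟩ => hCA (k3 C hC (k2 m h2 h3 ▸ h1))⟩
  have hquad : HasQuad R := ⟨V, C, A', D, fun σ hσ => ⟨hRV σ hσ, hRC σ hσ, hRA' σ hσ, hRD σ hσ⟩, hq⟩
  -- `R` is a Sylow subgroup of the stabiliser of every antiflag it fixes
  let stab : P → L → Subgroup (Coll P L) := fun B m =>
    G ⊓ MulAction.stabilizer (Coll P L) B ⊓ MulAction.stabilizer (Coll P L) m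
  have hstabA : MulAction.stabilizer (Coll P L) A ⊓ Gl = stab A l := by
    simp only [hGl, stab]
    rw [← inf_assoc, inf_comm (MulAction.stabilizer (Coll P L) A) G]
  rw [hstabA] at hRidx
  have hRA0 : R ≤ stab A l := fun σ hσ => ⟨⟨hRG hσ, hRA σ hσ⟩, hSfl σ hσ.2⟩
  have hconjcard : ∀ (B : P) (m : L), B ∉ m → Nat.card (stab B m) = Nat.card (stab A l) := by
    intro B m hB
    obtain ⟨σ, hσ, h, h'⟩ := hG.antiflag B A m l hB hA
    have e : (stab B m).map (MulAut.conj σ).toMonoidHom = stab A l := by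
      ext g
      constructor
      · rintro ⟨g, ⟨⟨g1, g2⟩, g3⟩, rfl⟩
        refine ⟨⟨G.mul_mem (G.mul_mem hσ g1) (G.inv_mem hσ), ?_⟩, ?_⟩
        · show (σ * g * σ⁻¹) • A = A
          rw [← h, mul_smul, mul_smul, inv_smul_smul, (show g • B = B from g2)]
        · show (σ * g * σ⁻¹) • l = l
          rw [← h', mul_smul, mul_smul, inv_smul_smul, (show g • m = m from g3)]
      · rintro ⟨⟨g1, g2⟩, g3⟩
        refine ⟨σ⁻¹ * g * σ, ⟨⟨G.mul_mem (G.mul_mem (G.inv_mem hσ) g1) hσ, ?_⟩, ?_⟩,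
          by simp [mul_assoc]⟩
        · show (σ⁻¹ * g * σ) • B = B
          rw [mul_smul, mul_smul, h, (show g • A = A from g2), ← h, inv_smul_smul]
        · show (σ⁻¹ * g * σ) • m = m
          rw [mul_smul, mul_smul, h', (show g • l = l from g3), ← h', inv_smul_smul]
    rw [← e]
    exact Nat.card_congr ((stab B m).equivMapOfInjective _ (MulAut.conj σ).injective).toEquiv
  have hsyl : ∀ (B : P) (m : L), B ∉ m → R ≤ stab B m → ¬ p ∣ R.relIndex (stab B m) := by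
    intro B m hB hle
    have h1 := Subgroup.relIndex_mul_relIndex ⊥ R (stab B m) bot_le hle
    have h2 := Subgroup.relIndex_mul_relIndex ⊥ R (stab A l) bot_le hRA0
    rw [Subgroup.relIndex_bot_left, Subgroup.relIndex_bot_left] at h1 h2
    rw [hconjcard B m hB, ← h2] at h1
    rwa [Nat.eq_of_mul_eq_mul_left Nat.card_pos h1]
  have hRne : R ≠ ⊥ := by
    intro hbot
    obtain ⟨σ, hσ, h, h'⟩ := hG.antiflag A₀ A l l hA₀ hA
    have hmem : σ * x * σ⁻¹ ∈ stab A l := by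
      refine ⟨⟨G.mul_mem (G.mul_mem hσ hxG) (G.inv_mem hσ), ?_⟩, ?_⟩
      · show (σ * x * σ⁻¹) • A = A
        rw [← h, mul_smul, mul_smul, inv_smul_smul, hxA]
      · show (σ * x * σ⁻¹) • l = l
        have e : σ⁻¹ • l = l := by rw [inv_smul_eq_iff, h']
        rw [mul_smul, mul_smul, e, hxl, h']
    apply hRidx
    rw [hbot, Subgroup.relIndex_bot_left]
    obtain ⟨j, hj, hord⟩ := (Nat.dvd_prime_pow hpp).1 (orderOf_dvd_of_pow_eq_one hxk)
    have hd : orderOf (⟨σ * x * σ⁻¹, hmem⟩ : stab A l) ∣ Nat.card (stab A l) := orderOf_dvd_natCard _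
    rw [Subgroup.orderOf_mk, show σ * x * σ⁻¹ = MulAut.conj σ x from rfl,
      (MulAut.conj σ).orderOf_eq x, hord] at hd
    refine (dvd_pow_self p fun hj0 => hx1 ?_).trans hd
    rw [← orderOf_eq_one_iff, hord, hj0, pow_zero]
  letI : ProjectivePlane (FixP R) (FixL R) := fixPlane hquad
  -- the normaliser moves fixed antiflags, and fixed points on their lines
  have hmove : ∀ (B B' : FixP R) (m m' : FixL R), B.1 ∉ m.1 → B'.1 ∉ m'.1 →
      ∃ g ∈ fixGroup R G, g • B = B' ∧ g • m = m' := by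
    intro B B' m m' hB hB'
    obtain ⟨σ, hσ, h, h'⟩ := hG.antiflag B.1 B'.1 m.1 m'.1 hB hB'
    have hle : R ≤ stab B'.1 m'.1 := fun r hr => ⟨⟨hRG hr, B'.2 r hr⟩, m'.2 r hr⟩
    obtain ⟨τ, hτ, hn⟩ := exists_normalizing hle hRp (hsyl _ _ hB' hle) (σ := σ) fun r hr => by
      refine ⟨⟨G.mul_mem (G.mul_mem hσ (hRG hr)) (G.inv_mem hσ), ?_⟩, ?_⟩
      · show (σ * r * σ⁻¹) • B'.1 = B'.1
        rw [← h, mul_smul, mul_smul, inv_smul_smul, B.2 r hr]
      · show (σ * r * σ⁻¹) • m'.1 = m'.1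
        rw [← h', mul_smul, mul_smul, inv_smul_smul, m.2 r hr]
    refine ⟨fixHom R ⟨τ * σ, hn⟩, ⟨⟨τ * σ, hn⟩, G.mul_mem hτ.1.1 hσ, rfl⟩, Subtype.ext ?_, Subtype.ext ?_⟩
    · rw [fixHom_point]
      show (τ * σ) • B.1 = B'.1
      rw [mul_smul, h]
      exact hτ.1.2
    · rw [fixHom_line]
      show (τ * σ) • m.1 = m'.1
      rw [mul_smul, h']
      exact hτ.2
  have hmove3 : ∀ (B W W' : FixP R) (m : FixL R), B.1 ∉ m.1 → W.1 ∈ m.1 → W'.1 ∈ m.1 →
      ∃ g ∈ fixGroup R G, g • B = B ∧ g • W = W' := by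
    intro B W W' m hB hW hW'
    obtain ⟨σ, hσ, h, h', h''⟩ := hG.antiflag_point B.1 W.1 W'.1 m.1 hB hW hW'
    set T := stab B.1 m.1 ⊓ MulAction.stabilizer (Coll P L) W'.1
    have hle : R ≤ stab B.1 m.1 := fun r hr => ⟨⟨hRG hr, B.2 r hr⟩, m.2 r hr⟩
    have hleT : R ≤ T := fun r hr => ⟨hle hr, W'.2 r hr⟩
    obtain ⟨τ, hτ, hn⟩ := exists_normalizing hleT hRp
      (not_dvd_relIndex_mid hleT inf_le_left (hsyl _ _ hB hle)) (σ := σ) fun r hr => by
      refine ⟨⟨⟨G.mul_mem (G.mul_mem hσ (hRG hr)) (G.inv_mem hσ), ?_⟩, ?_⟩, ?_⟩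
      · show (σ * r * σ⁻¹) • B.1 = B.1
        rw [mul_smul, mul_smul, show σ⁻¹ • B.1 = B.1 by rw [inv_smul_eq_iff, h], B.2 r hr, h]
      · show (σ * r * σ⁻¹) • m.1 = m.1
        rw [mul_smul, mul_smul, show σ⁻¹ • m.1 = m.1 by rw [inv_smul_eq_iff, h'], m.2 r hr, h']
      · show (σ * r * σ⁻¹) • W'.1 = W'.1
        rw [← h'', mul_smul, mul_smul, inv_smul_smul, W.2 r hr]
    refine ⟨fixHom R ⟨τ * σ, hn⟩, ⟨⟨τ * σ, hn⟩, G.mul_mem hτ.1.1.1 hσ, rfl⟩, Subtype.ext ?_, Subtype.ext ?_⟩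
    · rw [fixHom_point]
      show (τ * σ) • B.1 = B.1
      rw [mul_smul, h]
      exact hτ.1.1.2
    · rw [fixHom_point]
      show (τ * σ) • W.1 = W'.1
      rw [mul_smul, h'']
      exact hτ.2
  have h2t : TwoTransitive (P := FixP R) (L := FixL R) (fixGroup R G) := by
    intro p₁ p₂ q₁ q₂ hne hne'
    have line_off : ∀ B C : FixP R, B ≠ C → ∃ m : FixL R, B.1 ∉ m.1 ∧ C.1 ∈ m.1 := by
      intro B C hBC
      obtain ⟨j, hj, -⟩ := existsUnique_join (L := FixL R) hBC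
      obtain ⟨m, hm, hmj, -⟩ := exists_line_through_ne C j j
      exact ⟨m, fun e => hmj (line_eq (P := FixP R) hBC e hm hj.1 hj.2), hm⟩
    obtain ⟨m, hpm, hp₂⟩ := line_off p₁ p₂ hne
    obtain ⟨m', hqm, hq₂⟩ := line_off q₁ q₂ hne'
    obtain ⟨g, hg, hg1, hg2⟩ := hmove p₁ q₁ m m' hpm hqm
    have hmem : (g • p₂).1 ∈ m'.1 := by
      have := (smul_mem_smul g).2 (show p₂ ∈ m from hp₂)
      rwa [hg2] at this
    obtain ⟨g', hg', hg'1, hg'2⟩ := hmove3 q₁ (g • p₂) q₂ m' hqm hmem hq₂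
    exact ⟨g' * g, Subgroup.mul_mem _ hg' hg, by rw [mul_smul, hg1, hg'1], by rw [mul_smul, hg'2]⟩
  obtain ⟨τ, hτG, ⟨U, a, hUa, hτ1, hτc, hτa⟩, hτp⟩ := ih R hRG hRp hRne hquad h2t
  -- an antiflag fixed by `τ`
  obtain ⟨kk, hk, hka, -⟩ := exists_line_through_ne U a a
  obtain ⟨Z, hZ, hZU, -⟩ := exists_point_on_ne (P := FixP R) a U U
  have hZk : Z.1 ∉ kk.1 := fun e => hZU (point_eq (L := FixL R) hka e hZ hk hUa)
  obtain ⟨g, hgG, hgτ⟩ := (mem_fixGroup R).1 hτG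
  set o := orderOf g with ho
  have ho0 : o ≠ 0 := (orderOf_pos g).ne'
  set h := g ^ (ordCompl[p] o) with hh
  have hhp : h ^ (ordProj[p] o) = 1 := by
    rw [hh, ← pow_mul, mul_comm, Nat.ordProj_mul_ordCompl_eq_self, ho, pow_orderOf_eq_one]
  have hτh : fixHom R h ≠ 1 := by
    rw [hh, map_pow, hgτ]
    intro e
    have hord : orderOf τ = p := orderOf_eq_prime hτp hτ1
    have hdvd := orderOf_dvd_of_pow_eq_one e
    rw [hord] at hdvd
    exact Nat.not_dvd_ordCompl hpp ho0 hdvd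
  have hfix : (h : Coll P L) ∈ stab Z.1 kk.1 := by
    refine ⟨⟨?_, ?_⟩, ?_⟩
    · rw [hh, Subgroup.coe_pow]
      exact G.pow_mem hgG _
    · show (h : Coll P L) • Z.1 = Z.1
      rw [← fixHom_point R h Z, hh, map_pow, hgτ]
      have : ∀ j : ℕ, τ ^ j • Z = Z := fun j => by
        induction j with
        | zero => rw [pow_zero, one_smul]
        | succ j ihj => rw [pow_succ, mul_smul, hτa Z hZ, ihj]
      rw [this]
    · show (h : Coll P L) • kk.1 = kk.1
      rw [← fixHom_line R h kk, hh, map_pow, hgτ]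
      have : ∀ j : ℕ, τ ^ j • kk = kk := fun j => by
        induction j with
        | zero => rw [pow_zero, one_smul]
        | succ j ihj => rw [pow_succ, mul_smul, hτc kk hk, ihj]
      rw [this]
  set U' := R ⊔ Subgroup.zpowers (h : Coll P L) with hU'
  have hle : R ≤ stab Z.1 kk.1 := fun r hr => ⟨⟨hRG hr, Z.2 r hr⟩, kk.2 r hr⟩
  have hU'le : U' ≤ stab Z.1 kk.1 := sup_le hle (Subgroup.zpowers_le.2 hfix)
  have hzp : IsPGroup p (Subgroup.zpowers (h : Coll P L)) := by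
    intro y
    obtain ⟨i, hi⟩ := Subgroup.mem_zpowers_iff.1 y.2
    refine ⟨o.factorization p, Subtype.ext ?_⟩
    show (y : Coll P L) ^ p ^ o.factorization p = 1
    rw [← hi, ← zpow_natCast, zpow_comm, zpow_natCast, ← Subgroup.coe_pow, hhp]
    simp
  have hU'p : IsPGroup p U' :=
    hRp.to_sup_of_normal_left' hzp (Subgroup.zpowers_le.2 h.2)
  have hidx := not_dvd_relIndex_mid le_sup_left hU'le (hsyl _ _ hZk hle)
  have heq : U' ≤ R := by
    refine Subgroup.relIndex_eq_one.1 ?_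
    obtain ⟨j, hj⟩ := IsPGroup.iff_card.1 hU'p
    have h1 := Subgroup.relIndex_mul_relIndex ⊥ R U' bot_le le_sup_left
    rw [Subgroup.relIndex_bot_left, Subgroup.relIndex_bot_left, hj] at h1
    obtain ⟨i, -, hi⟩ := (Nat.dvd_prime_pow hpp).1 (Dvd.intro_left _ h1)
    rcases Nat.eq_zero_or_pos i with rfl | hi0
    · rw [hi, pow_zero]
    · exact absurd (hi ▸ dvd_pow_self p (by omega : i ≠ 0)) hidx
  exact hτh (fixHom_eq_one h (heq (Subgroup.mem_sup_right (Subgroup.mem_zpowers _))))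

end CfsgLib.OW
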