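import Cfsg.Agent.Lib.OstromWagner.Even
import Cfsg.Agent.Lib.OstromWagner.Gleason
import Cfsg.Agent.Lib.OstromWagner.Homology
import Cfsg.Agent.Lib.OstromWagner.PrimePower

/-!
# A doubly transitive group of a finite projective plane contains an elation
-/

set_option autoImplicit false
set_option linter.unusedSectionVars false

namespace CfsgLib.OW

open Configuration

universe u v

/-- induction on the order -/
theorem exists_elation_aux (n : ℕ) : ∀ (P : Type u) (L : Type v) [Membership P L] [ProjectivePlane P L]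
    [Finite P] [Finite L] (G : Subgroup (Coll P L)), TwoTransitive G → ProjectivePlane.order P L = n →
    ∃ σ ∈ G, IsElation σ := by
  induction n using Nat.strong_induction_on with
  | _ n IH =>
    intro P L _ _ _ _ G hG hn
    rcases Nat.even_or_odd (ProjectivePlane.order P L) with heven | hodd
    · exact hG.elation_of_even heven
    by_cases hper : ∃ σ ∈ G, σ ≠ 1 ∧ σ * σ = 1 ∧ ∃ (C : P) (a : L), IsPersp σ C a
    · obtain ⟨σ, hσ, -, h2, C, a, hp⟩ := hper
      exact hG.elation_of_homology hσ ⟨C, a, hp.not_mem_of_odd h2 hodd, hp⟩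
    classical
    obtain ⟨z, hzG, hz1, hz2⟩ := hG.exists_involution
    obtain ⟨hzq, -⟩ : ∃ hq : HasQuad (Subgroup.zpowers z),
        ProjectivePlane.order P L = fixOrder hq * fixOrder hq :=
      (persp_or_baer hz1 hz2).resolve_left fun ⟨C, a, hp⟩ => hper ⟨z, hzG, hz1, hz2, C, a, hp⟩
    have hzo : orderOf z = 2 := orderOf_eq_prime (by rw [pow_two, hz2]) hz1
    have : Fintype (Subgroup (Coll P L)) := Fintype.ofFinite _
    let cand : Finset (Subgroup (Coll P L)) :=
      Finset.univ.filter fun T => T ≤ G ∧ IsPGroup 2 T ∧ HasQuad T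
    have hzc : Subgroup.zpowers z ∈ cand := Finset.mem_filter.mpr ⟨Finset.mem_univ _, Subgroup.zpowers_le.mpr hzG,
      IsPGroup.of_card (n := 1) (by rw [Nat.card_zpowers, pow_one, hzo]), hzq⟩
    obtain ⟨Q, hQc, hQmax⟩ := cand.exists_max_image (fun T => Nat.card T) ⟨_, hzc⟩
    obtain ⟨hQG, hQ2, hq⟩ := (Finset.mem_filter.mp hQc).2
    have hmax : ∀ T : Subgroup (Coll P L), T ≤ G → IsPGroup 2 T → HasQuad T → Nat.card T ≤ Nat.card Q :=
      fun T h1 h2 h3 => hQmax T (Finset.mem_filter.mpr ⟨Finset.mem_univ _, h1, h2, h3⟩)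
    let := fixPlane hq
    obtain ⟨p, e, hp, hq', τ, hτH, ⟨U, a, hUa, hτ⟩, hτp⟩ := primePow_and_elation (fixGroup Q G)
      (fixOrder_odd hG hodd hQG hQ2 hq hmax)
      (fun σ h h1 h2 => involution_isHomology hG hodd hQG hQ2 hq hmax h h1 h2)
      (fun A B h => exists_involution_pair hG hodd hQG hQ2 hq hmax A B h)
      (fun A B h => exists_involution_pairL hG hodd hQG hQ2 hq hmax A B h)
      (fun C b h => exists_involution_antiflag hG hodd hQG hQ2 hq hmax C b h)
    have : Fact p.Prime := ⟨hp⟩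
    obtain ⟨j, hj⟩ := order_eq_fixOrder_pow (Nat.card Q) P L Q hq hQ2 le_rfl
    have hpow : ProjectivePlane.order P L = p ^ (e * 2 ^ j) := by
      rw [hj, pow_mul, ← hq']; rfl
    have hp2 : p ≠ 2 := by
      rintro rfl
      have h1 := Nat.not_even_iff_odd.mpr hodd
      rw [hpow] at h1
      refine h1 (even_iff_two_dvd.mpr (dvd_pow_self 2 fun h0 => ?_))
      rw [h0, pow_zero] at hpow
      exact absurd hpow (ProjectivePlane.one_lt_order P L).ne'
    refine exists_elation_of_prime_pow hG hp2 hpow ?_ ?_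
    · -- lift the elation of the subplane
      obtain ⟨g, hgG, rfl⟩ := hτH
      have hgpos : orderOf g ≠ 0 := (isOfFinOrder_of_finite g).orderOf_pos.ne'
      obtain ⟨i, r, hr, ho⟩ := Nat.exists_eq_pow_mul_and_not_dvd hgpos p hp.one_lt.ne'
      have hτr : fixHom Q g ^ r ≠ 1 := fun h => by
        have h1 : orderOf (fixHom Q g) = p := orderOf_eq_prime hτp hτ.1
        exact hr (h1 ▸ orderOf_dvd_of_pow_eq_one h)
      obtain ⟨A, hA, hAU, -⟩ := exists_point_on_ne (P := FixP Q) a U U
      obtain ⟨m, hm, hma, -⟩ := exists_line_through_ne (L := FixL Q) U a a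
      have hAm : A ∉ m := fun h => hAU (point_eq hma h hA hm hUa)
      have hA' : fixHom Q g ^ r • A = A :=
        Subgroup.pow_mem (MulAction.stabilizer _ A) (show fixHom Q g ∈ _ from hτ.2.2 A hA) r
      have hm' : fixHom Q g ^ r • m = m :=
        Subgroup.pow_mem (MulAction.stabilizer _ m) (show fixHom Q g ∈ _ from hτ.2.1 m hm) r
      rw [← map_pow] at hA' hm'
      refine ⟨((g ^ r : ↥(Subgroup.normalizer (Q : Set (Coll P L)))) : Coll P L), ?_, ?_, ⟨i, ?_⟩, A.1, m.1, hAm,
        congrArg Subtype.val hA', congrArg Subtype.val hm'⟩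
      · rw [SubmonoidClass.coe_pow]; exact G.pow_mem hgG r
      · intro h
        apply hτr
        rw [← map_pow, show g ^ r = 1 from Subtype.ext h, map_one]
      · rw [← SubmonoidClass.coe_pow, ← pow_mul, mul_comm, ← ho, pow_orderOf_eq_one]; rfl
    · -- smaller planes
      intro R hRG hR2 hRne hRq htt
      let := fixPlane hRq
      have hlt : fixOrder hRq < n := hn ▸ fixOrder_lt hRq hRne
      obtain ⟨σ, hσ, hel⟩ := IH _ hlt (FixP R) (FixL R) (fixGroup R G) htt rfl
      obtain ⟨p', e', hp', hr', -, hord⟩ := gleason (fixGroup R G) htt.flag ⟨σ, hσ, hel⟩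
      have hdvd : p ∣ fixOrder hRq := by
        rw [Nat.ModEq.dvd_iff (fixOrder_modEq hRq hR2) dvd_rfl, hpow]
        refine dvd_pow_self p fun h0 => ?_
        rw [h0, pow_zero] at hpow
        exact absurd hpow (ProjectivePlane.one_lt_order P L).ne'
      have hr'' : fixOrder hRq = p' ^ e' := hr'
      rw [hr''] at hdvd
      have hpp : p' = p := ((Nat.prime_dvd_prime_iff_eq hp hp').mp (hp.dvd_of_dvd_pow hdvd)).symm
      exact ⟨σ, hσ, hel, hpp ▸ hord σ hσ hel⟩

theorem exists_elation {P : Type u} {L : Type v} [Membership P L] [ProjectivePlane P L] [Finite P] [Finite L]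
    {G : Subgroup (Coll P L)} (hG : TwoTransitive G) : ∃ σ ∈ G, IsElation σ :=
  exists_elation_aux _ P L G hG rfl

end CfsgLib.OW
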