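import Cfsg.Agent.Lib.OstromWagner.Basic
import Mathlib.GroupTheory.GroupAction.Quotient
import Mathlib.GroupTheory.Perm.Cycle.Type

/-!
# Perspectivities: centres and axes, duality, elation groups
-/

set_option autoImplicit false
set_option linter.unusedSectionVars false

namespace CfsgLib.OW

open Configuration

variable {P L : Type*} [Membership P L]

section Dual

/-- a collineation as a collineation of the dual plane -/
def collDual : Coll P L ≃* Coll (Dual L) (Dual P) where
  toFun σ := ⟨(σ.1.2, σ.1.1), fun l p => σ.2 p l⟩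
  invFun σ := ⟨(σ.1.2, σ.1.1), fun p l => σ.2 l p⟩
  left_inv _ := rfl
  right_inv _ := rfl
  map_mul' _ _ := rfl

theorem collDual_smul_line (σ : Coll P L) (l : L) :
    (collDual σ • (id l : Dual L) : Dual L) = (σ • l : L) := rfl

theorem collDual_smul_point (σ : Coll P L) (p : P) :
    (collDual σ • (id p : Dual P) : Dual P) = (σ • p : P) := rfl

theorem isAxis_collDual (σ : Coll P L) (C : P) :
    IsAxis (P := Dual L) (L := Dual P) (collDual σ) C ↔ IsCentre σ C := Iff.rfl

theorem isCentre_collDual (σ : Coll P L) (a : L) :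
    IsCentre (P := Dual L) (L := Dual P) (collDual σ) a ↔ IsAxis σ a := Iff.rfl

theorem isPersp_collDual (σ : Coll P L) (C : P) (a : L) :
    IsPersp (P := Dual L) (L := Dual P) (collDual σ) a C ↔ IsPersp σ C a := by
  constructor
  · rintro ⟨h1, h2, h3⟩
    exact ⟨fun e => h1 (by rw [e]; rfl), h3, h2⟩
  · rintro ⟨h1, h2, h3⟩
    exact ⟨fun e => h1 (collDual.injective (e.trans (map_one collDual).symm)), h3, h2⟩

theorem isElation_collDual (σ : Coll P L) :
    IsElation (collDual σ) ↔ IsElation σ :=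
  ⟨fun ⟨a, C, h1, h2⟩ => ⟨C, a, h1, (isPersp_collDual σ C a).mp h2⟩,
    fun ⟨C, a, h1, h2⟩ => ⟨a, C, h1, (isPersp_collDual σ C a).mpr h2⟩⟩

theorem isHomology_collDual (σ : Coll P L) :
    IsHomology (collDual σ) ↔ IsHomology σ :=
  ⟨fun ⟨a, C, h1, h2⟩ => ⟨C, a, h1, (isPersp_collDual σ C a).mp h2⟩,
    fun ⟨C, a, h1, h2⟩ => ⟨a, C, h1, (isPersp_collDual σ C a).mpr h2⟩⟩

end Dual

section Parity

theorem even_card_of_involutive {α : Type*} [Finite α] (f : α → α) (hf : ∀ x, f (f x) = x)
    (hfix : ∀ x, f x ≠ x) : Even (Nat.card α) := by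
  classical
  cases nonempty_fintype α
  have h : (∑ _x : α, (1 : ZMod 2)) = 0 :=
    Finset.sum_involution (fun x _ => f x) (fun _ _ => by decide) (fun x _ _ => hfix x)
      (fun x _ => Finset.mem_univ _) (fun x _ => hf x)
  rw [Finset.sum_const, Finset.card_univ, nsmul_eq_mul, mul_one] at h
  rw [Nat.card_eq_fintype_card, even_iff_two_dvd]
  exact (ZMod.natCast_eq_zero_iff_even.mp h).two_dvd

end Parity

variable [ProjectivePlane P L]

theorem smul_line_mem {σ : Coll P L} {l : L} (h : σ • l = l) {p : P} (hp : p ∈ l) : σ • p ∈ l := by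
  have := (smul_mem_smul σ).mpr hp
  rwa [h] at this

theorem exists_point_off_two (l m : L) [Finite P] [Finite L] : ∃ p : P, p ∉ l ∧ p ∉ m := by
  by_cases h : l = m
  · obtain ⟨p, hp⟩ := Nondegenerate.exists_point (P := P) l
    exact ⟨p, hp, h ▸ hp⟩
  obtain ⟨x, hx, -⟩ := existsUnique_meet (P := P) h
  have two : ∀ k : L, ∃ p : P, p ∈ k ∧ p ≠ x := fun k => by
    have h2 : 1 < Nat.card {p : P // p ∈ k} := by
      have := ProjectivePlane.two_lt_pointCount P k; unfold pointCount at this; omega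
    rw [Finite.one_lt_card_iff_nontrivial] at h2
    obtain ⟨u, v, huv⟩ := h2
    by_cases hu : u.1 = x
    · exact ⟨v.1, v.2, fun e => huv (Subtype.ext (hu.trans e.symm))⟩
    · exact ⟨u.1, u.2, hu⟩
  obtain ⟨A, hA⟩ := two l
  obtain ⟨B, hB⟩ := two m
  have hAm : A ∉ m := fun e => hA.2 (point_eq h hA.1 e hx.1 hx.2)
  have hBl : B ∉ l := fun e => hB.2 (point_eq h e hB.1 hx.1 hx.2)
  have hAB : A ≠ B := fun e => hBl (e ▸ hA.1)
  obtain ⟨k, hk, -⟩ := existsUnique_join (L := L) hAB
  have h3 := ProjectivePlane.two_lt_pointCount P k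
  by_contra hc
  push Not at hc
  have : ∀ p : {p : P // p ∈ k}, p.1 = A ∨ p.1 = B := fun p => by
    by_cases hpl : p.1 ∈ l
    · exact .inl (point_eq (fun e => hBl (by rw [← e]; exact hk.2)) p.2 hpl hk.1 hA.1)
    · exact .inr (point_eq (fun e => hAm (by rw [← e]; exact hk.1)) p.2 (hc p.1 hpl) hk.2 hB.1)
  have hle : Nat.card {p : P // p ∈ k} ≤ 2 := by
    rw [← Nat.card_fin 2]
    classical
    exact Nat.card_le_card_of_injective (fun p => if p.1 = A then (0 : Fin 2) else 1) fun p q hpq => by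
      rcases this p with hp | hp <;> rcases this q with hq | hq <;>
        simp [hp, hq, hAB.symm] at hpq <;> exact Subtype.ext (hp.trans hq.symm)
  unfold pointCount at h3
  omega

theorem exists_line_off_two (A B : P) [Finite P] [Finite L] : ∃ l : L, A ∉ l ∧ B ∉ l :=
  exists_point_off_two (P := Dual L) (L := Dual P) A B

/-- a line has a point different from two given ones -/
theorem exists_point_on_ne (k : L) (A B : P) [Finite P] [Finite L] : ∃ p : P, p ∈ k ∧ p ≠ A ∧ p ≠ B := by
  classical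
  by_contra hc
  push Not at hc
  have h3 := ProjectivePlane.two_lt_pointCount P k
  have hle : Nat.card {p : P // p ∈ k} ≤ 2 := by
    rw [← Nat.card_fin 2]
    exact Nat.card_le_card_of_injective (fun p => if p.1 = A then (0 : Fin 2) else 1) fun p q hpq => by
      by_cases hp : p.1 = A <;> by_cases hq : q.1 = A <;> simp [hp, hq] at hpq
      · exact Subtype.ext (hp.trans hq.symm)
      · exact Subtype.ext ((hc p.1 p.2 hp).trans (hc q.1 q.2 hq).symm)
  unfold pointCount at h3
  omega

theorem exists_line_through_ne (A : P) (k m : L) [Finite P] [Finite L] :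
    ∃ l : L, A ∈ l ∧ l ≠ k ∧ l ≠ m :=
  exists_point_on_ne (P := Dual L) (L := Dual P) A k m

/-- a collineation with an axis has a centre -/
theorem exists_centre {σ : Coll P L} {a : L} (ha : IsAxis σ a) : ∃ C : P, IsCentre σ C := by
  by_cases hoff : ∃ X : P, X ∉ a ∧ σ • X = X
  · obtain ⟨X, hXa, hX⟩ := hoff
    refine ⟨X, fun l hl => ?_⟩
    obtain ⟨Y, hY, -⟩ := existsUnique_meet (P := P) (l := l) (m := a) (fun e => hXa (e ▸ hl))
    exact smul_join_eq (fun e => hXa (by rw [e]; exact hY.2)) hX (ha Y hY.2) hl hY.1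
  push Not at hoff
  -- the line through a moved point and its image is fixed
  have key : ∀ A : P, A ∉ a → ∃ c : L, A ∈ c ∧ σ • c = c ∧ c ≠ a := fun A hA => by
    obtain ⟨c, hc, -⟩ := existsUnique_join (L := L) (hoff A hA).symm
    have hca : c ≠ a := fun e => hA (e ▸ hc.1)
    obtain ⟨Y, hY, -⟩ := existsUnique_meet (P := P) hca
    have hσA : σ • A ∉ a := fun e => hA (by
      have h1 := ha _ e
      rwa [smul_left_cancel σ h1] at e)
    refine ⟨c, hc.1, line_eq (fun e => hσA (by rw [e]; exact hY.2))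
      ((smul_mem_smul σ).mpr hc.1) ?_ hc.2 hY.1, hca⟩
    have := (smul_mem_smul σ).mpr hY.1
    rwa [ha Y hY.2] at this
  -- any two fixed lines different from `a` meet on `a`
  have meet : ∀ c d : L, σ • c = c → σ • d = d → c ≠ d → ∀ X : P, X ∈ c → X ∈ d → X ∈ a :=
    fun c d hc hd hcd X hXc hXd => by
      by_contra hX
      exact hoff X hX (smul_meet_eq hcd hc hd hXc hXd)
  obtain ⟨A, hA⟩ := Nondegenerate.exists_point (P := P) a
  obtain ⟨c, hAc, hc, hca⟩ := key A hA
  obtain ⟨U, hU, -⟩ := existsUnique_meet (P := P) hca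
  refine ⟨U, fun l hl => ?_⟩
  by_cases hla : l = a
  · subst hla
    obtain ⟨d, hd⟩ : ∃ d : L, σ • d = d ∧ d = l := by
      have hal : σ • l = l := by
        have h2 : ∃ V : P, V ∈ l ∧ V ≠ U := by
          by_contra hne
          push Not at hne
          obtain ⟨m, hm⟩ := exists_join (L := L) A U
          obtain ⟨r, hr⟩ := Nondegenerate.exists_line (P := P) (L := L) U
          obtain ⟨V, hV, -⟩ := existsUnique_meet (P := P) (l := l) (m := r) (fun e => hr (e ▸ hU.2))
          exact hr (hne V hV.1 ▸ hV.2)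
        obtain ⟨V, hV, hVU⟩ := h2
        exact smul_join_eq hVU (ha V hV) (ha U hU.2) hV hU.2
      exact ⟨l, hal, rfl⟩
    exact hd.2 ▸ hd.1
  · -- a point of `l` off `a`
    obtain ⟨B, hBl, hBU⟩ : ∃ B : P, B ∈ l ∧ B ≠ U := by
      obtain ⟨r, hr⟩ := Nondegenerate.exists_line (P := P) (L := L) U
      obtain ⟨V, hV, -⟩ := existsUnique_meet (P := P) (l := l) (m := r) (fun e => hr (e ▸ hl))
      exact ⟨V, hV.1, fun e => hr (e ▸ hV.2)⟩
    have hBa : B ∉ a := fun e => hBU (point_eq hla hBl e hl hU.2)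
    obtain ⟨d, hBd, hd, hda⟩ := key B hBa
    obtain ⟨V, hV, -⟩ := existsUnique_meet (P := P) hda
    by_cases hdc : d = c
    · subst hdc
      rw [line_eq hBU hBl hl hBd hU.1]
      exact hd
    obtain ⟨X, hX, -⟩ := existsUnique_meet (P := P) hdc
    have hXa := meet d c hd hc hdc X hX.1 hX.2
    have hXU : X = U := point_eq hca hX.2 hXa hU.1 hU.2
    rw [line_eq hBU hBl hl hBd (hXU ▸ hX.1)]
    exact hd

/-- a collineation with a centre has an axis -/
theorem exists_axis {σ : Coll P L} {C : P} (hC : IsCentre σ C) : ∃ a : L, IsAxis σ a :=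
  exists_centre (P := Dual L) (L := Dual P) (σ := collDual σ) (a := C) hC

variable [Finite P] [Finite L]

/-- the fixed points of a perspectivity are the centre and the points of the axis -/
theorem IsPersp.point_of_smul_eq {σ : Coll P L} {C X : P} {a : L} (h : IsPersp σ C a)
    (hX : σ • X = X) : X ∈ a ∨ X = C := by
  by_contra hc
  push Not at hc
  obtain ⟨hXa, hXC⟩ := hc
  have hfixX : ∀ l : L, X ∈ l → σ • l = l := fun l hl => by
    obtain ⟨Y, hY, -⟩ := existsUnique_meet (P := P) (l := l) (m := a) (fun e => hXa (e ▸ hl))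
    exact smul_join_eq (fun e => hXa (by rw [e]; exact hY.2)) hX (h.2.2 Y hY.2) hl hY.1
  obtain ⟨j, hj, -⟩ := existsUnique_join (L := L) hXC
  have hoffj : ∀ Z : P, Z ∉ j → σ • Z = Z := fun Z hZ => by
    obtain ⟨l, hl, -⟩ := existsUnique_join (L := L) (p := Z) (q := X) (fun e => hZ (e ▸ hj.1))
    obtain ⟨m, hm, -⟩ := existsUnique_join (L := L) (p := Z) (q := C) (fun e => hZ (e ▸ hj.2))
    refine smul_meet_eq (fun e => hZ ?_) (hfixX l hl.2) (h.2.1 m hm.2) hl.1 hm.1
    rw [← line_eq hXC hl.2 (e.symm ▸ hm.2) hj.1 hj.2]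
    exact hl.1
  refine h.1 (eq_one_of_forall_point fun Z => ?_)
  by_cases hZ : Z ∈ j
  · obtain ⟨A, hAj, hAa⟩ := exists_point_off_two (P := P) j a
    obtain ⟨l, hl, -⟩ := existsUnique_join (L := L) (p := A) (q := Z) (fun e => hAj (e ▸ hZ))
    obtain ⟨Y, hY, -⟩ := existsUnique_meet (P := P) (l := l) (m := a) (fun e => hAa (e ▸ hl.1))
    have hlfix : σ • l = l :=
      smul_join_eq (fun e => hAa (by rw [e]; exact hY.2)) (hoffj A hAj) (h.2.2 Y hY.2) hl.1 hY.1
    exact smul_meet_eq (fun e => hAj (by rw [← e]; exact hl.1)) hlfix (hfixX j hj.1) hl.2 hZ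
  · exact hoffj Z hZ

/-- the fixed lines of a perspectivity are the axis and the lines through the centre -/
theorem IsPersp.line_of_smul_eq {σ : Coll P L} {C : P} {a l : L} (h : IsPersp σ C a)
    (hl : σ • l = l) : C ∈ l ∨ l = a :=
  IsPersp.point_of_smul_eq (P := Dual L) (L := Dual P) ((isPersp_collDual σ C a).mpr h) hl

omit [Finite P] [Finite L] in
/-- a centre is a fixed point -/
theorem IsCentre.smul_eq {σ : Coll P L} {C : P} (h : IsCentre σ C) : σ • C = C := by
  obtain ⟨r, hr⟩ := Nondegenerate.exists_line (P := P) (L := L) C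
  obtain ⟨a, b, c, l₁, l₂, l₃, h1, h13, -, h2, h2', -, h3, -⟩ := @ProjectivePlane.exists_config P L _ _
  -- two distinct lines through `C`
  obtain ⟨l, m, hl, hm, hlm⟩ : ∃ l m : L, C ∈ l ∧ C ∈ m ∧ l ≠ m := by
    obtain ⟨Z, hZ⟩ := Nondegenerate.exists_point (P := P) r
    obtain ⟨l, hl⟩ := exists_join (L := L) C Z
    by_cases hall : ∀ Y : P, Y ∈ r → Y ∈ l
    · obtain ⟨u, hu⟩ : ∃ u : P, u ∈ r := by
        by_cases hlr : l = r
        · exact ⟨C, hlr ▸ hl.1⟩
        · obtain ⟨x, hx, -⟩ := existsUnique_meet (P := P) hlr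
          exact ⟨x, hx.2⟩
      obtain ⟨q, hq⟩ := Nondegenerate.exists_point (P := P) l
      obtain ⟨m, hm⟩ := exists_join (L := L) C q
      exact ⟨l, m, hl.1, hm.1, fun e => hq (by rw [e]; exact hm.2)⟩
    · push Not at hall
      obtain ⟨Y, hY, hYl⟩ := hall
      obtain ⟨m, hm⟩ := exists_join (L := L) C Y
      exact ⟨l, m, hl.1, hm.1, fun e => hYl (by rw [e]; exact hm.2)⟩
  exact smul_meet_eq hlm (h l hl) (h m hm) hl hm

omit [Finite P] [Finite L] in
/-- an axis is a fixed line -/
theorem IsAxis.smul_eq {σ : Coll P L} {a : L} (h : IsAxis σ a) : σ • a = a :=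
  IsCentre.smul_eq (P := Dual L) (L := Dual P) (σ := collDual σ) (C := a) h

/-- the centre is unique -/
theorem IsPersp.centre_unique {σ : Coll P L} {C C' : P} {a : L} (h : IsPersp σ C a)
    (h' : IsCentre σ C') : C' = C := by
  by_contra hne
  obtain ⟨j, hj, -⟩ := existsUnique_join (L := L) hne
  obtain ⟨l, hl, hlj, hla⟩ := exists_line_through_ne C' j a
  exact (h.line_of_smul_eq (h' l hl)).elim (fun hC => hlj (line_eq hne hl hC hj.1 hj.2)) hla

/-- the axis is unique -/
theorem IsPersp.axis_unique {σ : Coll P L} {C : P} {a a' : L} (h : IsPersp σ C a)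
    (h' : IsAxis σ a') : a' = a :=
  IsPersp.centre_unique (P := Dual L) (L := Dual P) ((isPersp_collDual σ C a).mpr h) h'

/-- the line through a moved point and its image contains the centre -/
theorem IsPersp.centre_mem {σ : Coll P L} {C X : P} {a l : L} (h : IsPersp σ C a) (hX : σ • X ≠ X)
    (hl : X ∈ l) (hl' : σ • X ∈ l) : C ∈ l := by
  by_cases hXC : X = C
  · exact hXC ▸ hl
  obtain ⟨m, hm, -⟩ := existsUnique_join (L := L) hXC
  rw [line_eq hX hl' hl (smul_line_mem (h.2.1 m hm.2) hm.1) hm.1]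
  exact hm.2

/-- two perspectivities with one centre and axis that agree at a further point are equal -/
theorem eq_of_smul_eq {σ τ : Coll P L} {C X : P} {a : L} (hs : IsCentre σ C) (hs' : IsAxis σ a)
    (ht : IsCentre τ C) (ht' : IsAxis τ a) (hXa : X ∉ a) (hXC : X ≠ C) (hX : σ • X = τ • X) :
    σ = τ := by
  by_contra hne
  have hp : IsPersp (τ⁻¹ * σ) C a :=
    ⟨fun e => hne (inv_mul_eq_one.mp e).symm, ht.inv.mul hs, ht'.inv.mul hs'⟩
  have := hp.point_of_smul_eq (X := X) (by rw [mul_smul, hX, inv_smul_smul])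
  exact this.elim hXa hXC

theorem mul_self_smul {σ : Coll P L} (h : σ * σ = 1) (X : P) : σ • σ • X = X := by
  rw [← mul_smul, h, one_smul]

/-- in odd order an involutory perspectivity is a homology -/
theorem IsPersp.not_mem_of_odd {σ : Coll P L} {C : P} {a : L} (h : IsPersp σ C a) (hσ : σ * σ = 1)
    (hodd : Odd (ProjectivePlane.order P L)) : C ∉ a := by
  intro hCa
  obtain ⟨l, hl, hla, -⟩ := exists_line_through_ne C a a
  classical
  cases nonempty_fintype P
  have hfix : σ • l = l := h.2.1 l hl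
  let f : {p : P // p ∈ l ∧ p ≠ C} → {p : P // p ∈ l ∧ p ≠ C} := fun p =>
    ⟨σ • p.1, smul_line_mem hfix p.2.1, fun e => p.2.2 (smul_left_cancel σ (e.trans (h.2.2 C hCa).symm))⟩
  have heven : Even (Nat.card {p : P // p ∈ l ∧ p ≠ C}) := by
    refine even_card_of_involutive f (fun p => Subtype.ext (mul_self_smul hσ p.1)) fun p e => ?_
    rcases h.point_of_smul_eq (congrArg Subtype.val e) with hp | hp
    · exact p.2.2 (point_eq hla p.2.1 hp hl hCa)
    · exact p.2.2 hp
  have hc : Nat.card {p : P // p ∈ l ∧ p ≠ C} + 1 = ProjectivePlane.order P L + 1 := by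
    rw [← card_line l]
    show Set.ncard ({p : P | p ∈ l} \ {C}) + 1 = Set.ncard {p : P | p ∈ l}
    exact Set.ncard_sdiff_singleton_add_one hl (Set.toFinite _)
  rw [Nat.add_right_cancel hc] at heven
  exact (Nat.not_even_iff_odd.mpr hodd) heven

/-- in even order an involutory perspectivity is an elation -/
theorem IsPersp.mem_of_even {σ : Coll P L} {C : P} {a : L} (h : IsPersp σ C a) (hσ : σ * σ = 1)
    (heven : Even (ProjectivePlane.order P L)) : C ∈ a := by
  by_contra hCa
  obtain ⟨l, hl, hla, -⟩ := exists_line_through_ne C a a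
  classical
  cases nonempty_fintype P
  obtain ⟨Y, hY, -⟩ := existsUnique_meet (P := P) hla
  have hYC : Y ≠ C := fun e => hCa (e ▸ hY.2)
  have hfix : σ • l = l := h.2.1 l hl
  have hC : σ • C = C := by
    obtain ⟨m, hm, hml, -⟩ := exists_line_through_ne C l l
    exact smul_meet_eq hml (h.2.1 m hm) hfix hm hl
  have hYfix : σ • Y = Y := h.2.2 Y hY.2
  let f : {p : P // p ∈ l ∧ p ≠ C ∧ p ≠ Y} → {p : P // p ∈ l ∧ p ≠ C ∧ p ≠ Y} := fun p =>
    ⟨σ • p.1, smul_line_mem hfix p.2.1, fun e => p.2.2.1 (smul_left_cancel σ (e.trans hC.symm)),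
      fun e => p.2.2.2 (smul_left_cancel σ (e.trans hYfix.symm))⟩
  have hev : Even (Nat.card {p : P // p ∈ l ∧ p ≠ C ∧ p ≠ Y}) := by
    refine even_card_of_involutive f (fun p => Subtype.ext (mul_self_smul hσ p.1)) fun p e => ?_
    rcases h.point_of_smul_eq (congrArg Subtype.val e) with hp | hp
    · exact p.2.2.2 (point_eq hla p.2.1 hp hY.1 hY.2)
    · exact p.2.2.1 hp
  have hc : Nat.card {p : P // p ∈ l ∧ p ≠ C ∧ p ≠ Y} + 2 = ProjectivePlane.order P L + 1 := by
    rw [← card_line l]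
    show Set.ncard {p : P | p ∈ l ∧ p ≠ C ∧ p ≠ Y} + 2 = Set.ncard {p : P | p ∈ l}
    have h1 : {p : P | p ∈ l ∧ p ≠ C ∧ p ≠ Y} = ({p : P | p ∈ l} \ {C}) \ {Y} := by
      ext p; simp [and_assoc]
    have hC' : C ∈ {p : P | p ∈ l} := hl
    have hY' : Y ∈ {p : P | p ∈ l} \ {C} := ⟨hY.1, hYC⟩
    rw [h1, ← Set.ncard_sdiff_singleton_add_one hC' (Set.toFinite _),
      ← Set.ncard_sdiff_singleton_add_one hY' (Set.toFinite _)]
  rcases heven with ⟨k, hk⟩
  rcases hev with ⟨m, hm⟩
  omega

section ElationGroups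

variable (G : Subgroup (Coll P L))

/-- the collineations of `G` with axis `a` -/
def axisGroup (a : L) : Subgroup (Coll P L) where
  carrier := {σ | σ ∈ G ∧ IsAxis σ a}
  one_mem' := ⟨G.one_mem, IsAxis.one a⟩
  mul_mem' := fun hx hy => ⟨G.mul_mem hx.1 hy.1, hx.2.mul hy.2⟩
  inv_mem' := fun hx => ⟨G.inv_mem hx.1, hx.2.inv⟩

/-- the elations of `G` with axis `a`, and the identity -/
def elAxis (a : L) : Subgroup (Coll P L) where
  carrier := {σ | σ ∈ G ∧ IsAxis σ a ∧ (σ = 1 ∨ ∃ U : P, U ∈ a ∧ IsCentre σ U)}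
  one_mem' := ⟨G.one_mem, IsAxis.one a, .inl rfl⟩
  mul_mem' := by
    rintro σ τ ⟨hσG, hσa, hσ⟩ ⟨hτG, hτa, hτ⟩
    refine ⟨G.mul_mem hσG hτG, hσa.mul hτa, ?_⟩
    rcases hσ with rfl | ⟨U', hU'a, hU'⟩
    · rw [one_mul]; exact hτ
    rcases hτ with rfl | ⟨U, hUa, hU⟩
    · rw [mul_one]; exact .inr ⟨U', hU'a, hU'⟩
    by_cases h1 : σ * τ = 1
    · exact .inl h1
    obtain ⟨C, hC⟩ := exists_centre (hσa.mul hτa)
    refine .inr ⟨C, ?_, hC⟩
    by_contra hCa
    have hp : IsPersp (σ * τ) C a := ⟨h1, hC, hσa.mul hτa⟩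
    have hfix : (σ * τ) • C = C := by
      obtain ⟨l, hl, -, -⟩ := exists_line_through_ne C a a
      obtain ⟨m, hm, hml, -⟩ := exists_line_through_ne C l l
      exact smul_meet_eq hml (hC m hm) (hC l hl) hm hl
    rw [mul_smul] at hfix
    by_cases hτ1 : τ = 1
    · subst hτ1
      rw [one_smul] at hfix
      rw [mul_one] at h1
      exact ((IsPersp.point_of_smul_eq ⟨h1, hU', hσa⟩ hfix).elim hCa fun e => hCa (by rw [e]; exact hU'a))
    by_cases hσ1 : σ = 1
    · subst hσ1
      rw [one_smul] at hfix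
      exact ((IsPersp.point_of_smul_eq ⟨hτ1, hU, hτa⟩ hfix).elim hCa fun e => hCa (by rw [e]; exact hUa))
    have hτC : τ • C ≠ C := fun e =>
      (IsPersp.point_of_smul_eq ⟨hτ1, hU, hτa⟩ e).elim hCa fun e' => hCa (by rw [e']; exact hUa)
    obtain ⟨l, hl, -⟩ := existsUnique_join (L := L) hτC
    have hUl : U ∈ l := IsPersp.centre_mem ⟨hτ1, hU, hτa⟩ hτC hl.2 hl.1
    have hU'l : U' ∈ l := by
      refine IsPersp.centre_mem (X := τ • C) ⟨hσ1, hU', hσa⟩ ?_ hl.1 ?_
      · rw [hfix]; exact hτC.symm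
      · rw [hfix]; exact hl.2
    have hUU : U' = U := point_eq (fun e => hCa (by rw [← e]; exact hl.2)) hU'l hU'a hUl hUa
    subst hUU
    exact hCa (by rw [← hp.centre_unique (hU'.mul hU)]; exact hUa)
  inv_mem' := by
    rintro σ ⟨hσG, hσa, hσ⟩
    refine ⟨G.inv_mem hσG, hσa.inv, hσ.imp (fun e => by rw [e, inv_one]) ?_⟩
    rintro ⟨U, hUa, hU⟩
    exact ⟨U, hUa, hU.inv⟩

variable {G}

theorem mem_elAxis {a : L} {σ : Coll P L} :
    σ ∈ elAxis G a ↔ σ ∈ G ∧ IsAxis σ a ∧ (σ = 1 ∨ ∃ U : P, U ∈ a ∧ IsCentre σ U) := Iff.rfl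

/-- a non-identity element of `elAxis` fixes no point off the axis -/
theorem elAxis_free {a : L} {σ : Coll P L} {X : P} (hσ : σ ∈ elAxis G a) (hXa : X ∉ a)
    (hX : σ • X = X) : σ = 1 := by
  rcases hσ.2.2 with h | ⟨U, hUa, hU⟩
  · exact h
  by_contra hne
  exact (IsPersp.point_of_smul_eq ⟨hne, hU, hσ.2.1⟩ hX).elim hXa fun e => hXa (by rw [e]; exact hUa)

/-- a perspectivity fixing a line maps it to itself; conjugation by elements of `G` fixing `a` -/
theorem elAxis_conj_mem {a : L} {σ g : Coll P L} (hσ : σ ∈ elAxis G a) (hg : g ∈ G) :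
    g * σ * g⁻¹ ∈ elAxis G (g • a) :=
  ⟨G.mul_mem (G.mul_mem hg hσ.1) (G.inv_mem hg), hσ.2.1.conj g,
    hσ.2.2.imp (fun e => by rw [e]; group) fun ⟨U, hUa, hU⟩ =>
      ⟨g • U, (smul_mem_smul g).mpr hUa, hU.conj g⟩⟩

/-- elations with one axis and different centres commute -/
theorem commute_of_centre_ne {a : L} {x y : Coll P L} {U V : P} (hx : IsCentre x U) (hx' : IsAxis x a)
    (hy : IsCentre y V) (hy' : IsAxis y a) (hUa : U ∈ a) (hVa : V ∈ a) (hUV : U ≠ V) : x * y = y * x := by
  by_contra hne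
  have hc : x * y * x⁻¹ * y⁻¹ ≠ 1 := fun e => hne (by
    have := congrArg (· * y * x) e
    simpa [mul_assoc] using this)
  have h1 : IsCentre (x * y * x⁻¹ * y⁻¹) U := by
    have := hx.inv.conj y
    rw [hy' U hUa] at this
    have := hx.mul this
    simpa [mul_assoc] using this
  have h2 : IsCentre (x * y * x⁻¹ * y⁻¹) V := by
    have := hy.conj x
    rw [hx' V hVa] at this
    exact this.mul hy.inv
  exact hUV (IsPersp.centre_unique ⟨hc, h2, ((hx'.mul hy').mul hx'.inv).mul hy'.inv⟩ h1)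

/-- if the elations with axis `a` have two centres, they commute and have one prime order -/
theorem elAxis_elementary {a : L} {x y : Coll P L} {U V : P} (hxG : x ∈ elAxis G a) (hyG : y ∈ elAxis G a)
    (hx1 : x ≠ 1) (hy1 : y ≠ 1) (hx : IsCentre x U) (hy : IsCentre y V) (hUV : U ≠ V) :
    (∀ s ∈ elAxis G a, ∀ t ∈ elAxis G a, s * t = t * s) ∧
      ∃ p : ℕ, p.Prime ∧ ∀ s ∈ elAxis G a, s ^ p = 1 := by
  have centre : ∀ s ∈ elAxis G a, s ≠ 1 → ∃ W : P, W ∈ a ∧ IsCentre s W := fun s hs hs1 =>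
    hs.2.2.resolve_left hs1
  have mem : ∀ (s : Coll P L) (W : P), s ∈ elAxis G a → s ≠ 1 → IsCentre s W → W ∈ a := fun s W hs hs1 hW => by
    obtain ⟨W', hW'a, hW'⟩ := centre s hs hs1
    exact (IsPersp.centre_unique ⟨hs1, hW', hs.2.1⟩ hW).symm ▸ hW'a
  have hUa := mem x U hxG hx1 hx
  have hVa := mem y V hyG hy1 hy
  -- some element has a centre different from a given one
  have other : ∀ W : P, ∃ (z : Coll P L) (Z : P), z ∈ elAxis G a ∧ z ≠ 1 ∧ Z ∈ a ∧ IsCentre z Z ∧ Z ≠ W := by
    intro W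
    by_cases h : U = W
    · exact ⟨y, V, hyG, hy1, hVa, hy, fun e => hUV (h.trans e.symm)⟩
    · exact ⟨x, U, hxG, hx1, hUa, hx, h⟩
  have comm : ∀ s ∈ elAxis G a, ∀ t ∈ elAxis G a, s * t = t * s := by
    intro s hs t ht
    by_cases hs1 : s = 1
    · simp [hs1]
    by_cases ht1 : t = 1
    · simp [ht1]
    obtain ⟨S, hSa, hS⟩ := centre s hs hs1
    obtain ⟨T, hTa, hT⟩ := centre t ht ht1
    by_cases hST : S = T
    · subst hST
      obtain ⟨z, Z, hzG, hz1, hZa, hz, hZS⟩ := other S
      have hzs := commute_of_centre_ne hz hzG.2.1 hS hs.2.1 hZa hSa hZS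
      -- `t * z` has a centre different from `S`
      have htz : t * z ∈ elAxis G a := (elAxis G a).mul_mem ht hzG
      have htz1 : t * z ≠ 1 := fun e => hZS (by
        have hzi : z = t⁻¹ := (inv_eq_of_mul_eq_one_right e).symm
        exact (IsPersp.centre_unique ⟨hz1, hz, hzG.2.1⟩ (hzi ▸ hT.inv)).symm)
      obtain ⟨W, hWa, hW⟩ := centre _ htz htz1
      have hWS : W ≠ S := fun e => by
        subst e
        have hzS : IsCentre (t⁻¹ * (t * z)) W := hT.inv.mul hW
        rw [inv_mul_cancel_left] at hzS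
        exact hZS (IsPersp.centre_unique ⟨hz1, hz, hzG.2.1⟩ hzS).symm
      have h3 := commute_of_centre_ne hW htz.2.1 hS hs.2.1 hWa hSa hWS
      apply mul_right_cancel (b := z)
      calc s * t * z = t * z * s := by rw [h3, mul_assoc]
        _ = t * (s * z) := by rw [mul_assoc, hzs]
        _ = t * s * z := by rw [mul_assoc]
    · exact commute_of_centre_ne hS hs.2.1 hT ht.2.1 hSa hTa hST
  refine ⟨comm, ?_⟩
  have hord : 1 < orderOf x := by
    have h0 : 0 < orderOf x := (isOfFinOrder_of_finite x).orderOf_pos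
    rcases Nat.lt_or_ge 1 (orderOf x) with h | h
    · exact h
    · exact absurd (orderOf_eq_one_iff.mp (by omega)) hx1
  obtain ⟨p, hp, hpd⟩ := Nat.exists_prime_and_dvd (Nat.ne_of_gt hord)
  set x₀ := x ^ (orderOf x / p) with hx₀
  have hx₀p : x₀ ^ p = 1 := by
    rw [hx₀, ← pow_mul, Nat.div_mul_cancel hpd, pow_orderOf_eq_one]
  have hx₀1 : x₀ ≠ 1 := fun e => by
    have h1 := Nat.le_of_dvd (Nat.div_pos (Nat.le_of_dvd (by omega) hpd) hp.pos) (orderOf_dvd_of_pow_eq_one e)
    have h2 := Nat.div_lt_self (show 0 < orderOf x by omega) hp.one_lt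
    omega
  have hx₀G : x₀ ∈ elAxis G a := (elAxis G a).pow_mem hxG _
  refine ⟨p, hp, ?_⟩
  -- elements with a centre other than that of one element of order `p` have order `p`
  have step : ∀ s t : Coll P L, ∀ S T : P, s ∈ elAxis G a → t ∈ elAxis G a → s ≠ 1 → t ≠ 1 →
      IsCentre s S → IsCentre t T → S ≠ T → s ^ p = 1 → t ^ p = 1 := by
    intro s t S T hs ht hs1 ht1 hS hT hST hsp
    have hSa := mem s S hs hs1 hS
    by_contra htp
    have hst : s * t ∈ elAxis G a := (elAxis G a).mul_mem hs ht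
    have hpow : (s * t) ^ p = t ^ p := by
      rw [(show Commute s t from comm s hs t ht).mul_pow, hsp, one_mul]
    have hst1 : s * t ≠ 1 := fun e => htp (by rw [← hpow, e, one_pow])
    obtain ⟨W, hWa, hW⟩ := centre _ hst hst1
    have hcentre : ∀ (u : Coll P L) (Z : P), IsCentre u Z → ∀ k : ℕ, IsCentre (u ^ k) Z := by
      intro u Z hu k
      induction k with
      | zero => rw [pow_zero]; exact IsCentre.one Z
      | succ k ih => rw [pow_succ]; exact ih.mul hu
    have hWT : W = T := by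
      have htpG : t ^ p ∈ elAxis G a := (elAxis G a).pow_mem ht _
      exact IsPersp.centre_unique ⟨htp, hcentre t T hT p, htpG.2.1⟩ (hpow ▸ hcentre _ W hW p)
    subst hWT
    have hsW : IsCentre (s * t * t⁻¹) W := hW.mul hT.inv
    rw [mul_inv_cancel_right] at hsW
    exact hST (IsPersp.centre_unique ⟨hs1, hS, hs.2.1⟩ hsW).symm
  intro s hs
  by_cases hs1 : s = 1
  · rw [hs1, one_pow]
  obtain ⟨U₀, hU₀a, hU₀⟩ := centre x₀ hx₀G hx₀1
  obtain ⟨S, hSa, hS⟩ := centre s hs hs1
  by_cases hS0 : S = U₀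
  · obtain ⟨z, Z, hzG, hz1, -, hz, hZU⟩ := other U₀
    have hzp := step x₀ z U₀ Z hx₀G hzG hx₀1 hz1 hU₀ hz (Ne.symm hZU) hx₀p
    exact step z s Z S hzG hs hz1 hs1 hz hS (hS0 ▸ hZU) hzp
  · exact step x₀ s U₀ S hx₀G hs hx₀1 hs1 hU₀ hS (Ne.symm hS0) hx₀p

/-- two centres of perspectivities with one axis are conjugate under the elations with this axis -/
theorem exists_elation_map {a : L} {C C' : P} {σ σ' : Coll P L} (hσG : σ ∈ G) (hσ : IsPersp σ C a)
    (hσ'G : σ' ∈ G) (hσ' : IsPersp σ' C' a) (hC : C ∉ a) (hC' : C' ∉ a) :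
    ∃ t ∈ elAxis G a, t • C = C' := by
  classical
  cases nonempty_fintype P
  set K := axisGroup G a with hK
  have : Fintype K := Fintype.ofFinite _
  -- the stabiliser in `K` of a point off the axis
  let A : P → Finset K := fun D => Finset.univ.filter fun k : K => k ≠ 1 ∧ (k : Coll P L) • D = D
  have hoff : ∀ (k : K) (D : P), D ∉ a → (k : Coll P L) • D ∉ a := fun k D hD e => hD (by
    have h1 := k.2.2 _ e
    rwa [smul_left_cancel (k : Coll P L) h1] at e)
  have hdisj : ∀ D D' : P, D ∉ a → D' ∉ a → D ≠ D' → Disjoint (A D) (A D') := by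
    intro D D' hD hD' hne
    rw [Finset.disjoint_left]
    intro k hk hk'
    simp only [A, Finset.mem_filter, Finset.mem_univ, true_and] at hk hk'
    have hk1 : (k : Coll P L) ≠ 1 := fun e => hk.1 (Subtype.ext e)
    obtain ⟨Z, hZ⟩ := exists_centre k.2.2
    have hp : IsPersp (k : Coll P L) Z a := ⟨hk1, hZ, k.2.2⟩
    exact hne (((hp.point_of_smul_eq hk.2).resolve_left hD).trans
      ((hp.point_of_smul_eq hk'.2).resolve_left hD').symm)
  have hcard : ∀ D : P, (A D).card = Nat.card (MulAction.stabilizer K D) - 1 := fun D => by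
    have h1 : A D = (Finset.univ.filter fun k : K => (k : Coll P L) • D = D).erase 1 := by
      ext k; simp [A, and_comm]
    rw [h1, Finset.card_erase_of_mem (by simp), Nat.card_eq_fintype_card, Fintype.card_subtype]
    rfl
  have orbit : ∀ D : P, D ∉ a → ∀ S : Finset P, (∀ E, E ∈ S ↔ E ∈ MulAction.orbit K D) →
      (S.biUnion A).card + S.card = Fintype.card K ∧ (∀ E ∈ S, E ∉ a) := by
    intro D hD S hS
    have hSa : ∀ E ∈ S, E ∉ a := fun E hE => by
      obtain ⟨k, rfl⟩ := (hS E).mp hE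
      exact hoff k D hD
    refine ⟨?_, hSa⟩
    have hSn : S.card = Nat.card (MulAction.orbit K D) := by
      have h1 : S = (MulAction.orbit K D).toFinset := by ext E; rw [hS E, Set.mem_toFinset]
      rw [h1, Set.toFinset_card, Nat.card_eq_fintype_card]
    have hos : ∀ E ∈ S, Nat.card (MulAction.orbit K D) * Nat.card (MulAction.stabilizer K E) = Fintype.card K :=
      fun E hE => by
        rw [← MulAction.orbit_eq_iff.mpr ((hS E).mp hE), ← Nat.card_prod,
          Nat.card_congr (MulAction.orbitProdStabilizerEquivGroup K E), Nat.card_eq_fintype_card]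
    have hstab : ∀ E ∈ S, (A E).card = Nat.card (MulAction.stabilizer K D) - 1 := fun E hE => by
      have h1 := hos E hE
      rw [← hos D ((hS D).mpr (MulAction.mem_orbit_self D))] at h1
      rw [hcard, Nat.eq_of_mul_eq_mul_left ?_ h1]
      rw [← hSn]; exact Finset.card_pos.mpr ⟨E, hE⟩
    rw [Finset.card_biUnion fun E hE E' hE' hne => hdisj E E' (hSa E hE) (hSa E' hE') hne,
      Finset.sum_congr rfl hstab, Finset.sum_const, smul_eq_mul, ← hos D ((hS D).mpr (MulAction.mem_orbit_self D)),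
      hSn]
    have hpos : 0 < Nat.card (MulAction.stabilizer K D) := Nat.card_pos
    obtain ⟨m, hm⟩ : ∃ m, Nat.card (MulAction.stabilizer K D) = m + 1 := ⟨_, (Nat.succ_pred_eq_of_pos hpos).symm⟩
    rw [hm, Nat.add_sub_cancel, Nat.mul_add, Nat.mul_one]
  -- a moving stabiliser makes the orbit short
  have short : ∀ (D : P) (d : Coll P L), d ∈ G → IsPersp d D a → D ∉ a →
      2 * Nat.card (MulAction.orbit K D) ≤ Fintype.card K := by
    intro D d hdG hd hD
    have hdD : d • D = D := by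
      obtain ⟨l, hl, -, -⟩ := exists_line_through_ne D a a
      obtain ⟨m, hm, hml, -⟩ := exists_line_through_ne D l l
      exact smul_meet_eq hml (hd.2.1 m hm) (hd.2.1 l hl) hm hl
    have h2 : 2 ≤ Nat.card (MulAction.stabilizer K D) := by
      have hmem : (⟨d, hdG, hd.2.2⟩ : K) ∈ MulAction.stabilizer K D := hdD
      have : Nontrivial (MulAction.stabilizer K D) :=
        ⟨⟨1, ⟨_, hmem⟩, fun e => hd.1 (congrArg (fun k => ((k.1 : K) : Coll P L)) e).symm⟩⟩
      exact Finite.one_lt_card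
    rw [← Nat.card_eq_fintype_card, ← Nat.card_congr (MulAction.orbitProdStabilizerEquivGroup K D),
      Nat.card_prod, Nat.mul_comm 2]
    exact Nat.mul_le_mul_left _ h2
  set S := Finset.univ.filter (fun E => E ∈ MulAction.orbit K C) with hSdef
  have hS : ∀ E, E ∈ S ↔ E ∈ MulAction.orbit K C := fun E => by simp [hSdef]
  obtain ⟨hScard, hSa⟩ := orbit C hC S hS
  have hin : C' ∈ MulAction.orbit K C := by
    by_contra hout
    set S' := Finset.univ.filter (fun E => E ∈ MulAction.orbit K C') with hS'def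
    have hS' : ∀ E, E ∈ S' ↔ E ∈ MulAction.orbit K C' := fun E => by simp [hS'def]
    obtain ⟨hS'card, hS'a⟩ := orbit C' hC' S' hS'
    have hd : Disjoint (S.biUnion A) (S'.biUnion A) := by
      rw [Finset.disjoint_biUnion_left]
      intro E hE
      rw [Finset.disjoint_biUnion_right]
      intro E' hE'
      refine hdisj E E' (hSa E hE) (hS'a E' hE') fun e => hout ?_
      subst e
      rw [← MulAction.orbit_eq_iff.mpr ((hS E).mp hE), MulAction.orbit_eq_iff.mpr ((hS' E).mp hE')]
      exact MulAction.mem_orbit_self C'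
    have hsub : S.biUnion A ∪ S'.biUnion A ⊆ (Finset.univ : Finset K).erase 1 := by
      intro k hk
      simp only [Finset.mem_union, Finset.mem_biUnion, A, Finset.mem_filter] at hk
      rcases hk with ⟨_, _, _, h, _⟩ | ⟨_, _, _, h, _⟩ <;> exact Finset.mem_erase.mpr ⟨h, Finset.mem_univ _⟩
    have h1 := Finset.card_le_card hsub
    rw [Finset.card_union_of_disjoint hd, Finset.card_erase_of_mem (Finset.mem_univ _), Finset.card_univ] at h1
    have h2 := short C σ hσG hσ hC
    have h3 := short C' σ' hσ'G hσ' hC'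
    have h4 : S.card = Nat.card (MulAction.orbit K C) := by
      rw [Nat.card_eq_fintype_card, ← Set.toFinset_card]; congr 1; ext E; simp [hS E]
    have h5 : S'.card = Nat.card (MulAction.orbit K C') := by
      rw [Nat.card_eq_fintype_card, ← Set.toFinset_card]; congr 1; ext E; simp [hS' E]
    have h6 : 0 < Fintype.card K := Fintype.card_pos
    omega
  -- the elations are at least as many as the points of the orbit
  set T : Finset K := Finset.univ \ S.biUnion A with hT
  have hTS : S.card ≤ T.card := by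
    rw [hT, Finset.card_sdiff, Finset.inter_univ, Finset.card_univ]; omega
  have hfree : ∀ k ∈ T, k ≠ 1 → ∀ E ∈ S, (k : Coll P L) • E ≠ E := fun k hk hk1 E hE e => by
    rw [hT, Finset.mem_sdiff] at hk
    exact hk.2 (Finset.mem_biUnion.mpr ⟨E, hE, by simp [A, hk1, e]⟩)
  -- a collineation of `K` without fixed point off the axis is an elation
  let E₀ : Finset K := Finset.univ.filter fun k : K => (k : Coll P L) ∈ elAxis G a
  have hE₀ : E₀.card = S.card → ∃ t ∈ elAxis G a, t • C = C' := by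
    intro hc
    have hinj : Set.InjOn (fun k : K => (k : Coll P L) • C) E₀ := by
      intro k hk m hm (e : (k : Coll P L) • C = (m : Coll P L) • C)
      simp only [E₀, Finset.coe_filter, Finset.mem_univ, true_and] at hk hm
      have := elAxis_free ((elAxis G a).mul_mem ((elAxis G a).inv_mem hm) hk) hC
        (by rw [mul_smul, e, inv_smul_smul])
      exact Subtype.ext (inv_mul_eq_one.mp this).symm
    have himg : E₀.image (fun k : K => (k : Coll P L) • C) = S := by
      refine Finset.eq_of_subset_of_card_le (fun E hE => ?_) ?_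
      · obtain ⟨k, -, rfl⟩ := Finset.mem_image.mp hE
        exact (hS _).mpr ⟨k, rfl⟩
      · rw [Finset.card_image_of_injOn hinj, hc]
    obtain ⟨k, hk, hkC⟩ := Finset.mem_image.mp (by rw [himg]; exact (hS C').mpr hin)
    exact ⟨k, (Finset.mem_filter.mp hk).2, hkC⟩
  refine hE₀ (le_antisymm ?_ ?_)
  · refine Finset.card_le_card_of_injOn (fun k : K => (k : Coll P L) • C)
      (fun k _ => (hS _).mpr ⟨k, rfl⟩) ?_
    intro k hk m hm (e : (k : Coll P L) • C = (m : Coll P L) • C)
    simp only [E₀, Finset.coe_filter, Finset.mem_univ, true_and] at hk hm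
    have := elAxis_free ((elAxis G a).mul_mem ((elAxis G a).inv_mem hm) hk) hC
      (by rw [mul_smul, e, inv_smul_smul])
    exact Subtype.ext (inv_mul_eq_one.mp this).symm
  · refine hTS.trans (Finset.card_le_card fun k hk => ?_)
    simp only [E₀, Finset.mem_filter, Finset.mem_univ, true_and]
    refine ⟨k.2.1, k.2.2, ?_⟩
    by_cases hk1 : k = 1
    · exact .inl (by rw [hk1]; rfl)
    obtain ⟨Z, hZ⟩ := exists_centre k.2.2
    refine .inr ⟨Z, ?_, hZ⟩
    by_contra hZa
    -- a centre off the axis lies in the orbit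
    have hk1' : (k : Coll P L) ≠ 1 := fun e => hk1 (Subtype.ext e)
    have hkZ : (k : Coll P L) • Z = Z := by
      obtain ⟨l, hl, -, -⟩ := exists_line_through_ne Z a a
      obtain ⟨m, hm, hml, -⟩ := exists_line_through_ne Z l l
      exact smul_meet_eq hml (hZ m hm) (hZ l hl) hm hl
    by_cases hZS : Z ∈ S
    · exact hfree k hk hk1 Z hZS hkZ
    set S'' := Finset.univ.filter (fun E => E ∈ MulAction.orbit K Z) with hS''def
    have hS'' : ∀ E, E ∈ S'' ↔ E ∈ MulAction.orbit K Z := fun E => by simp [hS''def]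
    obtain ⟨hc'', ha''⟩ := orbit Z hZa S'' hS''
    have hd : Disjoint (S.biUnion A) (S''.biUnion A) := by
      rw [Finset.disjoint_biUnion_left]
      intro E hE
      rw [Finset.disjoint_biUnion_right]
      intro E' hE'
      refine hdisj E E' (hSa E hE) (ha'' E' hE') fun e => hZS ((hS Z).mpr ?_)
      subst e
      rw [← MulAction.orbit_eq_iff.mpr ((hS E).mp hE), MulAction.orbit_eq_iff.mpr ((hS'' E).mp hE')]
      exact MulAction.mem_orbit_self Z
    have hsub : S.biUnion A ∪ S''.biUnion A ⊆ (Finset.univ : Finset K).erase 1 := by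
      intro m hm
      simp only [Finset.mem_union, Finset.mem_biUnion, A, Finset.mem_filter] at hm
      rcases hm with ⟨_, _, _, h, _⟩ | ⟨_, _, _, h, _⟩ <;> exact Finset.mem_erase.mpr ⟨h, Finset.mem_univ _⟩
    have h1 := Finset.card_le_card hsub
    rw [Finset.card_union_of_disjoint hd, Finset.card_erase_of_mem (Finset.mem_univ _), Finset.card_univ] at h1
    have h2 := short C σ hσG hσ hC
    have h3 := short Z k k.2.1 ⟨hk1', hZ, k.2.2⟩ hZa
    have h4 : S.card = Nat.card (MulAction.orbit K C) := by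
      rw [Nat.card_eq_fintype_card, ← Set.toFinset_card]; congr 1; ext E; simp [hS E]
    have h5 : S''.card = Nat.card (MulAction.orbit K Z) := by
      rw [Nat.card_eq_fintype_card, ← Set.toFinset_card]; congr 1; ext E; simp [hS'' E]
    have h6 : 0 < Fintype.card K := Fintype.card_pos
    omega

end ElationGroups

/-- an elation group with centre `U` is semiregular on the further points of a line through `U` -/
theorem card_perspGroup_dvd (G : Subgroup (Coll P L)) {U : P} {a : L} (hU : U ∈ a) :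
    Nat.card (perspGroup G U a) ∣ ProjectivePlane.order P L := by
  classical
  obtain ⟨l, hl, hla, -⟩ := exists_line_through_ne U a a
  set E := perspGroup G U a with hE
  cases nonempty_fintype P
  have hpts : ∀ (σ : E) (p : {p : P // p ∈ l ∧ p ≠ U}),
      (σ : Coll P L) • p.1 ∈ l ∧ (σ : Coll P L) • p.1 ≠ U := fun σ p =>
    ⟨smul_line_mem (σ.2.2.1 l hl) p.2.1, fun e => p.2.2 (smul_left_cancel (σ : Coll P L) (e.trans σ.2.2.1.smul_eq.symm))⟩
  let act : MulAction E {p : P // p ∈ l ∧ p ≠ U} :=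
    { smul := fun σ p => ⟨(σ : Coll P L) • p.1, hpts σ p⟩
      one_smul := fun p => Subtype.ext (one_smul _ p.1)
      mul_smul := fun x y p => Subtype.ext (mul_smul _ _ p.1) }
  have hstab : ∀ p : {p : P // p ∈ l ∧ p ≠ U}, MulAction.stabilizer E p = ⊥ := fun p => by
    rw [eq_bot_iff]
    intro σ hσ
    have h1 : (σ : Coll P L) • p.1 = p.1 := congrArg Subtype.val hσ
    by_contra hne
    have hp : IsPersp (σ : Coll P L) U a := ⟨fun e => hne (Subtype.ext e), σ.2.2.1, σ.2.2.2⟩
    rcases hp.point_of_smul_eq h1 with h2 | h2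
    · exact p.2.2 (point_eq hla p.2.1 h2 hl hU)
    · exact p.2.2 h2
  have hc : Nat.card {p : P // p ∈ l ∧ p ≠ U} + 1 = ProjectivePlane.order P L + 1 := by
    rw [← card_line l]
    show Set.ncard ({p : P | p ∈ l} \ {U}) + 1 = Set.ncard {p : P | p ∈ l}
    exact Set.ncard_sdiff_singleton_add_one hl (Set.toFinite _)
  have : Fintype (MulAction.orbitRel.Quotient E {p : P // p ∈ l ∧ p ≠ U}) := Fintype.ofFinite _
  rw [← Nat.add_right_cancel hc, Nat.card_congr (MulAction.selfEquivSigmaOrbits E {p : P // p ∈ l ∧ p ≠ U}),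
    Nat.card_sigma]
  refine Finset.dvd_sum fun q _ => ?_
  rw [← Nat.card_congr (MulAction.orbitProdStabilizerEquivGroup E (Quotient.out q)), hstab, Nat.card_prod,
    Subgroup.card_bot, mul_one]

end CfsgLib.OW
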