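import Cfsg.Agent.Lib.OstromWagner.Trans
import Mathlib.GroupTheory.PGroup
import Mathlib.Tactic.LinearCombination
import Mathlib.Tactic.Linarith

/-!
# Subplanes of fixed elements, and involutions: Baer or perspectivity
-/

set_option autoImplicit false
set_option linter.unusedSectionVars false

namespace CfsgLib.OW

open Configuration

variable {P L : Type*} [Membership P L]

/-- the points fixed by `X` -/
def FixP (X : Subgroup (Coll P L)) : Type _ := {p : P // ∀ σ ∈ X, σ • p = p}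

/-- the lines fixed by `X` -/
def FixL (X : Subgroup (Coll P L)) : Type _ := {l : L // ∀ σ ∈ X, σ • l = l}

/-- incidence of fixed elements -/
instance fixMembership (X : Subgroup (Coll P L)) : Membership (FixP X) (FixL X) :=
  ⟨fun l p => p.1 ∈ l.1⟩

instance finiteFixP (X : Subgroup (Coll P L)) [Finite P] : Finite (FixP X) := Subtype.finite

instance finiteFixL (X : Subgroup (Coll P L)) [Finite L] : Finite (FixL X) := Subtype.finite

theorem mem_fix {X : Subgroup (Coll P L)} {p : FixP X} {l : FixL X} : p ∈ l ↔ p.1 ∈ l.1 := Iff.rfl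

/-- four points, no three on one line -/
def Quad (L : Type*) [Membership P L] (A B C D : P) : Prop :=
  ∀ l : L, ¬(A ∈ l ∧ B ∈ l ∧ C ∈ l) ∧ ¬(A ∈ l ∧ B ∈ l ∧ D ∈ l) ∧ ¬(A ∈ l ∧ C ∈ l ∧ D ∈ l) ∧
    ¬(B ∈ l ∧ C ∈ l ∧ D ∈ l)

/-- `X` fixes a quadrangle -/
def HasQuad (X : Subgroup (Coll P L)) : Prop :=
  ∃ A B C D : P, (∀ σ ∈ X, σ • A = A ∧ σ • B = B ∧ σ • C = C ∧ σ • D = D) ∧ Quad L A B C D

theorem HasQuad.anti {X Y : Subgroup (Coll P L)} (h : X ≤ Y) (hY : HasQuad Y) : HasQuad X :=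
  let ⟨A, B, C, D, h1, h2⟩ := hY
  ⟨A, B, C, D, fun σ hσ => h1 σ (h hσ), h2⟩

variable [ProjectivePlane P L]

theorem Quad.ne₁₂ {A B C D : P} (h : Quad L A B C D) : A ≠ B := fun e => by
  obtain ⟨l, hl⟩ := exists_join (L := L) A C
  exact (h l).1 ⟨hl.1, e ▸ hl.1, hl.2⟩

theorem Quad.ne₁₃ {A B C D : P} (h : Quad L A B C D) : A ≠ C := fun e => by
  obtain ⟨l, hl⟩ := exists_join (L := L) A B
  exact (h l).1 ⟨hl.1, hl.2, e ▸ hl.1⟩

theorem Quad.ne₃₄ {A B C D : P} (h : Quad L A B C D) : C ≠ D := fun e => by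
  obtain ⟨l, hl⟩ := exists_join (L := L) A C
  exact (h l).2.2.1 ⟨hl.1, hl.2, e ▸ hl.2⟩

theorem Quad.ne₂₃ {A B C D : P} (h : Quad L A B C D) : B ≠ C := fun e => by
  obtain ⟨l, hl⟩ := exists_join (L := L) A B
  exact (h l).1 ⟨hl.1, hl.2, e ▸ hl.2⟩

/-- the fixed points and lines of a group fixing a quadrangle form a plane -/
@[instance_reducible]
noncomputable def fixPlane {X : Subgroup (Coll P L)} (hX : HasQuad X) :
    ProjectivePlane (FixP X) (FixL X) where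
  exists_point l := by
    obtain ⟨A, B, C, D, hfix, hq⟩ := hX
    by_cases hA : A ∈ l.1
    · by_cases hB : B ∈ l.1
      · exact ⟨⟨C, fun σ hσ => (hfix σ hσ).2.2.1⟩, fun h => (hq l.1).1 ⟨hA, hB, h⟩⟩
      · exact ⟨⟨B, fun σ hσ => (hfix σ hσ).2.1⟩, hB⟩
    · exact ⟨⟨A, fun σ hσ => (hfix σ hσ).1⟩, hA⟩
  exists_line p := by
    obtain ⟨A, B, C, D, hfix, hq⟩ := hX
    obtain ⟨c, hc, -⟩ := existsUnique_join (L := L) hq.ne₁₂
    obtain ⟨a, ha, -⟩ := existsUnique_join (L := L) hq.ne₂₃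
    obtain ⟨b, hb, -⟩ := existsUnique_join (L := L) hq.ne₁₃
    by_cases hpc : p.1 ∈ c
    · by_cases hpa : p.1 ∈ a
      · refine ⟨⟨b, fun σ hσ => smul_join_eq hq.ne₁₃ (hfix σ hσ).1 (hfix σ hσ).2.2.1 hb.1 hb.2⟩,
          fun hpb : p.1 ∈ b => ?_⟩
        have hca : c ≠ a := fun e => (hq c).1 ⟨hc.1, hc.2, by rw [e]; exact ha.2⟩
        have hpB : p.1 = B := point_eq hca hpc hpa hc.2 ha.1
        exact (hq b).1 ⟨hb.1, by rw [← hpB]; exact hpb, hb.2⟩
      · exact ⟨⟨a, fun σ hσ => smul_join_eq hq.ne₂₃ (hfix σ hσ).2.1 (hfix σ hσ).2.2.1 ha.1 ha.2⟩, hpa⟩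
    · exact ⟨⟨c, fun σ hσ => smul_join_eq hq.ne₁₂ (hfix σ hσ).1 (hfix σ hσ).2.1 hc.1 hc.2⟩, hpc⟩
  eq_or_eq := fun {p q l m} hpl hql hpm hqm =>
    (Nondegenerate.eq_or_eq (p₁ := p.1) (p₂ := q.1) (l₁ := l.1) (l₂ := m.1) hpl hql hpm hqm).imp
      (fun e => Subtype.ext e) (fun e => Subtype.ext e)
  mkPoint := fun {l m} h =>
    ⟨HasPoints.mkPoint (P := P) (fun e => h (Subtype.ext e)), fun σ hσ =>
      smul_meet_eq (fun e => h (Subtype.ext e)) (l.2 σ hσ) (m.2 σ hσ) (HasPoints.mkPoint_ax _).1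
        (HasPoints.mkPoint_ax _).2⟩
  mkPoint_ax := fun {l m} h => HasPoints.mkPoint_ax (P := P) (l₁ := l.1) (l₂ := m.1) fun e => h (Subtype.ext e)
  mkLine := fun {p q} h =>
    ⟨HasLines.mkLine (L := L) (fun e => h (Subtype.ext e)), fun σ hσ =>
      smul_join_eq (fun e => h (Subtype.ext e)) (p.2 σ hσ) (q.2 σ hσ) (HasLines.mkLine_ax _).1
        (HasLines.mkLine_ax _).2⟩
  mkLine_ax := fun {p q} h => HasLines.mkLine_ax (L := L) (p₁ := p.1) (p₂ := q.1) fun e => h (Subtype.ext e)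
  exists_config := by
    obtain ⟨A, B, C, D, hfix, hq⟩ := hX
    obtain ⟨l₁, h₁, -⟩ := existsUnique_join (L := L) hq.ne₃₄
    obtain ⟨l₂, h₂, -⟩ := existsUnique_join (L := L) hq.ne₁₂
    obtain ⟨l₃, h₃, -⟩ := existsUnique_join (L := L) hq.ne₁₃
    refine ⟨⟨D, fun σ hσ => (hfix σ hσ).2.2.2⟩, ⟨A, fun σ hσ => (hfix σ hσ).1⟩, ⟨B, fun σ hσ => (hfix σ hσ).2.1⟩,
      ⟨l₁, fun σ hσ => smul_join_eq hq.ne₃₄ (hfix σ hσ).2.2.1 (hfix σ hσ).2.2.2 h₁.1 h₁.2⟩,
      ⟨l₂, fun σ hσ => smul_join_eq hq.ne₁₂ (hfix σ hσ).1 (hfix σ hσ).2.1 h₂.1 h₂.2⟩,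
      ⟨l₃, fun σ hσ => smul_join_eq hq.ne₁₃ (hfix σ hσ).1 (hfix σ hσ).2.2.1 h₃.1 h₃.2⟩,
      fun h => (hq l₂).2.1 ⟨h₂.1, h₂.2, h⟩, fun h => (hq l₃).2.2.1 ⟨h₃.1, h₃.2, h⟩,
      fun h => (hq l₁).2.2.1 ⟨h, h₁.1, h₁.2⟩, h₂.1, h₃.1,
      fun h => (hq l₁).2.2.2 ⟨h, h₁.1, h₁.2⟩, h₂.2, fun h => (hq l₃).1 ⟨h₃.1, h, h₃.2⟩⟩

/-- the order of the subplane fixed by `X` -/
noncomputable def fixOrder {X : Subgroup (Coll P L)} (hX : HasQuad X) : ℕ :=
  let := fixPlane hX
  ProjectivePlane.order (FixP X) (FixL X)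

variable [Finite P] [Finite L] {X : Subgroup (Coll P L)}

theorem one_lt_fixOrder (hX : HasQuad X) : 1 < fixOrder hX := by
  let := fixPlane hX
  exact ProjectivePlane.one_lt_order (FixP X) (FixL X)

theorem card_fixP (hX : HasQuad X) : Nat.card (FixP X) = fixOrder hX ^ 2 + fixOrder hX + 1 := by
  let := fixPlane hX
  exact card_point

theorem card_fix_on_line (hX : HasQuad X) (l : L) (hl : ∀ σ ∈ X, σ • l = l) :
    Nat.card {p : P // p ∈ l ∧ ∀ σ ∈ X, σ • p = p} = fixOrder hX + 1 := by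
  let := fixPlane hX
  let l' : FixL X := ⟨l, hl⟩
  refine (Nat.card_congr ?_).trans (card_line (P := FixP X) l')
  exact
    { toFun := fun p => ⟨⟨p.1, p.2.2⟩, p.2.1⟩
      invFun := fun p => ⟨p.1.1, p.2, p.1.2⟩
      left_inv := fun _ => rfl
      right_inv := fun _ => rfl }

theorem fixOrder_le (hX : HasQuad X) : fixOrder hX ≤ ProjectivePlane.order P L := by
  let := fixPlane hX
  obtain ⟨A, B, C, D, hfix, hq⟩ := hX
  obtain ⟨c, hc, -⟩ := existsUnique_join (L := L) hq.ne₁₂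
  have h1 := card_fix_on_line (X := X) ⟨A, B, C, D, hfix, hq⟩ c fun σ hσ =>
    smul_join_eq hq.ne₁₂ (hfix σ hσ).1 (hfix σ hσ).2.1 hc.1 hc.2
  have h2 : Nat.card {p : P // p ∈ c ∧ ∀ σ ∈ X, σ • p = p} ≤ Nat.card {p : P // p ∈ c} :=
    Nat.card_le_card_of_injective (fun p => ⟨p.1, p.2.1⟩) fun p q e => by
      have e' := congrArg Subtype.val e
      exact Subtype.ext e'
  rw [h1, card_line] at h2
  omega

theorem fixOrder_lt (hX : HasQuad X) (hne : X ≠ ⊥) : fixOrder hX < ProjectivePlane.order P L := by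
  refine lt_of_le_of_ne (fixOrder_le hX) fun heq => hne ?_
  have full : ∀ l : L, (∀ σ ∈ X, σ • l = l) → ∀ σ ∈ X, IsAxis σ l := fun l hl σ hσ p hp => by
    classical
    have h1 : {p : P | p ∈ l ∧ ∀ σ ∈ X, σ • p = p} = {p : P | p ∈ l} := by
      refine Set.eq_of_subset_of_ncard_le (fun p hp => hp.1) ?_ (Set.toFinite _)
      show Nat.card {p : P // p ∈ l} ≤ Nat.card {p : P // p ∈ l ∧ ∀ σ ∈ X, σ • p = p}
      rw [card_line, card_fix_on_line hX l hl, heq]
    have h2 : p ∈ {p : P | p ∈ l ∧ ∀ σ ∈ X, σ • p = p} := by rw [h1]; exact hp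
    exact h2.2 σ hσ
  obtain ⟨A, B, C, D, hfix, hq⟩ := hX
  obtain ⟨c, hc, -⟩ := existsUnique_join (L := L) hq.ne₁₂
  obtain ⟨b, hb, -⟩ := existsUnique_join (L := L) hq.ne₁₃
  rw [eq_bot_iff]
  intro σ hσ
  rw [Subgroup.mem_bot]
  by_contra h1
  have hac := full c (fun τ hτ => smul_join_eq hq.ne₁₂ (hfix τ hτ).1 (hfix τ hτ).2.1 hc.1 hc.2) σ hσ
  have hab := full b (fun τ hτ => smul_join_eq hq.ne₁₃ (hfix τ hτ).1 (hfix τ hτ).2.2.1 hb.1 hb.2) σ hσ
  obtain ⟨Z, hZ⟩ := exists_centre hac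
  have hbc : b = c := IsPersp.axis_unique ⟨h1, hZ, hac⟩ hab
  exact (hq c).1 ⟨hc.1, hc.2, by rw [← hbc]; exact hb.2⟩

theorem fixOrder_modEq {p : ℕ} [Fact p.Prime] (hX : HasQuad X) (hp : IsPGroup p X) :
    fixOrder hX ≡ ProjectivePlane.order P L [MOD p] := by
  classical
  obtain ⟨A, B, C, D, hfix, hq⟩ := hX
  obtain ⟨c, hc, -⟩ := existsUnique_join (L := L) hq.ne₁₂
  have hcfix : ∀ σ ∈ X, σ • c = c := fun σ hσ =>
    smul_join_eq hq.ne₁₂ (hfix σ hσ).1 (hfix σ hσ).2.1 hc.1 hc.2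
  let act : MulAction X {p : P // p ∈ c} :=
    { smul := fun σ x => ⟨(σ : Coll P L) • x.1, smul_line_mem (hcfix σ σ.2) x.2⟩
      one_smul := fun x => Subtype.ext (one_smul _ x.1)
      mul_smul := fun s t x => Subtype.ext (mul_smul _ _ x.1) }
  have h1 := hp.card_modEq_card_fixedPoints {p : P // p ∈ c}
  rw [card_line] at h1
  have h2 : Nat.card (MulAction.fixedPoints X {p : P // p ∈ c}) = Nat.card {p : P // p ∈ c ∧ ∀ σ ∈ X, σ • p = p} :=
    Nat.card_congr
      { toFun := fun x => ⟨x.1.1, x.1.2, fun σ hσ => congrArg Subtype.val (x.2 ⟨σ, hσ⟩)⟩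
        invFun := fun x => ⟨⟨x.1, x.2.1⟩, fun σ => Subtype.ext (x.2.2 σ σ.2)⟩
        left_inv := fun _ => rfl
        right_inv := fun _ => rfl }
  rw [h2, card_fix_on_line ⟨A, B, C, D, hfix, hq⟩ c hcfix] at h1
  exact Nat.ModEq.add_right_cancel' 1 h1.symm

section Hom

variable (X)

/-- the action of the normaliser of `X` on the elements fixed by `X` -/
def fixHom : ↥(Subgroup.normalizer (X : Set (Coll P L))) →* Coll (FixP X) (FixL X) where
  toFun g :=
    have key : ∀ (g : Coll P L), g ∈ Subgroup.normalizer (X : Set (Coll P L)) → ∀ σ ∈ X, g⁻¹ * σ * g ∈ X :=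
      fun g hg σ hσ => by
        have := (Subgroup.mem_normalizer_iff.mp ((Subgroup.normalizer _).inv_mem hg) σ).mp hσ
        simpa using this
    ⟨({ toFun := fun p => ⟨(g : Coll P L) • p.1, fun σ hσ => by
          have h := p.2 _ (key _ g.2 σ hσ)
          rw [mul_smul, mul_smul, inv_smul_eq_iff] at h
          exact h⟩
        invFun := fun p => ⟨(g : Coll P L)⁻¹ • p.1, fun σ hσ => by
          have h := p.2 _ (key _ ((Subgroup.normalizer _).inv_mem g.2) σ hσ)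
          rw [mul_smul, mul_smul, inv_inv, smul_eq_iff_eq_inv_smul] at h
          exact h⟩
        left_inv := fun p => Subtype.ext (inv_smul_smul _ _)
        right_inv := fun p => Subtype.ext (smul_inv_smul _ _) },
      { toFun := fun p => ⟨(g : Coll P L) • p.1, fun σ hσ => by
          have h := p.2 _ (key _ g.2 σ hσ)
          rw [mul_smul, mul_smul, inv_smul_eq_iff] at h
          exact h⟩
        invFun := fun p => ⟨(g : Coll P L)⁻¹ • p.1, fun σ hσ => by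
          have h := p.2 _ (key _ ((Subgroup.normalizer _).inv_mem g.2) σ hσ)
          rw [mul_smul, mul_smul, inv_inv, smul_eq_iff_eq_inv_smul] at h
          exact h⟩
        left_inv := fun p => Subtype.ext (inv_smul_smul _ _)
        right_inv := fun p => Subtype.ext (smul_inv_smul _ _) }),
      fun p l => (g : Coll P L).2 p.1 l.1⟩
  map_one' := Subtype.ext (Prod.ext (Equiv.ext fun p => Subtype.ext (one_smul _ p.1))
    (Equiv.ext fun p => Subtype.ext (one_smul _ p.1)))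
  map_mul' g h := Subtype.ext (Prod.ext (Equiv.ext fun p => Subtype.ext (mul_smul _ _ p.1))
    (Equiv.ext fun p => Subtype.ext (mul_smul _ _ p.1)))

theorem fixHom_point (g : ↥(Subgroup.normalizer (X : Set (Coll P L)))) (p : FixP X) :
    (fixHom X g • p).1 = (g : Coll P L) • p.1 := rfl

theorem fixHom_line (g : ↥(Subgroup.normalizer (X : Set (Coll P L)))) (l : FixL X) :
    (fixHom X g • l).1 = (g : Coll P L) • l.1 := rfl

/-- the group induced by `G` on the elements fixed by `X` -/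
def fixGroup (G : Subgroup (Coll P L)) : Subgroup (Coll (FixP X) (FixL X)) :=
  (G.comap (Subgroup.normalizer (X : Set (Coll P L))).subtype).map (fixHom X)

theorem mem_fixGroup {G : Subgroup (Coll P L)} {τ : Coll (FixP X) (FixL X)} :
    τ ∈ fixGroup X G ↔ ∃ g : ↥(Subgroup.normalizer (X : Set (Coll P L))), (g : Coll P L) ∈ G ∧ fixHom X g = τ :=
  Iff.rfl

end Hom

/-- an involution is a perspectivity, or its fixed elements form a subplane of order `m` with `n = m²` -/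
theorem persp_or_baer {σ : Coll P L} (hσ1 : σ ≠ 1) (hσ2 : σ * σ = 1) :
    (∃ (C : P) (a : L), IsPersp σ C a) ∨
      ∃ hq : HasQuad (Subgroup.zpowers σ), ProjectivePlane.order P L = fixOrder hq * fixOrder hq := by
  classical
  by_cases hax : ∃ a : L, IsAxis σ a
  · obtain ⟨a, ha⟩ := hax
    obtain ⟨C, hC⟩ := exists_centre ha
    exact .inl ⟨C, a, hσ1, hC, ha⟩
  by_cases hce : ∃ C : P, IsCentre σ C
  · obtain ⟨C, hC⟩ := hce
    obtain ⟨a, ha⟩ := exists_axis hC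
    exact .inl ⟨C, a, hσ1, hC, ha⟩
  push Not at hax hce
  right
  -- every line carries a fixed point
  have hlineP : ∀ l : L, σ • l ≠ l → ∃ p : P, p ∈ l ∧ σ • p = p := fun l hl => by
    obtain ⟨p, hp, -⟩ := existsUnique_meet (P := P) hl
    refine ⟨p, hp.2, smul_eq_iff_eq_inv_smul σ |>.mpr ?_⟩
    have hinv : σ⁻¹ = σ := inv_eq_of_mul_eq_one_right hσ2
    rw [hinv]
    refine (point_eq hl ?_ ?_ hp.1 hp.2).symm
    · exact (smul_mem_smul σ).mpr hp.2
    · have := (smul_mem_smul σ).mpr hp.1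
      rwa [← mul_smul, hσ2, one_smul] at this
  have hpointL : ∀ p : P, σ • p ≠ p → ∃ l : L, p ∈ l ∧ σ • l = l := fun p hp => by
    obtain ⟨l, hl, -⟩ := existsUnique_join (L := L) hp
    refine ⟨l, hl.2, line_eq hp ?_ ?_ hl.1 hl.2⟩
    · exact (smul_mem_smul σ).mpr hl.2
    · have := (smul_mem_smul σ).mpr hl.1
      rwa [mul_self_smul hσ2] at this
  have hn := ProjectivePlane.one_lt_order P L
  have everyLine : ∀ l : L, ∃ p : P, p ∈ l ∧ σ • p = p := fun l => by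
    by_cases hl : σ • l = l
    · by_contra hnone
      push Not at hnone
      -- there is some fixed point
      obtain ⟨X, hXl⟩ := Nondegenerate.exists_point (P := P) l
      obtain ⟨k, hk⟩ : ∃ k : L, σ • k ≠ k := by
        by_contra hc
        push Not at hc
        exact hce X fun m _ => hc m
      obtain ⟨A, hAk, hA⟩ := hlineP k hk
      by_cases hB : ∃ B : P, B ≠ A ∧ σ • B = B
      · obtain ⟨B, hBA, hB⟩ := hB
        obtain ⟨j, hj, -⟩ := existsUnique_join (L := L) hBA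
        by_cases hjl : j = l
        · exact hnone A (hjl ▸ hj.2) hA
        obtain ⟨Y, hY, -⟩ := existsUnique_meet (P := P) hjl
        exact hnone Y hY.2 (smul_meet_eq hjl (smul_join_eq hBA hB hA hj.1 hj.2) hl hY.1 hY.2)
      · push Not at hB
        have h1 : Nat.card {p : P // σ • p = p} = 1 :=
          Nat.card_eq_one_iff_exists.mpr ⟨⟨A, hA⟩, fun p => Subtype.ext (by_contra fun e => hB p.1 e p.2)⟩
        obtain ⟨⟨r, hr⟩, hru⟩ := Nat.card_eq_one_iff_exists.mp ((card_fixed_eq σ).symm.trans h1)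
        obtain ⟨X', hX', hX'A, -⟩ := exists_point_on_ne l A A
        obtain ⟨m, hXm, hml, hmAX⟩ := exists_line_through_ne X' l (Classical.choose (exists_join (L := L) X' A))
        have hmfix : σ • m ≠ m := fun e =>
          hml (congrArg Subtype.val ((hru ⟨m, e⟩).trans (hru ⟨l, hl⟩).symm))
        obtain ⟨Z, hZ, hZf⟩ := hlineP m hmfix
        have hZA : Z = A := by_contra fun e => hB Z e hZf
        exact hmAX (line_eq hX'A hXm (hZA ▸ hZ) (Classical.choose_spec (exists_join (L := L) X' A)).1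
          (Classical.choose_spec (exists_join (L := L) X' A)).2)
    · exact hlineP l hl
  -- a quadrangle of fixed points
  have axisOf : ∀ (l : L) (C : P), (∀ Z : P, σ • Z = Z → Z ∈ l ∨ Z = C) → False := fun l C hsub =>
    hax l fun X hX => by_contra fun hXf => by
      obtain ⟨j, hj⟩ := exists_join (L := L) X C
      obtain ⟨m, hm, hml, hmj⟩ := exists_line_through_ne X l j
      obtain ⟨Z, hZ, hZf⟩ := everyLine m
      have hZX : Z ≠ X := fun e => hXf (e ▸ hZf)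
      rcases hsub Z hZf with h | h
      · exact hZX (point_eq hml hZ h hm hX)
      · exact hmj (line_eq hZX hZ hm (by rw [h]; exact hj.2) hj.1)
  have hquad : ∃ A B C D : P, (σ • A = A ∧ σ • B = B ∧ σ • C = C ∧ σ • D = D) ∧ Quad L A B C D := by
    obtain ⟨O, -⟩ := @ProjectivePlane.exists_config P L _ _
    obtain ⟨l₀, -⟩ := exists_join (L := L) O O
    obtain ⟨A, hAl, hA⟩ := everyLine l₀
    obtain ⟨B, hB, hBA⟩ : ∃ B : P, σ • B = B ∧ B ≠ A := by
      obtain ⟨m, hm⟩ := Nondegenerate.exists_line (P := P) (L := L) A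
      obtain ⟨B, hBm, hB⟩ := everyLine m
      exact ⟨B, hB, fun e => hm (e ▸ hBm)⟩
    obtain ⟨c, hc, -⟩ := existsUnique_join (L := L) hBA
    have hBc : B ∈ c := hc.1
    have hAc : A ∈ c := hc.2
    obtain ⟨C, hC, hCc⟩ : ∃ C : P, σ • C = C ∧ C ∉ c := by
      by_contra hh
      push Not at hh
      exact axisOf c A fun Z hZ => .inl (hh Z hZ)
    obtain ⟨b, hAb, hCb⟩ : ∃ b : L, A ∈ b ∧ C ∈ b := exists_join A C
    obtain ⟨a, hBa, hCa⟩ : ∃ a : L, B ∈ a ∧ C ∈ a := exists_join B C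
    have hAC : A ≠ C := fun e => hCc (e ▸ hAc)
    have hBC : B ≠ C := fun e => hCc (e ▸ hBc)
    have hcb : c ≠ b := fun e => hCc (e ▸ hCb)
    have hca : c ≠ a := fun e => hCc (e ▸ hCa)
    have hab : a ≠ b := fun e => hCc (by
      rw [line_eq hBA hBc hAc (e ▸ hBa) hAb]; exact hCb)
    by_cases hoff : ∃ D : P, σ • D = D ∧ D ∉ a ∧ D ∉ b ∧ D ∉ c
    · obtain ⟨D, hD, hDa, hDb, hDc⟩ := hoff
      refine ⟨A, B, C, D, ⟨hA, hB, hC, hD⟩, fun l => ⟨?_, ?_, ?_, ?_⟩⟩
      · rintro ⟨h1, h2, h3⟩; exact hCc (by rw [line_eq hBA hBc hAc h2 h1]; exact h3)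
      · rintro ⟨h1, h2, h3⟩; exact hDc (by rw [line_eq hBA hBc hAc h2 h1]; exact h3)
      · rintro ⟨h1, h2, h3⟩
        exact hDb (by rw [line_eq hAC hAb hCb h1 h2]; exact h3)
      · rintro ⟨h1, h2, h3⟩
        exact hDa (by rw [line_eq hBC hBa hCa h1 h2]; exact h3)
    push Not at hoff
    -- further fixed points on two sides `w = UV`, `v = UW` give a quadrangle
    have quad2 : ∀ (U V W D E : P) (u v w : L), σ • V = V → σ • W = W → σ • D = D → σ • E = E →
        U ∈ w → V ∈ w → D ∈ w → U ∈ v → W ∈ v → E ∈ v → V ∈ u → W ∈ u → w ≠ v → u ≠ w → u ≠ v → V ≠ W →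
        D ≠ U → D ≠ V → E ≠ U → E ≠ W →
        ∃ A B C D : P, (σ • A = A ∧ σ • B = B ∧ σ • C = C ∧ σ • D = D) ∧ Quad L A B C D := by
      intro U V W D E u v w hV hW hD hE hUw hVw hDw hUv hWv hEv hVu hWu hwv huw huv hVW hDU hDV hEU hEW
      refine ⟨V, W, D, E, ⟨hV, hW, hD, hE⟩, fun l => ⟨?_, ?_, ?_, ?_⟩⟩
      · rintro ⟨h1, h2, h3⟩
        exact hDV (point_eq huw (by rw [line_eq hVW hVu hWu h1 h2]; exact h3) hDw hVu hVw)
      · rintro ⟨h1, h2, h3⟩
        exact hEW (point_eq huv (by rw [line_eq hVW hVu hWu h1 h2]; exact h3) hEv hWu hWv)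
      · rintro ⟨h1, h2, h3⟩
        exact hEU (point_eq hwv (by rw [line_eq hDV hDw hVw h2 h1]; exact h3) hEv hUw hUv)
      · rintro ⟨h1, h2, h3⟩
        exact hDU (point_eq hwv hDw (by rw [line_eq hEW hEv hWv h3 h1]; exact h2) hUw hUv)
    by_cases xc : ∃ D : P, σ • D = D ∧ D ∈ c ∧ D ≠ A ∧ D ≠ B
    · obtain ⟨D, hD, hDc, hDA, hDB⟩ := xc
      by_cases xb : ∃ E : P, σ • E = E ∧ E ∈ b ∧ E ≠ A ∧ E ≠ C
      · obtain ⟨E, hE, hEb, hEA, hEC⟩ := xb
        exact quad2 A B C D E a b c hB hC hD hE hAc hBc hDc hAb hCb hEb hBa hCa hcb hca.symm hab hBC hDA hDB hEA hEC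
      by_cases xa : ∃ E : P, σ • E = E ∧ E ∈ a ∧ E ≠ B ∧ E ≠ C
      · obtain ⟨E, hE, hEa, hEB, hEC⟩ := xa
        exact quad2 B A C D E b a c hA hC hD hE hBc hAc hDc hBa hCa hEa hAb hCb hca hcb.symm hab.symm hAC hDB hDA hEB hEC
      push Not at xa xb
      refine (axisOf c C fun Z hZ => ?_).elim
      by_cases h1 : Z ∈ a
      · by_cases hZB : Z = B
        · exact .inl (hZB ▸ hBc)
        · exact .inr (xa Z hZ h1 hZB)
      · by_cases h2 : Z ∈ b
        · by_cases hZA : Z = A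
          · exact .inl (hZA ▸ hAc)
          · exact .inr (xb Z hZ h2 hZA)
        · exact .inl (hoff Z hZ h1 h2)
    push Not at xc
    by_cases xb : ∃ E : P, σ • E = E ∧ E ∈ b ∧ E ≠ A ∧ E ≠ C
    · obtain ⟨E, hE, hEb, hEA, hEC⟩ := xb
      by_cases xa : ∃ D : P, σ • D = D ∧ D ∈ a ∧ D ≠ B ∧ D ≠ C
      · obtain ⟨D, hD, hDa, hDB, hDC⟩ := xa
        exact quad2 C B A D E c b a hB hA hD hE hCa hBa hDa hCb hAb hEb hBc hAc hab hca hcb hBA hDC hDB hEC hEA
      push Not at xa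
      refine (axisOf b B fun Z hZ => ?_).elim
      by_cases h1 : Z ∈ a
      · by_cases hZB : Z = B
        · exact .inr hZB
        · exact .inl (by rw [xa Z hZ h1 hZB]; exact hCb)
      · by_cases h2 : Z ∈ b
        · exact .inl h2
        · by_cases hZA : Z = A
          · exact .inl (hZA ▸ hAb)
          · exact .inr (xc Z hZ (hoff Z hZ h1 h2) hZA)
    push Not at xb
    refine (axisOf a A fun Z hZ => ?_).elim
    by_cases h1 : Z ∈ a
    · exact .inl h1
    · by_cases hZA : Z = A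
      · exact .inr hZA
      · by_cases h2 : Z ∈ b
        · exact .inl (by rw [xb Z hZ h2 hZA]; exact hCa)
        · exact .inl (by rw [xc Z hZ (hoff Z hZ h1 h2) hZA]; exact hBa)
  have hzp : ∀ x : P, σ • x = x → ∀ τ ∈ Subgroup.zpowers σ, τ • x = x := fun x hx τ hτ =>
    (Subgroup.zpowers_le (H := MulAction.stabilizer (Coll P L) x)).mpr hx hτ
  have hzpL : ∀ x : L, σ • x = x → ∀ τ ∈ Subgroup.zpowers σ, τ • x = x := fun x hx τ hτ =>
    (Subgroup.zpowers_le (H := MulAction.stabilizer (Coll P L) x)).mpr hx hτ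
  obtain ⟨A, B, C, D, ⟨hA, hB, hC, hD⟩, hquad⟩ := hquad
  have hX : HasQuad (Subgroup.zpowers σ) :=
    ⟨A, B, C, D, fun τ hτ => ⟨hzp A hA τ hτ, hzp B hB τ hτ, hzp C hC τ hτ, hzp D hD τ hτ⟩, hquad⟩
  refine ⟨hX, ?_⟩
  have hm := one_lt_fixOrder hX
  have hmn := fixOrder_lt hX fun e => hσ1 (Subgroup.zpowers_eq_bot.mp e)
  cases nonempty_fintype P
  cases nonempty_fintype L
  set m := fixOrder hX with hmdef
  set n := ProjectivePlane.order P L with hndef
  have hFp : Nat.card {p : P // σ • p = p} = m ^ 2 + m + 1 := by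
    rw [hmdef, ← card_fixP hX]
    exact Nat.card_congr (Equiv.subtypeEquivRight fun p =>
      ⟨fun h τ hτ => hzp p h τ hτ, fun h => h σ (Subgroup.mem_zpowers σ)⟩)
  have hline : ∀ l : L, Nat.card {p : P // p ∈ l ∧ σ • p = p} = 1 + if σ • l = l then m else 0 := fun l => by
    by_cases hl : σ • l = l
    · rw [if_pos hl, add_comm, hmdef, ← card_fix_on_line hX l fun τ hτ => hzpL l hl τ hτ]
      exact Nat.card_congr (Equiv.subtypeEquivRight fun p =>
        ⟨fun h => ⟨h.1, fun τ hτ => hzp p h.2 τ hτ⟩, fun h => ⟨h.1, h.2 σ (Subgroup.mem_zpowers σ)⟩⟩)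
    · rw [if_neg hl, add_zero, Nat.card_eq_one_iff_exists]
      obtain ⟨p, hp, hpf⟩ := everyLine l
      refine ⟨⟨p, hp, hpf⟩, fun q => Subtype.ext (by_contra fun hne => hl ?_)⟩
      exact smul_join_eq hne q.2.2 hpf q.2.1 hp
  have hpencil : ∀ p : {p : P // σ • p = p}, Nat.card {l : L // p.1 ∈ l} = n + 1 := fun p => card_pencil p.1
  have hcount : (n + 1) * (m ^ 2 + m + 1) = (n ^ 2 + n + 1) + m * (m ^ 2 + m + 1) := by
    have h1 : ∑ p : {p : P // σ • p = p}, Nat.card {l : L // p.1 ∈ l} = ∑ l : L, Nat.card {p : P // p ∈ l ∧ σ • p = p} := by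
      simp only [Nat.card_eq_fintype_card, ← Fintype.card_sigma]
      exact Fintype.card_congr
        { toFun := fun x => ⟨x.2.1, x.1.1, x.2.2, x.1.2⟩
          invFun := fun x => ⟨⟨x.2.1, x.2.2.2⟩, x.1, x.2.2.1⟩
          left_inv := fun _ => rfl
          right_inv := fun _ => rfl }
    rw [Finset.sum_congr rfl fun p _ => hpencil p, Finset.sum_congr rfl fun l _ => hline l, sum_ite_const,
      Finset.sum_const, Finset.card_univ, smul_eq_mul, ← Nat.card_eq_fintype_card, hFp, ← card_fixed_eq σ, hFp,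
      ← Nat.card_eq_fintype_card, card_lineSet (P := P)] at h1
    rw [mul_comm, h1]
  have hmul : ((n : ℤ) - m * m) * ((n : ℤ) - m) = 0 := by
    have h2 : ((n : ℤ) + 1) * (m ^ 2 + m + 1) = ((n : ℤ) ^ 2 + n + 1) + m * (m ^ 2 + m + 1) := by exact_mod_cast hcount
    linear_combination -h2
  rcases mul_eq_zero.mp hmul with h | h
  · have : (n : ℤ) = ((m * m : ℕ) : ℤ) := by push_cast; linarith
    exact_mod_cast this
  · have e : (n : ℤ) = m := by linarith
    have : n = m := by exact_mod_cast e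
    omega

end CfsgLib.OW
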