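import Cfsg.Agent.Lib.OstromWagner.Persp
import Mathlib.GroupTheory.Index

/-!
# Fixed points and fixed lines, orbits, doubly transitive collineation groups
-/

set_option autoImplicit false
set_option linter.unusedSectionVars false

namespace CfsgLib.OW

open Configuration

variable {P L : Type*} [Membership P L] [ProjectivePlane P L] [Finite P] [Finite L]

theorem sum_ite_const {α : Type*} [Fintype α] (q : α → Prop) [DecidablePred q] (c : ℕ) :
    ∑ x : α, (1 + if q x then c else 0) = Fintype.card α + c * Nat.card {x : α // q x} := by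
  rw [Finset.sum_add_distrib, ← Finset.sum_filter, Finset.sum_const, Finset.sum_const, smul_eq_mul,
    smul_eq_mul, mul_one, Finset.card_univ, Nat.card_eq_fintype_card, Fintype.card_subtype, mul_comm]

/-- a collineation fixes as many points as lines -/
theorem card_fixed_eq (σ : Coll P L) :
    Nat.card {p : P // σ • p = p} = Nat.card {l : L // σ • l = l} := by
  classical
  cases nonempty_fintype P
  cases nonempty_fintype L
  -- both sides count the incident pairs with image on the same line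
  have hP : ∑ p : P, Nat.card {l : L // p ∈ l ∧ σ • p ∈ l} =
      Fintype.card P + ProjectivePlane.order P L * Nat.card {p : P // σ • p = p} := by
    rw [← sum_ite_const]
    refine Finset.sum_congr rfl fun p _ => ?_
    by_cases hp : σ • p = p
    · rw [if_pos hp, add_comm, ← card_pencil (L := L) p]
      exact Nat.card_congr (Equiv.subtypeEquivRight fun l => by simp [hp])
    · rw [if_neg hp, add_zero, Nat.card_eq_one_iff_exists]
      obtain ⟨l, hl, hu⟩ := existsUnique_join (L := L) hp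
      exact ⟨⟨l, hl.2, hl.1⟩, fun m => Subtype.ext (hu m.1 ⟨m.2.2, m.2.1⟩)⟩
  have hL : ∑ l : L, Nat.card {p : P // p ∈ l ∧ σ • p ∈ l} =
      Fintype.card L + ProjectivePlane.order P L * Nat.card {l : L // σ • l = l} := by
    rw [← sum_ite_const]
    refine Finset.sum_congr rfl fun l _ => ?_
    by_cases hl : σ • l = l
    · rw [if_pos hl, add_comm, ← card_line (P := P) l]
      exact Nat.card_congr (Equiv.subtypeEquivRight fun p =>
        ⟨fun h => h.1, fun h => ⟨h, smul_line_mem hl h⟩⟩)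
    · rw [if_neg hl, add_zero, Nat.card_eq_one_iff_exists]
      have hne : l ≠ σ⁻¹ • l := fun e => hl ((inv_smul_eq_iff.mp e.symm).symm)
      obtain ⟨p, hp, hu⟩ := existsUnique_meet (P := P) hne
      exact ⟨⟨p, hp.1, (smul_mem_iff σ).mpr hp.2⟩,
        fun m => Subtype.ext (hu m.1 ⟨m.2.1, (smul_mem_iff σ).mp m.2.2⟩)⟩
  have hsum : ∑ p : P, Nat.card {l : L // p ∈ l ∧ σ • p ∈ l} = ∑ l : L, Nat.card {p : P // p ∈ l ∧ σ • p ∈ l} := by
    simp only [Nat.card_eq_fintype_card, ← Fintype.card_sigma]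
    exact Fintype.card_congr
      { toFun := fun x => ⟨x.2.1, x.1, x.2.2⟩
        invFun := fun x => ⟨x.2.1, x.1, x.2.2⟩
        left_inv := fun _ => rfl
        right_inv := fun _ => rfl }
  rw [hP, hL, ProjectivePlane.card_points_eq_card_lines P L] at hsum
  have hn := ProjectivePlane.one_lt_order P L
  exact Nat.eq_of_mul_eq_mul_left (show 0 < ProjectivePlane.order P L by omega) (Nat.add_left_cancel hsum)

/-- a group of collineations has as many orbits of points as of lines -/
theorem card_orbits_eq (X : Subgroup (Coll P L)) :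
    Nat.card (Quotient (MulAction.orbitRel X P)) = Nat.card (Quotient (MulAction.orbitRel X L)) := by
  classical
  cases nonempty_fintype P
  cases nonempty_fintype L
  have : Fintype X := Fintype.ofFinite _
  have : Fintype (Quotient (MulAction.orbitRel X P)) := Fintype.ofFinite _
  have : Fintype (Quotient (MulAction.orbitRel X L)) := Fintype.ofFinite _
  have h1 := MulAction.sum_card_fixedBy_eq_card_orbits_mul_card_group X P
  have h2 := MulAction.sum_card_fixedBy_eq_card_orbits_mul_card_group X L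
  have h3 : ∀ g : X, Fintype.card (MulAction.fixedBy P g) = Fintype.card (MulAction.fixedBy L g) := fun g => by
    rw [← Nat.card_eq_fintype_card, ← Nat.card_eq_fintype_card]
    exact card_fixed_eq (g : Coll P L)
  rw [Finset.sum_congr rfl fun g _ => h3 g, h2] at h1
  rw [Nat.card_eq_fintype_card, Nat.card_eq_fintype_card]
  exact (Nat.eq_of_mul_eq_mul_right Fintype.card_pos h1).symm

/-- two classes of points bound the classes of lines -/
theorem line_classes_le_two (X : Subgroup (Coll P L)) (f : P → Prop)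
    (hP : ∀ p q : P, (f p ↔ f q) → ∃ σ ∈ X, σ • p = q) (l₁ l₂ l₃ : L)
    (h12 : ∀ σ ∈ X, σ • l₁ ≠ l₂) (h13 : ∀ σ ∈ X, σ • l₁ ≠ l₃) : ∃ σ ∈ X, σ • l₂ = l₃ := by
  classical
  by_contra h23
  push Not at h23
  let QP := Quotient (MulAction.orbitRel X P)
  let QL := Quotient (MulAction.orbitRel X L)
  have hne : ∀ {l m : L}, (∀ σ ∈ X, σ • l ≠ m) → (Quotient.mk _ l : QL) ≠ Quotient.mk _ m := fun {l m} h e => by
    obtain ⟨g, hg⟩ := Quotient.exact e
    exact h _ g⁻¹.2 (by
      show ((g : Coll P L))⁻¹ • l = m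
      rw [inv_smul_eq_iff]; exact hg.symm)
  have h3 : 3 ≤ Nat.card QL := by
    rw [← Nat.card_fin 3]
    refine Nat.card_le_card_of_injective ![Quotient.mk _ l₁, Quotient.mk _ l₂, Quotient.mk _ l₃] ?_
    intro i j hij
    fin_cases i <;> fin_cases j <;>
      first
      | rfl
      | exact absurd hij (hne h12)
      | exact absurd hij (hne h13)
      | exact absurd hij (hne h23)
      | exact absurd hij.symm (hne h12)
      | exact absurd hij.symm (hne h13)
      | exact absurd hij.symm (hne h23)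
  have h2 : Nat.card QP ≤ 2 := by
    rw [← Nat.card_fin 2]
    refine Nat.card_le_card_of_injective (fun q => if f (Quotient.out q) then (0 : Fin 2) else 1) ?_
    intro q r hqr
    have hiff : f (Quotient.out q) ↔ f (Quotient.out r) := by
      by_cases hq : f (Quotient.out q) <;> by_cases hr : f (Quotient.out r) <;> simp [hq, hr] at hqr ⊢
    obtain ⟨σ, hσ, h⟩ := hP _ _ hiff
    have : (Quotient.mk _ (Quotient.out r) : QP) = Quotient.mk _ (Quotient.out q) :=
      Quotient.sound ⟨⟨σ, hσ⟩, h⟩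
    rw [Quotient.out_eq, Quotient.out_eq] at this
    exact this.symm
  have := card_orbits_eq X
  change Nat.card QP = Nat.card QL at this
  omega

/-- a line has a second point -/
theorem exists_point_ne (l : L) (A : P) : ∃ B : P, B ∈ l ∧ B ≠ A :=
  let ⟨B, h, hB, _⟩ := exists_point_on_ne l A A
  ⟨B, h, hB⟩

namespace TwoTransitive

variable {G : Subgroup (Coll P L)} (hG : TwoTransitive G)
include hG

theorem point (A B : P) : ∃ σ ∈ G, σ • A = B := by
  obtain ⟨l, -⟩ := exists_join (L := L) A B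
  obtain ⟨A', -, hA'⟩ := exists_point_ne l A
  obtain ⟨B', -, hB'⟩ := exists_point_ne l B
  obtain ⟨σ, hσ, h, -⟩ := hG A A' B B' hA'.symm hB'.symm
  exact ⟨σ, hσ, h⟩

theorem flag (A B : P) (l m : L) (hA : A ∈ l) (hB : B ∈ m) : ∃ σ ∈ G, σ • A = B ∧ σ • l = m := by
  obtain ⟨A', hA'l, hA'⟩ := exists_point_ne l A
  obtain ⟨B', hB'm, hB'⟩ := exists_point_ne m B
  obtain ⟨σ, hσ, h, h'⟩ := hG A A' B B' hA'.symm hB'.symm
  refine ⟨σ, hσ, h, line_eq hB'.symm ?_ ?_ hB hB'm⟩
  · rw [← h]; exact (smul_mem_smul σ).mpr hA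
  · rw [← h']; exact (smul_mem_smul σ).mpr hA'l

theorem line (l m : L) : ∃ σ ∈ G, σ • l = m := by
  obtain ⟨X, -⟩ := Nondegenerate.exists_point (P := P) l
  obtain ⟨A, hA, -⟩ := exists_point_on_ne (P := P) l X X
  obtain ⟨B, hB, -⟩ := exists_point_on_ne (P := P) m A A
  obtain ⟨σ, hσ, -, h⟩ := flag hG A B l m hA hB
  exact ⟨σ, hσ, h⟩

theorem antiflag (A B : P) (l m : L) (hA : A ∉ l) (hB : B ∉ m) : ∃ σ ∈ G, σ • A = B ∧ σ • l = m := by
  obtain ⟨g, hg, hgA⟩ := point hG A B
  have hgl : B ∉ g • l := fun e => hA (by rwa [← hgA, smul_mem_smul] at e)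
  let X : Subgroup (Coll P L) := G ⊓ MulAction.stabilizer (Coll P L) B
  obtain ⟨k, hk, -⟩ := exists_line_through_ne B m m
  have hsep : ∀ r : L, B ∉ r → ∀ σ ∈ X, σ • k ≠ r := fun r hr σ hσ e => hr (by
    rw [← e, ← (show σ • B = B from (Subgroup.mem_inf.mp hσ).2), smul_mem_smul]
    exact hk)
  have hcls : ∀ p q : P, (p = B ↔ q = B) → ∃ σ ∈ X, σ • p = q := fun p q hpq => by
    by_cases hp : p = B
    · exact ⟨1, X.one_mem, by rw [one_smul, hp, hpq.mp hp]⟩
    · obtain ⟨σ, hσ, h, h'⟩ := hG B p B q (Ne.symm hp) (Ne.symm fun e => hp (hpq.mpr e))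
      exact ⟨σ, Subgroup.mem_inf.mpr ⟨hσ, h⟩, h'⟩
  obtain ⟨τ, hτ, hτl⟩ := line_classes_le_two X (fun p => p = B) hcls k (g • l) m (hsep _ hgl) (hsep _ hB)
  exact ⟨τ * g, G.mul_mem hτ.1 hg, by rw [mul_smul, hgA]; exact (Subgroup.mem_inf.mp hτ).2,
    by rw [mul_smul, hτl]⟩

theorem pairLine (a b c d : L) (hab : a ≠ b) (hcd : c ≠ d) : ∃ σ ∈ G, σ • a = c ∧ σ • b = d := by
  obtain ⟨g, hg, hga⟩ := line hG a c
  have hgb : g • b ≠ c := fun e => hab (smul_left_cancel g (hga.trans e.symm))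
  let X : Subgroup (Coll P L) := G ⊓ MulAction.stabilizer (Coll P L) c
  have hsep : ∀ r : L, r ≠ c → ∀ σ ∈ X, σ • c ≠ r := fun r hr σ hσ e =>
    hr (e.symm.trans (Subgroup.mem_inf.mp hσ).2)
  have hcls : ∀ p q : P, (p ∈ c ↔ q ∈ c) → ∃ σ ∈ X, σ • p = q := fun p q hpq => by
    by_cases hp : p ∈ c
    · obtain ⟨σ, hσ, h, h'⟩ := flag hG p q c c hp (hpq.mp hp)
      exact ⟨σ, Subgroup.mem_inf.mpr ⟨hσ, h'⟩, h⟩
    · obtain ⟨σ, hσ, h, h'⟩ := antiflag hG p q c c hp fun e => hp (hpq.mpr e)
      exact ⟨σ, Subgroup.mem_inf.mpr ⟨hσ, h'⟩, h⟩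
  obtain ⟨τ, hτ, hτb⟩ := line_classes_le_two X (fun p => p ∈ c) hcls c (g • b) d
    (hsep _ hgb) (hsep _ (Ne.symm hcd))
  exact ⟨τ * g, G.mul_mem hτ.1 hg, by rw [mul_smul, hga]; exact (Subgroup.mem_inf.mp hτ).2,
    by rw [mul_smul, hτb]⟩

/-- the dual of a doubly transitive group -/
theorem dual : TwoTransitive (P := Dual L) (L := Dual P) (G.map (collDual (P := P) (L := L)).toMonoidHom) :=
  fun a b c d hab hcd => by
    obtain ⟨σ, hσ, h1, h2⟩ := pairLine hG a b c d hab hcd
    exact ⟨collDual σ, ⟨σ, hσ, rfl⟩, h1, h2⟩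

/-- the stabiliser of an antiflag is transitive on the points of the line -/
theorem antiflag_point (A W W' : P) (l : L) (hA : A ∉ l) (hW : W ∈ l) (hW' : W' ∈ l) :
    ∃ σ ∈ G, σ • A = A ∧ σ • l = l ∧ σ • W = W' := by
  classical
  let GA : Subgroup (Coll P L) := G ⊓ MulAction.stabilizer (Coll P L) A
  let H : Subgroup (Coll P L) := GA ⊓ MulAction.stabilizer (Coll P L) l
  have memGA : ∀ {σ}, σ ∈ GA ↔ σ ∈ G ∧ σ • A = A := Iff.rfl
  obtain ⟨c, hc, -⟩ := existsUnique_join (L := L) (p := A) (q := W) (fun e => hA (by rw [e]; exact hW))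
  obtain ⟨c', hc', -⟩ := existsUnique_join (L := L) (p := A) (q := W') (fun e => hA (by rw [e]; exact hW'))
  suffices ∃ σ ∈ H, σ • c = c' by
    obtain ⟨σ, hσ, h⟩ := this
    refine ⟨σ, hσ.1.1, hσ.1.2, hσ.2, point_eq (l := l) (m := c') (fun e => hA (e ▸ hc'.1)) ?_ ?_ hW' hc'.2⟩
    · exact smul_line_mem hσ.2 hW
    · rw [← h]; exact (smul_mem_smul σ).mpr hc.2
  have h1 : MulAction.orbit GA c = {m : L | A ∈ m} := Set.ext fun m => by
    constructor
    · rintro ⟨σ, rfl⟩
      show A ∈ (σ : Coll P L) • c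
      rw [← (memGA.mp σ.2).2, smul_mem_smul]
      exact hc.1
    · intro (hm : A ∈ m)
      obtain ⟨σ, hσ, h, h'⟩ := flag hG A A c m hc.1 hm
      exact ⟨⟨σ, memGA.mpr ⟨hσ, h⟩⟩, h'⟩
  have h2 : MulAction.orbit GA l = {m : L | A ∉ m} := Set.ext fun m => by
    constructor
    · rintro ⟨σ, rfl⟩
      show A ∉ (σ : Coll P L) • l
      rw [← (memGA.mp σ.2).2, smul_mem_smul]
      exact hA
    · intro (hm : A ∉ m)
      obtain ⟨σ, hσ, h, h'⟩ := antiflag hG A A l m hA hm
      exact ⟨⟨σ, memGA.mpr ⟨hσ, h⟩⟩, h'⟩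
  have e1 : (MulAction.stabilizer GA c).index = ProjectivePlane.order P L + 1 := by
    rw [MulAction.index_stabilizer, h1]
    exact card_pencil A
  have e2 : (MulAction.stabilizer GA l).index = ProjectivePlane.order P L ^ 2 := by
    rw [MulAction.index_stabilizer, h2]
    have hsum : {m : L | A ∈ m}.ncard + {m : L | A ∈ m}ᶜ.ncard = Nat.card L := Set.ncard_add_ncard_compl _
    have hp : {m : L | A ∈ m}.ncard = ProjectivePlane.order P L + 1 := card_pencil A
    rw [card_lineSet (P := P), hp] at hsum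
    show {m : L | A ∈ m}ᶜ.ncard = _
    omega
  have hcop : (MulAction.stabilizer GA c).index.Coprime (MulAction.stabilizer GA l).index := by
    rw [e1, e2]
    exact Nat.Coprime.pow_right 2 (Nat.coprime_add_self_left.mpr (Nat.coprime_one_left _) |> fun h => by
      rw [add_comm]; exact h)
  -- the orbit of `c` under the stabiliser of `l`
  set K := MulAction.stabilizer GA l
  have hle : Nat.card (MulAction.orbit K c) ≤ Nat.card (MulAction.orbit GA c) :=
    Nat.card_mono (Set.toFinite _) (by rintro _ ⟨σ, rfl⟩; exact ⟨(σ : GA), rfl⟩)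
  have hdvd : (MulAction.stabilizer GA c).index ∣ Nat.card (MulAction.orbit K c) := by
    have h3 : (MulAction.stabilizer K c).index = (MulAction.stabilizer GA c).relIndex K := rfl
    rw [Nat.card_coe_set_eq (MulAction.orbit K c), ← MulAction.index_stabilizer, h3]
    refine hcop.dvd_of_dvd_mul_left ?_
    rw [← Subgroup.inf_relIndex_right, mul_comm, Subgroup.relIndex_mul_index inf_le_right]
    exact Subgroup.index_dvd_of_le inf_le_left
  have heq : MulAction.orbit K c = MulAction.orbit GA c := by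
    refine Set.eq_of_subset_of_ncard_le (by rintro _ ⟨σ, rfl⟩; exact ⟨(σ : GA), rfl⟩) ?_ (Set.toFinite _)
    have : (MulAction.stabilizer GA c).index = Nat.card (MulAction.orbit GA c) := by
      rw [MulAction.index_stabilizer, Nat.card_coe_set_eq]
    rw [← Nat.card_coe_set_eq, ← Nat.card_coe_set_eq, ← this]
    have : Nonempty (MulAction.orbit K c) := ⟨⟨c, MulAction.mem_orbit_self c⟩⟩
    exact Nat.le_of_dvd Nat.card_pos hdvd
  have : c' ∈ MulAction.orbit K c := by rw [heq, h1]; exact hc'.1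
  obtain ⟨σ, hσ⟩ := this
  exact ⟨((σ : GA) : Coll P L), ⟨(σ : GA).2, σ.2⟩, hσ⟩

end TwoTransitive

end CfsgLib.OW
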