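import Cfsg.Agent.Lib.OstromWagner.Basic

/-!
# The translations with a given axis

When all elation groups of a plane are transitive, the translations with axis `a` form a commutative
group that is regular on the points off `a`; this file packages them as an additive group `V` with
one subgroup for every point of `a`.
-/

set_option autoImplicit false
set_option linter.unusedSectionVars false

namespace CfsgLib.OW.Coords

open Configuration

universe u v

variable {P : Type u} {L : Type v} [Membership P L] [ProjectivePlane P L]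

/-- every group of elations with given centre and axis is as transitive as possible -/
def ElTrans (P : Type u) (L : Type v) [Membership P L] : Prop :=
  ∀ (U : P) (a : L), U ∈ a → ∀ A B : P, A ∉ a → B ∉ a → (∃ l : L, U ∈ l ∧ A ∈ l ∧ B ∈ l) →
    ∃ σ : Coll P L, IsCentre σ U ∧ IsAxis σ a ∧ σ • A = B

theorem meet (l m : L) (h : l ≠ m) : ∃ p : P, p ∈ l ∧ p ∈ m :=
  (existsUnique_meet (P := P) h).exists

theorem ne_of_mem_of_not_mem {A : P} {l m : L} (h1 : A ∈ l) (h2 : A ∉ m) : l ≠ m :=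
  fun e => h2 (e ▸ h1)

theorem smul_line_of_fixed_pair {σ : Coll P L} {p q : P} {l : L} (hpl : p ∈ l) (hql : q ∈ l)
    (hne : p ≠ q) (hp : σ • p = p) (hq : σ • q = q) : σ • l = l :=
  smul_join_eq hne hp hq hpl hql

/-- A line has a point different from two given ones. -/
theorem exists_third [Finite P] [Finite L] (l : L) (p q : P) : ∃ r : P, r ∈ l ∧ r ≠ p ∧ r ≠ q := by
  classical
  have := Fintype.ofFinite P
  have h : 2 < (Finset.univ.filter fun r : P => r ∈ l).card := by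
    have h2 := ProjectivePlane.two_lt_pointCount (P := P) l
    rw [Configuration.pointCount, Nat.card_eq_fintype_card, Fintype.card_subtype] at h2
    exact h2
  have h' : (({p, q} : Finset P)).card < (Finset.univ.filter fun r : P => r ∈ l).card :=
    lt_of_le_of_lt Finset.card_le_two h
  obtain ⟨r, hr, hr'⟩ := Finset.exists_mem_notMem_of_card_lt_card h'
  simp only [Finset.mem_filter, Finset.mem_univ, true_and] at hr
  simp only [Finset.mem_insert, Finset.mem_singleton, not_or] at hr'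
  exact ⟨r, hr, hr'⟩

variable [Finite P] [Finite L]

/-- An elation fixing a point off its axis is trivial. -/
theorem eq_one_of_fixed {σ : Coll P L} {U A : P} {a : L} (hc : IsCentre σ U) (hx : IsAxis σ a)
    (hU : U ∈ a) (hA : A ∉ a) (hfix : σ • A = A) : σ = 1 := by
  have hUA : U ≠ A := fun e => hA (e ▸ hU)
  obtain ⟨b, hUb, hAb⟩ := exists_join (L := L) U A
  have hba : b ≠ a := ne_of_mem_of_not_mem hAb hA
  have lineA : ∀ l : L, A ∈ l → σ • l = l := fun l hl => by
    obtain ⟨Z, hZl, hZa⟩ := meet (P := P) l a (ne_of_mem_of_not_mem hl hA)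
    exact smul_line_of_fixed_pair hl hZl (fun e => hA (e ▸ hZa)) hfix (hx Z hZa)
  have offb : ∀ p : P, p ∉ b → σ • p = p := fun p hp => by
    obtain ⟨l, hUl, hpl⟩ := exists_join (L := L) U p
    obtain ⟨m, hAm, hpm⟩ := exists_join (L := L) A p
    refine smul_meet_eq ?_ (hc l hUl) (lineA m hAm) hpl hpm
    rintro rfl
    exact hp ((line_eq hUA hUl hAm hUb hAb) ▸ hpl)
  refine eq_one_of_forall_point fun p => ?_
  by_cases hpa : p ∈ a
  · exact hx p hpa
  by_cases hpb : p ∈ b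
  · obtain ⟨V, hVa, hVU, -⟩ := exists_third a U U
    obtain ⟨m, hVm, hpm⟩ := exists_join (L := L) V p
    have hVb : V ∉ b := fun e => hVU (point_eq hba e hVa hUb hU)
    have hmb : m ≠ b := ne_of_mem_of_not_mem hVm hVb
    obtain ⟨q, hqm, hqp, hqV⟩ := exists_third m p V
    have hqb : q ∉ b := fun e => hqp (point_eq hmb hqm e hpm hpb)
    exact smul_meet_eq hmb (smul_line_of_fixed_pair hqm hVm hqV (offb q hqb) (hx V hVa)) (hc b hUb)
      hpm hpb
  · exact offb p hpb

/-- A collineation with axis `a` fixing no point off `a` has its centre on `a`. -/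
theorem exists_centre {σ : Coll P L} {a : L} (hx : IsAxis σ a) {A : P} (hA : A ∉ a)
    (hfree : ∀ B : P, B ∉ a → σ • B ≠ B) : ∃ C : P, C ∈ a ∧ IsCentre σ C := by
  have key : ∀ B : P, B ∉ a → ∃ (l : L) (C : P), B ∈ l ∧ C ∈ l ∧ C ∈ a ∧ σ • l = l := by
    intro B hB
    obtain ⟨l, hBl, hBl'⟩ := exists_join (L := L) B (σ • B)
    obtain ⟨C, hCl, hCa⟩ := meet (P := P) l a (ne_of_mem_of_not_mem hBl hB)
    refine ⟨l, C, hBl, hCl, hCa, line_eq ?_ ((smul_mem_smul σ).mpr hBl) ?_ hBl' hCl⟩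
    · intro e
      refine hB ?_
      have h2 : σ • B = σ • C := e.trans (hx C hCa).symm
      exact (smul_left_cancel σ h2) ▸ hCa
    · exact hx C hCa ▸ (smul_mem_smul σ).mpr hCl
  obtain ⟨l, C, hAl, hCl, hCa, hl⟩ := key A hA
  refine ⟨C, hCa, fun m hm => ?_⟩
  by_cases hma : m = a
  · subst hma
    obtain ⟨D, hD, hDC, -⟩ := exists_third m C C
    exact smul_line_of_fixed_pair hm hD hDC.symm (hx C hCa) (hx D hD)
  obtain ⟨B, hBm, hBC, -⟩ := exists_third m C C
  have hBa : B ∉ a := fun e => hBC (point_eq hma hBm e hm hCa)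
  obtain ⟨k, D, hBk, hDk, hDa, hk⟩ := key B hBa
  have hkC : C ∈ k := by
    by_cases hlk : l = k
    · exact hlk ▸ hCl
    obtain ⟨p, hpl, hpk⟩ := meet (P := P) l k hlk
    have hp : σ • p = p := smul_meet_eq hlk hl hk hpl hpk
    have hpa : p ∈ a := by
      by_contra hpa
      exact hfree p hpa hp
    have : p = C := point_eq (ne_of_mem_of_not_mem hAl hA) hpl hpa hCl hCa
    exact this ▸ hpk
  rw [line_eq hBC hBm hm hBk hkC]
  exact hk

/-- the translations with axis `a` -/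
def trans (a : L) : Subgroup (Coll P L) where
  carrier := {σ | IsAxis σ a ∧ ∃ U : P, U ∈ a ∧ IsCentre σ U}
  one_mem' := by
    obtain ⟨D, hD, -⟩ := exists_third a (Classical.choose (Nondegenerate.exists_point (P := P) a))
      (Classical.choose (Nondegenerate.exists_point (P := P) a))
    exact ⟨IsAxis.one a, D, hD, IsCentre.one D⟩
  inv_mem' := fun ⟨hx, U, hU, hc⟩ => ⟨hx.inv, U, hU, hc.inv⟩
  mul_mem' := by
    rintro σ τ ⟨hσ, U, hU, hσU⟩ ⟨hτ, V, hV, hτV⟩
    refine ⟨hσ.mul hτ, ?_⟩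
    by_cases hUV : U = V
    · exact ⟨U, hU, hσU.mul (hUV ▸ hτV)⟩
    obtain ⟨A, hA⟩ := Nondegenerate.exists_point (P := P) a
    by_cases hfree : ∀ B : P, B ∉ a → (σ * τ) • B ≠ B
    · exact exists_centre (hσ.mul hτ) hA hfree
    push Not at hfree
    obtain ⟨B, hB, hfix⟩ := hfree
    rw [mul_smul] at hfix
    have h1 : τ • B = B := by
      obtain ⟨l, hVl, hBl⟩ := exists_join (L := L) V B
      obtain ⟨m, hUm, hBm⟩ := exists_join (L := L) U B
      by_contra hne
      have h2 : τ • B ∈ l := hτV l hVl ▸ (smul_mem_smul τ).mpr hBl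
      have h3 : τ • B ∈ m := by
        refine (smul_mem_smul σ).mp ?_
        rw [hfix, hσU m hUm]
        exact hBm
      have hlm : l = m := line_eq hne h2 hBl h3 hBm
      exact hUV (point_eq (ne_of_mem_of_not_mem hBm hB) hUm hU (hlm ▸ hVl) hV)
    have hτ1 := eq_one_of_fixed hτV hτ hV hB h1
    rw [h1] at hfix
    have hσ1 := eq_one_of_fixed hσU hσ hU hB hfix
    exact ⟨U, hU, by rw [hσ1, hτ1, one_mul]; exact IsCentre.one U⟩

theorem mem_trans {a : L} {σ : Coll P L} :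
    σ ∈ trans a ↔ IsAxis σ a ∧ ∃ U : P, U ∈ a ∧ IsCentre σ U := Iff.rfl

theorem trans_not_mem {a : L} {σ : Coll P L} (hs : σ ∈ trans a) {A : P} (hA : A ∉ a) :
    σ • A ∉ a := fun h => hA ((smul_left_cancel σ (hs.1 _ h).symm).symm ▸ h)

theorem trans_free {a : L} {σ τ : Coll P L} (hs : σ ∈ trans a) (ht : τ ∈ trans a) {A : P}
    (hA : A ∉ a) (h : σ • A = τ • A) : σ = τ := by
  obtain ⟨hx, U, hU, hc⟩ := (trans a).mul_mem ((trans a).inv_mem ht) hs
  refine (inv_mul_eq_one.mp (eq_one_of_fixed hc hx hU hA ?_)).symm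
  rw [mul_smul, h, inv_smul_smul]

variable (hel : ElTrans P L)
include hel

theorem trans_exists {a : L} {A B : P} (hA : A ∉ a) (hB : B ∉ a) :
    ∃ σ ∈ trans a, σ • A = B := by
  obtain ⟨l, hAl, hBl⟩ := exists_join (L := L) A B
  obtain ⟨U, hUl, hUa⟩ := meet (P := P) l a (ne_of_mem_of_not_mem hAl hA)
  obtain ⟨σ, hc, hx, he⟩ := hel U a hUa A B hA hB ⟨l, hUl, hAl, hBl⟩
  exact ⟨σ, ⟨hx, U, hUa, hc⟩, he⟩

omit hel in
/-- Translations with different centres commute. -/
theorem commute_of_ne {a : L} {σ τ : Coll P L} {U V : P} (hσ : IsAxis σ a) (hτ : IsAxis τ a)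
    (hU : U ∈ a) (hV : V ∈ a) (hσU : IsCentre σ U) (hτV : IsCentre τ V) (hUV : U ≠ V) :
    σ * τ = τ * σ := by
  have fixU : τ • U = U := hτ U hU
  have fixV : σ • V = V := hσ V hV
  have h1 : IsCentre (σ * (τ * σ⁻¹ * τ⁻¹)) U := hσU.mul (fixU ▸ hσU.inv.conj τ)
  have h2 : IsCentre (σ * τ * σ⁻¹ * τ⁻¹) V := (fixV ▸ hτV.conj σ).mul hτV.inv
  have hx : IsAxis (σ * τ * σ⁻¹ * τ⁻¹) a := ((hσ.mul hτ).mul hσ.inv).mul hτ.inv
  rw [← mul_assoc, ← mul_assoc] at h1
  obtain ⟨A, hA⟩ := Nondegenerate.exists_point (P := P) a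
  have h3 : (σ * τ * σ⁻¹ * τ⁻¹) • A = A := by
    obtain ⟨l, hUl, hAl⟩ := exists_join (L := L) U A
    obtain ⟨m, hVm, hAm⟩ := exists_join (L := L) V A
    refine smul_meet_eq ?_ (h1 l hUl) (h2 m hVm) hAl hAm
    rintro rfl
    exact hUV (point_eq (ne_of_mem_of_not_mem hAl hA) hUl hU hVm hV)
  have h4 := eq_one_of_fixed h1 hx hU hA h3
  rwa [mul_inv_eq_one, mul_inv_eq_iff_eq_mul] at h4

theorem trans_comm {a : L} {σ τ : Coll P L} (hs : σ ∈ trans a) (ht : τ ∈ trans a) :
    σ * τ = τ * σ := by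
  obtain ⟨hσ, U, hU, hσU⟩ := hs
  obtain ⟨hτ, V, hV, hτV⟩ := ht
  by_cases hUV : U = V
  swap
  · exact commute_of_ne hσ hτ hU hV hσU hτV hUV
  subst hUV
  obtain ⟨W, hW, hWU, -⟩ := exists_third a U U
  obtain ⟨A, hA⟩ := Nondegenerate.exists_point (P := P) a
  obtain ⟨l, hWl, hAl⟩ := exists_join (L := L) W A
  obtain ⟨B, hBl, hBA, hBW⟩ := exists_third l A W
  have hBa : B ∉ a := fun e => hBW (point_eq (ne_of_mem_of_not_mem hAl hA) hBl e hWl hW)
  obtain ⟨π, hπW, hπ, hπA⟩ := hel W a hW A B hA hBa ⟨l, hWl, hAl, hBl⟩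
  have hπ1 : π ≠ 1 := fun e => hBA (by rw [← hπA, e, one_smul])
  obtain ⟨hz, Z, hZ, hzZ⟩ := (trans a).mul_mem (mem_trans.mpr ⟨hσ, U, hU, hσU⟩)
    (mem_trans.mpr ⟨hπ, W, hW, hπW⟩)
  have c1 : π * τ = τ * π := commute_of_ne hπ hτ hW hU hπW hτV hWU
  have hZU : Z ≠ U := by
    intro e
    have hcU : IsCentre π U := inv_mul_cancel_left σ π ▸ hσU.inv.mul (e ▸ hzZ)
    refine hπ1 (eq_one_of_fixed (U := U) hcU hπ hU hA ?_)
    · obtain ⟨m, hUm, hAm⟩ := exists_join (L := L) U A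
      refine smul_meet_eq (l := l) (m := m) ?_ (hπW l hWl) (hcU m hUm) hAl hAm
      rintro rfl
      exact hWU (point_eq (ne_of_mem_of_not_mem hAl hA) hWl hW hUm hU)
  have c2 : σ * π * τ = τ * (σ * π) := commute_of_ne hz hτ hZ hU hzZ hτV hZU
  rw [mul_assoc, c1, ← mul_assoc, ← mul_assoc] at c2
  exact mul_right_cancel c2

end CfsgLib.OW.Coords
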